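/-
The Borel subgroup of a Suzuki group, and the elements that fix points of the ovoid.
-/
import Mathlib
import Cfsg.Agent.Lib.Suzuki.Dynamics

set_option autoImplicit false

namespace CfsgLib.Recognition.SzBorel

open Matrix Cfsg.Lie CfsgLib.Spectrum CfsgLib.SuzukiLaws CfsgLib.Suzuki

variable {F : Type*} [Field F] [Fintype F] [CharP F 2] {m : ℕ}
  (hF : Fintype.card F = 2 ^ (2 * m + 1))

/-- The stabiliser of the point at infinity. -/
noncomputable def borel : Subgroup (Sz F (2 ^ (m + 1))) :=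
  (MulAction.stabilizer (Cfsg.Sz F m) (inf : Cfsg.suzukiOvoid F m)).comap (toSL hF)

theorem mem_borel {g : Sz F (2 ^ (m + 1))} :
    g ∈ borel hF ↔ toSL hF g • inf = (inf : Cfsg.suzukiOvoid F m) := Iff.rfl

theorem isCoatom_borel (hm : 1 ≤ m) : IsCoatom (borel hF) := by
  haveI := two_pretransitive hF
  haveI : Nontrivial (Cfsg.suzukiOvoid F m) := ⟨⟨_, _, inf_ne_zero⟩⟩
  haveI := MulAction.isPreprimitive_of_is_two_pretransitive (two_pretransitive hF)
  have h := MulAction.IsPreprimitive.isCoatom_stabilizer_of_isPreprimitive (Cfsg.Sz F m)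
    (inf : Cfsg.suzukiOvoid F m)
  exact ((equiv hF hm).comapSubgroup.isCoatom_iff _).2 h

theorem sq_U (a b : F) : U hF a b * U hF a b = U hF 0 (a * a ^ 2 ^ (m + 1)) := by
  rw [U_mul, CharTwo.add_self_eq_zero, CharTwo.add_self_eq_zero, zero_add]

include hF in
theorem exists_sigma_root (b : F) : ∃ a : F, a * a ^ 2 ^ (m + 1) = b := by
  have h : Function.Surjective fun a : F => a * a ^ 2 ^ (m + 1) := by
    refine Finite.injective_iff_surjective.1 fun a c e => ?_
    rcases eq_or_ne c 0 with rfl | hc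
    · simpa [zero_pow] using e
    rw [← div_eq_one_iff_eq hc]
    refine eq_one_of_sigma hF ?_
    rw [pow_succ', div_pow, div_mul_div_comm, div_eq_one_iff_eq (mul_ne_zero hc (pow_ne_zero _ hc))]
    exact e
  exact h b

include hF in
/-- A subgroup containing the squares of the Borel subgroup contains it. -/
theorem borel_le (hm : 1 ≤ m) {H : Subgroup (Sz F (2 ^ (m + 1)))}
    (h : ∀ g ∈ borel hF, g * g ∈ H) : borel hF ≤ H := by
  have hT : ∀ s : Fˣ, T hF s ∈ H := by
    intro s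
    have hinj : Function.Injective fun t : Fˣ => t * t := fun a b e => by
      refine div_eq_one.1 (eq_one_of_sq ?_)
      rw [div_mul_div_comm]
      exact div_eq_one.2 e
    obtain ⟨t, ht⟩ : ∃ t : Fˣ, t * t = s := Finite.injective_iff_surjective.1 hinj s
    rw [← ht, ← T_mul]
    exact h _ (T_smul_inf hF t)
  have hU0 : ∀ b, U hF 0 b ∈ H := fun b => by
    obtain ⟨a, rfl⟩ := exists_sigma_root hF b
    rw [← sq_U hF a 0]
    exact h _ (U_smul_inf hF a 0)
  obtain ⟨s, hs⟩ := exists_sigma_ne hF hm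
  have hl : (s : F) ^ 2 ^ (m + 1) + 1 ≠ 0 := fun e => hs (by
    have e1 : (s : F) ^ 2 ^ (m + 1) = 1 := by rwa [CharTwo.add_eq_zero] at e
    have h2 := sigma_sq hF (s : F)
    rw [e1, one_pow] at h2
    rw [pow_add, e1, ← h2, one_mul])
  have hcom : ∀ x ∈ borel hF, ∀ y ∈ borel hF, x * y * x⁻¹ * y⁻¹ ∈ H := fun x hx y hy => by
    rw [show x * y * x⁻¹ * y⁻¹ = x * x * (x⁻¹ * y * (x⁻¹ * y)) * (y⁻¹ * y⁻¹) by group]
    exact mul_mem (mul_mem (h _ hx) (h _ (mul_mem (inv_mem hx) hy))) (h _ (inv_mem hy))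
  have hU : ∀ a b, U hF a b ∈ H := by
    intro a b
    set c := a / ((s : F) ^ 2 ^ (m + 1) + 1) with hc
    have h1 := hcom _ (T_smul_inf hF s) _ (U_smul_inf hF c 0 : U hF c 0 ∈ borel hF)
    rw [T_mul_U, mul_inv_cancel_right, U_inv, U_mul] at h1
    have h2 := mul_mem h1 (hU0 (b + ((s : F) ^ (2 ^ (m + 1) + 2) * 0 + (0 + c * c ^ 2 ^ (m + 1)) +
      (s : F) ^ 2 ^ (m + 1) * c * c ^ 2 ^ (m + 1))))
    rw [U_mul] at h2
    convert h2 using 2
    · rw [hc]; field_simp; ring
    · rw [zero_pow (by positivity)]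
      linear_combination (-(c * c ^ 2 ^ (m + 1)) - (s : F) ^ 2 ^ (m + 1) * c * c ^ 2 ^ (m + 1)) *
        (CharTwo.two_eq_zero : (2 : F) = 0)
  intro g hg
  obtain ⟨t, a, b, rfl⟩ := (stab_inf hF g).1 hg
  exact mul_mem (hT t) (hU a b)

include hF in
/-- A Borel element with unipotent centre normalised: conjugates of central involutions. -/
theorem exists_conj_center {g : Sz F (2 ^ (m + 1))} (hg : g ∈ borel hF) (b : F) :
    ∃ c : F, g⁻¹ * U hF 0 b * g = U hF 0 c := by
  obtain ⟨s, a, d, rfl⟩ := (stab_inf hF g).1 hg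
  refine ⟨(((s⁻¹ : Fˣ) : F)) ^ (2 ^ (m + 1) + 2) * b, ?_⟩
  have h := T_mul_U hF s⁻¹ 0 b
  rw [mul_zero] at h
  have hTi : (T hF s)⁻¹ = T hF s⁻¹ := inv_eq_of_mul_eq_one_right (by rw [T_mul, mul_inv_cancel, T_one])
  rw [_root_.mul_inv_rev, hTi, mul_assoc, mul_assoc, ← mul_assoc (T hF s⁻¹), h, mul_assoc,
    ← mul_assoc (T hF s⁻¹), T_mul, inv_mul_cancel, T_one, one_mul, inv_mul_eq_iff_eq_mul,
    U_mul, U_mul]
  congr 1
  · rw [zero_add, add_zero]
  · simp [zero_pow, add_comm]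

include hF in
theorem center_fix {b : F} (hb : b ≠ 0) {p : Cfsg.suzukiOvoid F m} (hp : toSL hF (U hF 0 b) • p = p) :
    p = inf := by
  by_contra h
  obtain ⟨⟨x, y⟩, hxy, huniq⟩ := existsUnique_U hF h
  dsimp only at hxy huniq
  rw [← hxy, smul_smul, ← map_mul, U_mul, hxy] at hp
  have := congrArg Prod.snd (huniq (_, _) hp)
  simp only [zero_mul, add_zero] at this
  exact hb (by simpa using this)

include hF in
theorem center_ne_one {b : F} (hb : b ≠ 0) : U hF 0 b ≠ 1 := fun e =>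
  hb (U_injective hF (e.trans (U_zero hF).symm)).2

include hF in
/-- Centraliser of a central involution lies in the Borel subgroup. -/
theorem commute_center {b : F} (hb : b ≠ 0) {c : Sz F (2 ^ (m + 1))} (hc : Commute c (U hF 0 b)) :
    c ∈ borel hF :=
  fix_of_commute hF (center_ne_one hF hb) hc (U_smul_inf hF 0 b)

include hF in
/-- Every involution is conjugate to a central one. -/
theorem exists_conj_involution (hm : 1 ≤ m) {z : Sz F (2 ^ (m + 1))} (hz : orderOf z = 2) :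
    ∃ (k : Sz F (2 ^ (m + 1))) (b : F), b ≠ 0 ∧ k⁻¹ * z * k = U hF 0 b := by
  haveI : Fact (Nat.Prime 2) := ⟨Nat.prime_two⟩
  obtain ⟨P, hP⟩ := (IsPGroup.of_card (p := 2) (n := 1)
    (by rw [Nat.card_zpowers, hz, pow_one]) : IsPGroup 2 (Subgroup.zpowers z)).exists_le_sylow
  obtain ⟨k, hk⟩ := MulAction.exists_smul_eq (Sz F (2 ^ (m + 1))) (sylow hF hm) P
  have h1 : z ∈ (P : Subgroup (Sz F (2 ^ (m + 1)))) := hP (Subgroup.mem_zpowers z)
  rw [← hk, Sylow.coe_subgroup_smul, coe_sylow] at h1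
  obtain ⟨u, ⟨a, b, rfl⟩, hu⟩ := h1
  have hu' : k * U hF a b * k⁻¹ = z := by simpa [MulAut.conj_apply] using hu
  have hsq : U hF a b * U hF a b = 1 := by
    have h := pow_orderOf_eq_one z
    rw [hz, pow_two, ← hu'] at h
    have : k * (U hF a b * U hF a b) * k⁻¹ = 1 := by rw [← h]; group
    exact conj_eq_one_iff.1 this
  rw [sq_U, ← U_zero hF] at hsq
  have ha : a = 0 := by
    rcases mul_eq_zero.1 (U_injective hF hsq).2 with h | h
    · exact h
    · exact (pow_eq_zero_iff (by positivity)).1 h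
  subst ha
  refine ⟨k, b, fun hb => ?_, by rw [← hu']; group⟩
  subst hb
  rw [U_zero, mul_one, mul_inv_cancel] at hu'
  rw [← hu', orderOf_one] at hz
  omega

include hF in
theorem T_two_fix {s : Fˣ} (hs : s ≠ 1) {p : Cfsg.suzukiOvoid F m} (hp : toSL hF (T hF s) • p = p) :
    p = inf ∨ p = Suzuki.zero := by
  by_contra h
  rw [not_or] at h
  exact hs (T_injective hF ((fix_three hF inf_ne_zero (Ne.symm h.2) (Ne.symm h.1) (T_smul_inf hF s)
    (T_smul_zero hF s) hp).trans (T_one hF).symm))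

include hF in
theorem commute_T {s : Fˣ} (hs : s ≠ 1) {c : Sz F (2 ^ (m + 1))} (hc : Commute c (T hF s)) :
    ∃ t, c = T hF t := by
  have hne : T hF s ≠ 1 := fun e => hs (T_injective hF (e.trans (T_one hF).symm))
  exact (stab_two hF c).1 ⟨fix_of_commute hF hne hc (T_smul_inf hF s),
    fix_of_commute hF hne hc (T_smul_zero hF s)⟩

include hF in
/-- An element of odd order has no fixed point or is conjugate into the torus. -/
theorem fpf_or_torus {h : Sz F (2 ^ (m + 1))} (hodd : Odd (orderOf h)) (h1 : h ≠ 1) :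
    Fpf hF h ∨ ∃ (k : Sz F (2 ^ (m + 1))) (s : Fˣ), s ≠ 1 ∧ k⁻¹ * h * k = T hF s := by
  refine or_iff_not_imp_left.2 fun hf => ?_
  simp only [Fpf, not_forall, not_not] at hf
  obtain ⟨p, hp⟩ := hf
  obtain ⟨r, hr, hrp⟩ : ∃ r, toSL hF h • r = r ∧ r ≠ p := by
    by_contra hn
    push Not at hn
    obtain ⟨k, hk⟩ := exists_smul_inf hF p
    have hu : k⁻¹ * h * k ∈ unip hF := mem_unip_of_fix hF ((conj_fix hF inf).2 (by rw [hk]; exact hp))
      fun x hx => MulAction.injective (toSL hF k) ((hn _ ((conj_fix hF x).1 hx)).trans hk.symm)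
    have h2 : orderOf h ∣ 2 ^ ((2 * m + 1) * 2) := by
      rw [← MulEquiv.orderOf_eq (MulAut.conj k⁻¹) h, MulAut.conj_apply, inv_inv, pow_mul, ← hF,
        ← card_unip hF]
      exact Subgroup.orderOf_dvd_natCard _ hu
    exact h1 (orderOf_eq_one_iff.1 (Nat.eq_one_of_dvd_coprimes
      (hodd.coprime_two_right.pow_right _) dvd_rfl h2))
  obtain ⟨k, k1, k2⟩ := exists_smul_pair hF hrp.symm
  obtain ⟨s, hs⟩ := (stab_two hF (k⁻¹ * h * k)).1
    ⟨(conj_fix hF inf).2 (by rw [k1]; exact hp), (conj_fix hF zero).2 (by rw [k2]; exact hr)⟩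
  refine ⟨k, s, fun e => h1 ?_, hs⟩
  rw [e, T_one] at hs
  calc h = k * (k⁻¹ * h * k) * k⁻¹ := by group
    _ = 1 := by rw [hs]; group

include hF in
theorem T_mul_U_zero (t : Fˣ) (b : F) :
    T hF t * U hF 0 (((t⁻¹ : Fˣ) : F) ^ (2 ^ (m + 1) + 2) * b) = U hF 0 b * T hF t := by
  rw [T_mul_U, mul_zero, ← mul_assoc, ← mul_pow, ← Units.val_mul, mul_inv_cancel, Units.val_one,
    one_pow, one_mul]

include hF in
/-- An element of odd order, not the identity, has centraliser of odd order. -/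
theorem odd_of_commute (hm : 1 ≤ m) {h c : Sz F (2 ^ (m + 1))} (hodd : Odd (orderOf h)) (h1 : h ≠ 1)
    (hc : Commute c h) : Odd (orderOf c) := by
  by_contra hev
  rw [Nat.not_odd_iff_even] at hev
  set z := c ^ (orderOf c / 2) with hz
  have hoz : orderOf z = 2 := orderOf_pow_orderOf_div (orderOf_pos c).ne' hev.two_dvd
  obtain ⟨k, b, hb, hk⟩ := exists_conj_involution hF hm hoz
  have hhz : Commute (k⁻¹ * h * k) (U hF 0 b) := by
    rw [← hk]
    have h' : Commute h z := (hc.symm).pow_right _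
    show _ * _ = _ * _
    rw [show k⁻¹ * h * k * (k⁻¹ * z * k) = k⁻¹ * (h * z) * k by group, h'.eq]
    group
  obtain ⟨t, a, d, ht⟩ := (stab_inf hF _).1 (commute_center hF hb hhz)
  rcases eq_or_ne t 1 with rfl | ht1
  · rw [T_one, one_mul] at ht
    have hu : k⁻¹ * h * k ∈ unip hF := ⟨a, d, ht⟩
    have h2 : orderOf h ∣ 2 ^ ((2 * m + 1) * 2) := by
      rw [← MulEquiv.orderOf_eq (MulAut.conj k⁻¹) h, MulAut.conj_apply, inv_inv, pow_mul, ← hF,
        ← card_unip hF]
      exact Subgroup.orderOf_dvd_natCard _ hu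
    exact h1 (orderOf_eq_one_iff.1 (Nat.eq_one_of_dvd_coprimes
      (hodd.coprime_two_right.pow_right _) dvd_rfl h2))
  · have e := hhz.eq
    rw [ht, mul_assoc, U_mul, T_mul_U, ← mul_assoc (U hF 0 b), ← T_mul_U_zero hF t b, mul_assoc (T hF t),
      U_mul, T_mul_U] at e
    obtain ⟨-, e2⟩ := U_injective hF (mul_right_cancel e)
    have hx : ((t⁻¹ : Fˣ) : F) ^ (2 ^ (m + 1) + 2) = 1 := by
      have hne : (t : F) ^ (2 ^ (m + 1) + 2) ≠ 0 := pow_ne_zero _ t.ne_zero
      have e3 := mul_left_cancel₀ hne e2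
      simp only [zero_pow (by positivity : (2 : ℕ) ^ (m + 1) ≠ 0), mul_zero, zero_mul, add_zero] at e3
      have e4 : b = ((t⁻¹ : Fˣ) : F) ^ (2 ^ (m + 1) + 2) * b := by linear_combination e3
      exact (mul_eq_right₀ hb).1 e4.symm
    exact ht1 (by simpa using (Units.ext (eq_one_of_sigma_two hF hx) : t⁻¹ = 1))

end CfsgLib.Recognition.SzBorel
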