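/-
Central kernels of stem extensions: complements in a Sylow subgroup, abelian Sylow subgroups.
-/
import Mathlib
import Cfsg.Agent.Lib.Solvable.Gaschutz

set_option autoImplicit false

namespace CfsgLib.Recognition.CoverKernel

open Subgroup

variable {Γ : Type*} [Group Γ] [Finite Γ]

/-- A central `p`-subgroup inside the derived group with a complement in a subgroup of index prime to
`p` is trivial. -/
theorem eq_bot_of_complement {p : ℕ} [hp : Fact p.Prime] {A : Subgroup Γ} (hAc : A ≤ center Γ)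
    (hA' : A ≤ commutator Γ) (hAp : IsPGroup p A) {U B : Subgroup Γ} (hidx : ¬ p ∣ U.index)
    (hAU : A ≤ U) (hBU : B ≤ U) (hBA : B ⊓ A = ⊥) (hsup : A ⊔ B = U) : A = ⊥ := by
  haveI : A.Normal := ⟨fun a ha g => by rwa [mem_center_iff.1 (hAc ha) g, mul_inv_cancel_right]⟩
  obtain ⟨n, hn⟩ := IsPGroup.iff_card.1 hAp
  have hcop : (Nat.card A).Coprime U.index := by
    rw [hn]; exact ((hp.out.coprime_iff_not_dvd).2 hidx).pow_left n
  obtain ⟨H, hH⟩ := CfsgLib.Solvable.gaschutz_exists A U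
    (fun x hx y _ => (mem_center_iff.1 (hAc hx) y).symm) hAU hcop B hBU hBA hsup
  have hdec : ∀ g : Γ, ∃ a ∈ A, ∃ h ∈ H, g = a * h := fun g => by
    obtain ⟨⟨a, h⟩, e⟩ := hH.2 g
    exact ⟨a, a.2, h, h.2, e.symm⟩
  have hle : commutator Γ ≤ H := by
    rw [_root_.commutator_def, commutator_le]
    intro x _ y _
    obtain ⟨a, ha, h, hh, rfl⟩ := hdec x
    obtain ⟨b, hb, k, hk, rfl⟩ := hdec y
    have ca : ∀ g, g * a = a * g := fun g => mem_center_iff.1 (hAc ha) g
    have cb : ∀ g, g * b = b * g := fun g => mem_center_iff.1 (hAc hb) g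
    have e : a * h * (b * k) * (a * h)⁻¹ * (b * k)⁻¹ = h * k * h⁻¹ * k⁻¹ := by
      have e1 : a * h * (b * k) * (a * h)⁻¹ = b * (h * k * h⁻¹) := by
        rw [mul_inv_rev, show a * h * (b * k) * (h⁻¹ * a⁻¹) = a * (h * b * (k * h⁻¹)) * a⁻¹ by group,
          cb h, ← ca, mul_inv_cancel_right]
        group
      rw [e1, mul_inv_rev, show b * (h * k * h⁻¹) * (k⁻¹ * b⁻¹) = b * (h * k * h⁻¹ * k⁻¹) * b⁻¹ by group,
        ← cb, mul_inv_cancel_right]
    rw [commutatorElement_def, e]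
    exact mul_mem (mul_mem (mul_mem hh hk) (inv_mem hh)) (inv_mem hk)
  exact le_bot_iff.1 ((le_inf le_rfl (hA'.trans hle)).trans hH.disjoint.eq_bot.le)

/-- With an abelian Sylow `p`-subgroup the order of a central subgroup of the derived group is prime
to `p`. -/
theorem not_dvd_of_abelian_sylow {p : ℕ} [hp : Fact p.Prime] {A : Subgroup Γ} (hAc : A ≤ center Γ)
    (hA' : A ≤ commutator Γ) (P : Sylow p Γ) (hP : ∀ x ∈ P, ∀ y ∈ P, x * y = y * x) :
    ¬ p ∣ Nat.card A := by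
  intro hdvd
  obtain ⟨a, ha⟩ := exists_prime_orderOf_dvd_card' p hdvd
  have hac : ∀ g, g * (a : Γ) = a * g := fun g => mem_center_iff.1 (hAc a.2) g
  have ho : orderOf (a : Γ) = p := by rw [Subgroup.orderOf_coe]; exact ha
  haveI : (zpowers (a : Γ)).Normal := ⟨fun x hx g => by
    rwa [mem_center_iff.1 ((zpowers_le.2 (hAc a.2)) hx) g, mul_inv_cancel_right]⟩
  have hmem : (a : Γ) ∈ P := by
    obtain ⟨Q, hQ⟩ := (IsPGroup.of_card (n := 1) (by rw [Nat.card_zpowers, ho, pow_one]) :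
      IsPGroup p (zpowers (a : Γ))).exists_le_sylow
    obtain ⟨g, rfl⟩ := MulAction.exists_smul_eq Γ Q P
    show (a : Γ) ∈ (g • Q : Sylow p Γ).toSubgroup
    rw [Sylow.coe_subgroup_smul]
    exact ⟨a, hQ (mem_zpowers _), show g * a * g⁻¹ = a by rw [hac, mul_inv_cancel_right]⟩
  letI : CommGroup ↥(P : Subgroup Γ) := { (inferInstance : Group ↥(P : Subgroup Γ)) with
    mul_comm := fun x y => Subtype.ext (hP _ x.2 _ y.2) }
  have h1 : MonoidHom.transfer (MonoidHom.id ↥(P : Subgroup Γ)) (a : Γ) = 1 :=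
    Abelianization.commutator_subset_ker _ (hA' a.2)
  rw [MonoidHom.transfer_eq_pow _ _ fun k g _ => by
    rw [mem_center_iff.1 (pow_mem (hAc a.2) k) g⁻¹, inv_mul_cancel_right]] at h1
  have h2 : (a : Γ) ^ (P : Subgroup Γ).index = 1 := congrArg Subtype.val h1
  rw [← orderOf_dvd_iff_pow_eq_one, ho] at h2
  exact P.not_dvd_index h2

end CfsgLib.Recognition.CoverKernel
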