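/-
The Schur multiplier of the Suzuki groups `Sz(q)`, `q ≥ 32`, is trivial.
-/
import Mathlib
import Cfsg.Prelude.Def_KGroupFacts
import Cfsg.Agent.Lib.Schur.Trivial
import Cfsg.Agent.Lib.Suzuki.Dynamics
import Cfsg.Agent.Lib.Suzuki.Sylow
import Cfsg.Agent.Lib.Recognition.Suzuki.Borel
import Cfsg.Agent.Lib.Recognition.Suzuki.CoverKernel

set_option autoImplicit false

namespace CfsgLib.Recognition.SzMult

open Matrix Cfsg.Lie CfsgLib.Spectrum CfsgLib.SuzukiLaws CfsgLib.Suzuki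

section Pairing

variable {F : Type*} [Field F] [CharP F 2] {M : Type*} [Group M]

/-- An invariant biadditive map with a non-additive weight is trivial. -/
theorem pairing_eq_one (β : F → F → M) (hl : ∀ x x' y, β (x + x') y = β x y * β x' y)
    (hr : ∀ x y y', β x (y + y') = β x y * β x y') (φ : F → F) (hφ : ∀ l, l ≠ 0 → φ l ≠ 0)
    (h : ∀ l x y, l ≠ 0 → β (l * x) (φ l * y) = β x y)
    (hne : ∃ l : F, l ≠ 0 ∧ 1 + l ≠ 0 ∧ (φ 1)⁻¹ + (φ l)⁻¹ + (φ (1 + l))⁻¹ ≠ 0) (x y : F) :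
    β x y = 1 := by
  have h0 : ∀ x, β x 0 = 1 := fun x => by
    have := hr x 0 0
    rw [add_zero] at this
    exact left_eq_mul.1 this
  have hs : ∀ l x y, l ≠ 0 → β (l * x) y = β x ((φ l)⁻¹ * y) := fun l x y hl0 => by
    have := h l x ((φ l)⁻¹ * y) hl0
    rwa [← mul_assoc, mul_inv_cancel₀ (hφ l hl0), one_mul] at this
  obtain ⟨l, h1, h2, h3⟩ := hne
  have key : ∀ y, β x (((φ 1)⁻¹ + (φ l)⁻¹ + (φ (1 + l))⁻¹) * y) = 1 := fun y => by
    rw [add_mul, add_mul, hr, hr, ← hs 1 x y one_ne_zero, ← hs l x y h1, ← hl, ← hs (1 + l) x y h2,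
      ← add_mul, ← hl, CharTwo.add_self_eq_zero]
    have := hl 0 0 y
    rw [add_zero] at this
    exact left_eq_mul.1 this
  have := key (((φ 1)⁻¹ + (φ l)⁻¹ + (φ (1 + l))⁻¹)⁻¹ * y)
  rwa [← mul_assoc, mul_inv_cancel₀ h3, one_mul] at this

end Pairing

variable {F : Type*} [Field F] [Fintype F] [CharP F 2] {m : ℕ}

open Polynomial in
omit [CharP F 2] in
theorem exists_not_root (P : F[X]) (hP : P ≠ 0) (hd : P.natDegree < Fintype.card F) :
    ∃ l, P.eval l ≠ 0 := by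
  by_contra h
  simp only [not_exists, not_not] at h
  exact hP (eq_zero_of_natDegree_lt_card_of_eval_eq_zero P (f := id) Function.injective_id h hd)

omit [CharP F 2] in
theorem ne_linear (hq : 8 ≤ Fintype.card F) :
    ∃ l : F, l ≠ 0 ∧ 1 + l ≠ 0 ∧ l * l + l + 1 ≠ 0 := by
  open Polynomial in
  obtain ⟨l, hl⟩ := exists_not_root (X * (1 + X) * (X * X + X + 1) : F[X])
    (mul_ne_zero (mul_ne_zero X_ne_zero fun h => by simpa using congrArg (fun P : F[X] => P.coeff 0) h)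
      fun h => by simpa using congrArg (fun P : F[X] => P.coeff 0) h)
    (lt_of_le_of_lt (by compute_degree) (show 4 < Fintype.card F by omega))
  simp only [Polynomial.eval_mul, Polynomial.eval_add, Polynomial.eval_X, Polynomial.eval_one,
    mul_ne_zero_iff] at hl
  exact ⟨l, hl.1.1, hl.1.2, hl.2⟩

variable (hF : Fintype.card F = 2 ^ (2 * m + 1))

include hF in
theorem ne_twisted (hm : 2 ≤ m) : ∃ l : F, l ≠ 0 ∧ 1 + l ≠ 0 ∧
    (1 * 1 ^ 2 ^ (m + 1) : F)⁻¹ + (l * l ^ 2 ^ (m + 1))⁻¹ + ((1 + l) * (1 + l) ^ 2 ^ (m + 1))⁻¹ ≠ 0 := by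
  set e := 2 ^ (m + 1) with he
  have he1 : 4 ≤ e := (show 4 ≤ 2 ^ 2 by norm_num).trans (Nat.pow_le_pow_right two_pos (by omega))
  have hcard : 2 * e + 4 < Fintype.card F := by
    have e1 : 2 * e + 4 ≤ 3 * e := by omega
    have e2 : Fintype.card F = e * 2 ^ m := by rw [hF, he, ← pow_add]; congr 1; omega
    have e3 : 4 ≤ 2 ^ m := (show 4 ≤ 2 ^ 2 by norm_num).trans (Nat.pow_le_pow_right two_pos hm)
    calc 2 * e + 4 ≤ e * 3 := by omega
      _ < e * 2 ^ m := by exact Nat.mul_lt_mul_of_pos_left (by omega) (by omega)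
      _ = _ := e2.symm
  open Polynomial in
  obtain ⟨l, hl⟩ := exists_not_root (X * (1 + X) *
      ((X * X ^ e) * ((1 + X) * (1 + X ^ e)) + (1 + X) * (1 + X ^ e) + X * X ^ e) : F[X])
    (fun h => by
      refine mul_ne_zero (mul_ne_zero X_ne_zero ?_) ?_ h
      · intro h'
        have h0 := congrArg (fun P : F[X] => P.coeff 0) h'
        simp at h0
      · intro h'
        have h0 := congrArg (fun P : F[X] => P.coeff 0) h'
        simp [coeff_X_pow, mul_coeff_zero, Nat.ne_of_lt (show 0 < e by omega)] at h0)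
    (lt_of_le_of_lt (by compute_degree; omega) hcard)
  simp only [Polynomial.eval_mul, Polynomial.eval_add, Polynomial.eval_X, Polynomial.eval_one,
    Polynomial.eval_pow, mul_ne_zero_iff] at hl
  obtain ⟨⟨h1, h2⟩, h3⟩ := hl
  refine ⟨l, h1, h2, ?_⟩
  have hadd : (1 + l) ^ e = 1 + l ^ e := by rw [he, add_pow_char_pow, one_pow]
  rw [hadd, one_pow, one_mul, inv_one]
  have hA : l * l ^ e ≠ 0 := mul_ne_zero h1 (pow_ne_zero _ h1)
  have hB : (1 + l) * (1 + l ^ e) ≠ 0 := by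
    rw [← hadd]; exact mul_ne_zero h2 (pow_ne_zero _ h2)
  intro h
  refine h3 ?_
  generalize l * l ^ e = A at hA h ⊢
  generalize (1 + l) * (1 + l ^ e) = B at hB h ⊢
  have e1 : (1 + A⁻¹ + B⁻¹) * (A * B) = A * B + B + A := by field_simp
  rw [h, zero_mul] at e1
  exact e1.symm

/-- The commutator. -/
def cm {Γ : Type*} [Group Γ] (x y : Γ) : Γ := x * y * x⁻¹ * y⁻¹

theorem sigma_ne_one {s : Fˣ} (hs : s ≠ 1) : (s : F) ^ 2 ^ (m + 1) ≠ 1 := fun h => by
  refine hs (Units.ext (iterateFrobenius_inj F 2 (m + 1) ?_))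
  rw [iterateFrobenius_def, iterateFrobenius_def, h, Units.val_one, one_pow]

include hF in
theorem sigma_two_ne_one {s : Fˣ} (hs : s ≠ 1) : (s : F) ^ (2 ^ (m + 1) + 2) ≠ 1 := fun h =>
  hs (Units.ext (eq_one_of_sigma_two hF h))

variable {Γ : Type*} [Group Γ] [Finite Γ] (σ : Γ →* Sz F (2 ^ (m + 1)))

/-- The preimage of the centre of the unipotent radical. -/
def preCenter : Subgroup Γ where
  carrier := {x | ∃ b, σ x = U hF 0 b}
  one_mem' := ⟨0, by rw [map_one, U_zero]⟩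
  mul_mem' := by
    rintro x y ⟨b, hb⟩ ⟨c, hc⟩
    exact ⟨b + c, by rw [map_mul, hb, hc, U_mul, zero_add, zero_mul, add_zero]⟩
  inv_mem' := by
    rintro x ⟨b, hb⟩
    exact ⟨b, by rw [map_inv, hb, U_inv, zero_mul, add_zero]⟩

include hF in
/-- The kernel is trivial if `q ≥ 32`, or if the lifts of the unipotent radical and of its centre
commute. -/
theorem kernel_two_eq_bot' (hm : 1 ≤ m) (hpair : 2 ≤ m ∨ ∀ (x y : Γ) (a b : F),
      σ x = U hF a 0 → σ y = U hF 0 b → cm x y = 1) (hsurj : Function.Surjective σ)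
    (hc : σ.ker ≤ Subgroup.center Γ) (h' : σ.ker ≤ commutator Γ) (h2 : IsPGroup 2 σ.ker) :
    σ.ker = ⊥ := by
  haveI : Fact (Nat.Prime 2) := ⟨Nat.prime_two⟩
  have hq : 8 ≤ Fintype.card F := by
    rw [hF]
    exact (show 8 ≤ 2 ^ 3 by norm_num).trans (Nat.pow_le_pow_right two_pos (by omega))
  choose L hL using hsurj
  have hz : ∀ z ∈ σ.ker, ∀ g : Γ, g * z = z * g := fun z hz g => Subgroup.mem_center_iff.1 (hc hz) g
  have hmod : ∀ x y : Γ, σ x = σ y → ∃ z ∈ σ.ker, x = z * y := fun x y e =>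
    ⟨x * y⁻¹, by rw [MonoidHom.mem_ker, map_mul, map_inv, e, mul_inv_cancel], by rw [inv_mul_cancel_right]⟩
  set S := (unip hF).comap σ with hSdef
  set P := preCenter hF σ with hPdef
  have hPS : P ≤ S := fun x ⟨b, hb⟩ => ⟨0, b, hb⟩
  have hSmem : ∀ a b, L (U hF a b) ∈ S := fun a b => ⟨a, b, hL _⟩
  have hPmem : ∀ b, L (U hF 0 b) ∈ P := fun b => ⟨b, hL _⟩
  have hcm_congr : ∀ x x' y y' : Γ, σ x = σ x' → σ y = σ y' → cm x y = cm x' y' := by
    intro x x' y y' ex ey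
    obtain ⟨z, hzm, rfl⟩ := hmod x x' ex
    obtain ⟨w, hwm, rfl⟩ := hmod y y' ey
    unfold cm
    rw [show z * x' * (w * y') * (z * x')⁻¹ * (w * y')⁻¹ = z * (x' * w) * (y' * x'⁻¹) * z⁻¹ * (y'⁻¹ * w⁻¹) by group,
      hz w hwm x', show z * (w * x') * (y' * x'⁻¹) * z⁻¹ = z * (w * x' * (y' * x'⁻¹)) * z⁻¹ by group,
      ← hz z hzm, mul_inv_cancel_right, show w * x' * (y' * x'⁻¹) * (y'⁻¹ * w⁻¹) = w * (x' * y' * x'⁻¹ * y'⁻¹) * w⁻¹ by group,
      ← hz w hwm, mul_inv_cancel_right]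
  have hcm_conj : ∀ g x y : Γ, cm (g * x * g⁻¹) (g * y * g⁻¹) = g * cm x y * g⁻¹ := fun g x y => by
    unfold cm; group
  have hcm_r : ∀ x y y' : Γ, (∀ g ∈ S, g * cm x y' = cm x y' * g) → y ∈ S →
      cm x (y * y') = cm x y * cm x y' := fun x y y' h hy => by
    rw [show cm x (y * y') = cm x y * (y * cm x y' * y⁻¹) by unfold cm; group, h y hy,
      mul_inv_cancel_right]
  have hcm_l : ∀ x x' y : Γ, (∀ g ∈ S, g * cm x' y = cm x' y * g) → x ∈ S →
      cm (x * x') y = cm x' y * cm x y := fun x x' y h hx => by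
    rw [show cm (x * x') y = x * cm x' y * x⁻¹ * cm x y by unfold cm; group, h x hx,
      mul_inv_cancel_right]
  -- the torus
  set t : Fˣ → Γ := fun s => L (T hF s) with htdef
  have htU : ∀ s a b, σ (t s * L (U hF a b) * (t s)⁻¹) =
      σ (L (U hF ((s : F) ^ 2 ^ (m + 1) * a) ((s : F) ^ (2 ^ (m + 1) + 2) * b))) := fun s a b => by
    rw [map_mul, map_mul, map_inv, hL, hL, hL, T_conj_U]
  have hroot : ∀ r : F, r ≠ 0 → ∃ s : Fˣ, (s : F) ^ 2 ^ (m + 1) = r := fun r hr => by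
    obtain ⟨s, hs⟩ := (bijective_iterateFrobenius F 2 (m + 1)).2 r
    rw [iterateFrobenius_def] at hs
    exact ⟨Units.mk0 s fun e => hr (by rw [← hs, e, zero_pow (by positivity)]), hs⟩
  have hwt : ∀ s : Fˣ, (s : F) ^ (2 ^ (m + 1) + 2) =
      (s : F) ^ 2 ^ (m + 1) * ((s : F) ^ 2 ^ (m + 1)) ^ 2 ^ (m + 1) := fun s => by
    rw [sigma_sq hF, pow_add]
  -- the centre lifts to an abelian group
  have hbb : ∀ b b', cm (L (U hF 0 b)) (L (U hF 0 b')) = 1 := by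
    set β : F → F → Γ := fun b b' => cm (L (U hF 0 b)) (L (U hF 0 b'))
    have hcen : ∀ b b', ∀ g : Γ, g * β b b' = β b b' * g := fun b b' => hz _ <| by
      show σ (cm _ _) = 1
      unfold cm
      rw [map_mul, map_mul, map_mul, map_inv, map_inv, hL, hL, U_mul, zero_add, zero_mul, add_zero,
        add_comm b b', show U hF 0 (b' + b) = U hF 0 b' * U hF 0 b by
          rw [U_mul, zero_add, zero_mul, add_zero], mul_inv_cancel_right, mul_inv_cancel]
    have hsum : ∀ b b', σ (L (U hF 0 (b + b'))) = σ (L (U hF 0 b) * L (U hF 0 b')) := fun b b' => by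
      rw [map_mul, hL, hL, hL, U_mul, zero_add, zero_mul, add_zero]
    obtain ⟨l, l1, l2, l3⟩ := ne_linear hq
    refine pairing_eq_one β (fun x x' y => ?_) (fun x y y' => ?_) id (fun _ h => h) (fun r x y hr => ?_)
      ⟨l, l1, l2, fun h => l3 ?_⟩
    · show cm _ _ = _
      rw [hcm_congr _ _ _ _ (hsum x x') rfl, hcm_l _ _ _ (fun g _ => hcen x' y g) (hSmem _ _)]
      exact hcen x y _
    · show cm _ _ = _
      rw [hcm_congr _ _ _ _ rfl (hsum y y')]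
      exact hcm_r _ _ _ (fun g _ => hcen x y' g) (hSmem _ _)
    · obtain ⟨c, hc'⟩ := CfsgLib.Recognition.SzBorel.exists_sigma_root hF r
      have hc0 : c ≠ 0 := fun e => hr (by rw [← hc', e, zero_mul])
      obtain ⟨s, hs⟩ := hroot c hc0
      have e : (s : F) ^ (2 ^ (m + 1) + 2) = r := by rw [hwt, hs, hc']
      show cm _ _ = _
      rw [id, ← e, hcm_congr _ _ _ _ (by rw [htU s 0 x, mul_zero]) (by rw [htU s 0 y, mul_zero]),
        hcm_conj]
      exact (congrArg (· * (t s)⁻¹) (hcen x y (t s))).trans (mul_inv_cancel_right _ _)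
    · simp only [id, inv_one] at h
      field_simp at h
      linear_combination h - l * (CharTwo.two_eq_zero : (2 : F) = 0)
  have hPP : ∀ x ∈ P, ∀ y ∈ P, x * y = y * x := by
    rintro x ⟨b, hb⟩ y ⟨c, hc'⟩
    have := (hcm_congr x _ y _ (hb.trans (hL _).symm) (hc'.trans (hL _).symm)).trans (hbb b c)
    rwa [cm, mul_inv_eq_one, mul_inv_eq_iff_eq_mul] at this
  -- a fixed torus element
  obtain ⟨s₀, hs₀⟩ : ∃ s : Fˣ, s ≠ 1 := by
    obtain ⟨l, l1, l2, -⟩ := ne_linear hq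
    refine ⟨Units.mk0 l l1, fun e => l2 ?_⟩
    rw [show l = 1 from congrArg Units.val e, CharTwo.add_self_eq_zero]
  set t₀ := t s₀
  set f : Γ → Γ := fun x => t₀ * x * t₀⁻¹ * x⁻¹ with hfdef
  have hconjP : ∀ s, ∀ x ∈ P, t s * x * (t s)⁻¹ ∈ P := by
    rintro s x ⟨b, hb⟩
    exact ⟨(s : F) ^ (2 ^ (m + 1) + 2) * b, by rw [map_mul, map_mul, map_inv, hb, hL, T_conj_U, mul_zero]⟩
  have hfP : ∀ x ∈ P, f x ∈ P := fun x hx => mul_mem (hconjP s₀ x hx) (inv_mem hx)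
  have hfmulP : ∀ x ∈ P, ∀ y ∈ P, f (x * y) = f x * f y := fun x hx y hy => by
    show _ = t₀ * x * t₀⁻¹ * x⁻¹ * (t₀ * y * t₀⁻¹ * y⁻¹)
    rw [show t₀ * x * t₀⁻¹ * x⁻¹ * (t₀ * y * t₀⁻¹ * y⁻¹) = t₀ * x * t₀⁻¹ * (x⁻¹ * f y) by
      simp only [hfdef]; group, hPP _ (inv_mem hx) _ (hfP y hy)]
    simp only [hfdef]; group
  let B₀ : Subgroup Γ :=
    { carrier := {z | ∃ x ∈ P, z = f x}
      one_mem' := ⟨1, one_mem _, by simp [hfdef]⟩
      mul_mem' := by
        rintro _ _ ⟨x, hx, rfl⟩ ⟨y, hy, rfl⟩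
        exact ⟨x * y, mul_mem hx hy, (hfmulP x hx y hy).symm⟩
      inv_mem' := by
        rintro _ ⟨x, hx, rfl⟩
        refine ⟨x⁻¹, inv_mem hx, inv_eq_of_mul_eq_one_right ?_⟩
        rw [← hfmulP x hx _ (inv_mem hx)]
        simp [hfdef] }
  have hB₀P : B₀ ≤ P := fun z ⟨x, hx, e⟩ => e ▸ hfP x hx
  set μ : F := (s₀ : F) ^ (2 ^ (m + 1) + 2) + 1
  have hμ : μ ≠ 0 := fun h => sigma_two_ne_one hF hs₀ (CharTwo.add_eq_zero.1 h)
  have hσf : ∀ x, ∀ b, σ x = U hF 0 b → σ (f x) = U hF 0 (μ * b) := fun x b hb => by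
    simp only [hfdef]
    rw [map_mul, map_mul, map_mul, map_inv, map_inv, hb, hL, T_conj_U, U_inv, U_mul, mul_zero, zero_mul,
      add_zero, add_zero, add_zero, add_mul, one_mul]
  have hB₀Z : ∀ z ∈ B₀, z ∈ σ.ker → z = 1 := by
    rintro _ ⟨x, ⟨b, hb⟩, rfl⟩ hk
    rw [MonoidHom.mem_ker, hσf x b hb, ← U_zero hF] at hk
    have := (U_injective hF hk).2
    rw [mul_eq_zero, or_iff_right hμ] at this
    rw [this, U_zero] at hb
    simp only [hfdef]
    rw [hz x (MonoidHom.mem_ker.2 hb) t₀, mul_inv_cancel_right, mul_inv_cancel]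
  have hPdec : ∀ y ∈ P, ∃ z ∈ σ.ker, ∃ w ∈ B₀, y = z * w := by
    rintro y ⟨b, hb⟩
    obtain ⟨z, hz', e⟩ := hmod y (f (L (U hF 0 (μ⁻¹ * b)))) (by
      rw [hb, hσf _ _ (hL _), ← mul_assoc, mul_inv_cancel₀ hμ, one_mul])
    exact ⟨z, hz', _, ⟨_, hPmem _, rfl⟩, e⟩
  -- the centre lifts into the centre
  have hSP : ∀ g ∈ S, ∀ y ∈ P, g * y = y * g := by
    set β : F → F → Γ := fun a b => cm (L (U hF a 0)) (L (U hF 0 b))
    have hcen : ∀ a b, ∀ g : Γ, g * β a b = β a b * g := fun a b => hz _ <| by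
      show σ (cm _ _) = 1
      unfold cm
      rw [map_mul, map_mul, map_mul, map_inv, map_inv, hL, hL, mul_inv_eq_one, mul_inv_eq_iff_eq_mul,
        U_mul, U_mul]
      congr 1 <;> simp [add_comm, zero_pow]
    have hsumb : ∀ b b', σ (L (U hF 0 (b + b'))) = σ (L (U hF 0 b) * L (U hF 0 b')) := fun b b' => by
      rw [map_mul, hL, hL, hL, U_mul, zero_add, zero_mul, add_zero]
    have hbad : ∀ c b, cm (L (U hF 0 c)) (L (U hF 0 b)) = 1 := hbb
    have hsplit : ∀ a c, σ (L (U hF a c)) = σ (L (U hF 0 c) * L (U hF a 0)) := fun a c => by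
      rw [map_mul, hL, hL, hL, U_mul, zero_add, add_zero, zero_mul, add_zero]
    have hgen : ∀ a c b, cm (L (U hF a c)) (L (U hF 0 b)) = β a b := fun a c b => by
      rw [hcm_congr _ _ _ _ (hsplit a c) rfl, hcm_l _ _ _ (fun g _ => hcen a b g) (hSmem _ _), hbad,
        mul_one]
    have hβ : ∀ a b, β a b = 1 := by
      rcases hpair with hm2 | hp
      swap
      · exact fun a b => hp _ _ a b (hL _) (hL _)
      obtain ⟨l, l1, l2, l3⟩ := ne_twisted hF hm2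
      refine pairing_eq_one β (fun x x' y => ?_) (fun x y y' => ?_) (fun r => r * r ^ 2 ^ (m + 1))
        (fun r h => mul_ne_zero h (pow_ne_zero _ h)) (fun r x y hr => ?_) ⟨l, l1, l2, l3⟩
      · obtain ⟨d, hd⟩ : ∃ d, σ (L (U hF x 0) * L (U hF x' 0)) = σ (L (U hF (x + x') d)) :=
          ⟨_, by rw [map_mul, hL, hL, hL, U_mul]⟩
        rw [← hgen (x + x') d y, ← hcm_congr _ _ _ _ hd rfl,
          hcm_l _ _ _ (fun g _ => hcen x' y g) (hSmem _ _)]
        exact hcen x y _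
      · show cm _ _ = _
        rw [hcm_congr _ _ _ _ rfl (hsumb y y')]
        exact hcm_r _ _ _ (fun g _ => hcen x y' g) (hSmem _ _)
      · obtain ⟨s, hs⟩ := hroot r hr
        show cm _ _ = _
        rw [← hs, ← hwt, hcm_congr _ _ _ _ (by rw [htU s x 0, mul_zero]) (by rw [htU s 0 y, mul_zero]),
          hcm_conj]
        exact (congrArg (· * (t s)⁻¹) (hcen x y (t s))).trans (mul_inv_cancel_right _ _)
    rintro g ⟨a, c, hg⟩ y ⟨b, hb⟩
    have := (hcm_congr g _ y _ (hg.trans (hL _).symm) (hb.trans (hL _).symm)).trans ((hgen a c b).trans (hβ a b))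
    rwa [cm, mul_inv_eq_one, mul_inv_eq_iff_eq_mul] at this
  -- commutators of the preimage of the radical
  have hcmP : ∀ x ∈ S, ∀ y ∈ S, cm x y ∈ P := by
    rintro x ⟨a, b, hx⟩ y ⟨c, d, hy⟩
    refine ⟨a * c ^ 2 ^ (m + 1) + c * a ^ 2 ^ (m + 1), ?_⟩
    unfold cm
    rw [map_mul, map_mul, map_mul, map_inv, map_inv, hx, hy, mul_inv_eq_iff_eq_mul, mul_inv_eq_iff_eq_mul,
      U_mul, U_mul, U_mul, zero_add, zero_mul, add_zero]
    congr 1
    · ring
    · linear_combination (-(c * a ^ 2 ^ (m + 1))) * (CharTwo.two_eq_zero : (2 : F) = 0)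
  let B₁ : Subgroup P := B₀.subgroupOf P
  haveI hB₁ : B₁.Normal := ⟨fun n hn g => by
    have : g * n = n * g := Subtype.ext (hPP _ g.2 _ n.2)
    rw [this, mul_inv_cancel_right]; exact hn⟩
  have hconjB : ∀ s, ∀ y ∈ P, cm (t s) y ∈ B₀ := by
    intro s y hy
    obtain ⟨z, hz', _, ⟨x, hx, rfl⟩, rfl⟩ := hPdec y hy
    have e : cm (t s) (z * f x) = f (t s * x * (t s)⁻¹) * (f x)⁻¹ := by
      obtain ⟨w, hw, ew⟩ := hmod (t s * t₀) (t₀ * t s) (by
        rw [map_mul, map_mul, hL, hL, T_mul, T_mul, mul_comm])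
      have e1 : t s * f x * (t s)⁻¹ = f (t s * x * (t s)⁻¹) := by
        simp only [hfdef]
        rw [show t s * (t₀ * x * t₀⁻¹ * x⁻¹) * (t s)⁻¹ =
          (t s * t₀) * x * (t s * t₀)⁻¹ * (t s * x⁻¹ * (t s)⁻¹) by group, ew,
          show w * (t₀ * t s) * x * (w * (t₀ * t s))⁻¹ = w * ((t₀ * t s) * x * (t₀ * t s)⁻¹) * w⁻¹ by group,
          ← hz w hw, mul_inv_cancel_right]
        group
      rw [← e1]
      unfold cm
      rw [show t s * (z * f x) * (t s)⁻¹ * (z * f x)⁻¹ = t s * z * (f x * (t s)⁻¹ * (f x)⁻¹) * z⁻¹ by group,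
        hz z hz' (t s), show z * t s * (f x * (t s)⁻¹ * (f x)⁻¹) * z⁻¹ =
          z * (t s * f x * (t s)⁻¹ * (f x)⁻¹) * z⁻¹ by group, ← hz z hz', mul_inv_cancel_right]
    rw [e]
    exact mul_mem ⟨_, hconjP s x hx, rfl⟩ (inv_mem ⟨x, hx, rfl⟩)
  have hAA : ∀ x ∈ S, ∀ y ∈ S, cm x y ∈ B₀ := by
    set β : F → F → P ⧸ B₁ := fun a c =>
      QuotientGroup.mk' B₁ ⟨cm (L (U hF a 0)) (L (U hF c 0)), hcmP _ (hSmem _ _) _ (hSmem _ _)⟩
    have hsplit : ∀ a c, σ (L (U hF a c)) = σ (L (U hF 0 c) * L (U hF a 0)) := fun a c => by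
      rw [map_mul, hL, hL, hL, U_mul, zero_add, add_zero, zero_mul, add_zero]
    have hcPS : ∀ x ∈ S, ∀ y ∈ S, ∀ g ∈ S, g * cm x y = cm x y * g := fun x hx y hy g hg =>
      hSP g hg _ (hcmP x hx y hy)
    have hgen : ∀ a b c d, cm (L (U hF a b)) (L (U hF c d)) = cm (L (U hF a 0)) (L (U hF c 0)) := by
      intro a b c d
      have e1 : ∀ b, ∀ y ∈ S, cm (L (U hF 0 b)) y = 1 := fun b y hy => by
        rw [cm, mul_inv_eq_one, mul_inv_eq_iff_eq_mul, hSP y hy _ (hPmem b)]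
      have e2 : ∀ b, ∀ x ∈ S, cm x (L (U hF 0 b)) = 1 := fun b x hx => by
        rw [cm, mul_inv_eq_one, mul_inv_eq_iff_eq_mul, hSP x hx _ (hPmem b)]
      rw [hcm_congr _ _ _ _ (hsplit a b) (hsplit c d),
        hcm_l _ _ _ (hcPS _ (hSmem _ _) _ (mul_mem (hSmem _ _) (hSmem _ _))) (hSmem _ _),
        e1 b _ (mul_mem (hSmem _ _) (hSmem _ _)), mul_one,
        hcm_r _ _ _ (hcPS _ (hSmem _ _) _ (hSmem _ _)) (hSmem _ _), e2 d _ (hSmem _ _), one_mul]
    have hβ : ∀ a c, β a c = 1 := by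
      obtain ⟨l, l1, l2, l3⟩ := ne_linear hq
      refine pairing_eq_one β (fun x x' y => ?_) (fun x y y' => ?_) id (fun _ h => h) (fun r x y hr => ?_)
        ⟨l, l1, l2, fun h => l3 ?_⟩
      · obtain ⟨d, hd⟩ : ∃ d, σ (L (U hF x 0) * L (U hF x' 0)) = σ (L (U hF (x + x') d)) :=
          ⟨_, by rw [map_mul, hL, hL, hL, U_mul]⟩
        show QuotientGroup.mk' B₁ _ = QuotientGroup.mk' B₁ _ * QuotientGroup.mk' B₁ _
        rw [← map_mul]
        congr 1
        refine Subtype.ext ?_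
        show cm _ _ = cm _ _ * cm _ _
        rw [← hgen (x + x') d y 0, ← hcm_congr _ _ _ _ hd rfl,
          hcm_l _ _ _ (hcPS _ (hSmem _ _) _ (hSmem _ _)) (hSmem _ _)]
        exact hPP _ (hcmP _ (hSmem _ _) _ (hSmem _ _)) _ (hcmP _ (hSmem _ _) _ (hSmem _ _))
      · obtain ⟨d, hd⟩ : ∃ d, σ (L (U hF y 0) * L (U hF y' 0)) = σ (L (U hF (y + y') d)) :=
          ⟨_, by rw [map_mul, hL, hL, hL, U_mul]⟩
        show QuotientGroup.mk' B₁ _ = QuotientGroup.mk' B₁ _ * QuotientGroup.mk' B₁ _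
        rw [← map_mul]
        congr 1
        refine Subtype.ext ?_
        show cm _ _ = cm _ _ * cm _ _
        rw [← hgen x 0 (y + y') d, ← hcm_congr _ _ _ _ rfl hd]
        exact hcm_r _ _ _ (hcPS _ (hSmem _ _) _ (hSmem _ _)) (hSmem _ _)
      · obtain ⟨s, hs⟩ := hroot r hr
        show QuotientGroup.mk' B₁ _ = QuotientGroup.mk' B₁ _
        rw [QuotientGroup.mk'_eq_mk']
        refine ⟨⟨_, inv_mem (hcmP _ (hSmem (r * x) 0) _ (hSmem (id r * y) 0))⟩ *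
          ⟨_, hcmP _ (hSmem x 0) _ (hSmem y 0)⟩, ?_, Subtype.ext (mul_inv_cancel_left _ _)⟩
        show (cm _ _)⁻¹ * cm _ _ ∈ B₀
        rw [id, ← hs, hcm_congr _ _ _ _ (by rw [htU s x 0, mul_zero]) (by rw [htU s y 0, mul_zero]),
          hcm_conj]
        have h5 := inv_mem (hconjB s _ (hcmP _ (hSmem x 0) _ (hSmem y 0)))
        rw [cm, _root_.mul_inv_rev, inv_inv, ← hPP _ (inv_mem (hconjP s _ (hcmP _ (hSmem x 0) _ (hSmem y 0)))) _
          (hcmP _ (hSmem x 0) _ (hSmem y 0))] at h5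
        exact h5
      · simp only [id, inv_one] at h
        field_simp at h
        linear_combination h - l * (CharTwo.two_eq_zero : (2 : F) = 0)
    rintro x ⟨a, b, hx⟩ y ⟨c, d, hy⟩
    rw [hcm_congr x _ y _ (hx.trans (hL _).symm) (hy.trans (hL _).symm), hgen]
    exact (QuotientGroup.eq_one_iff (N := B₁) _).1 (hβ a c)
  -- the complement
  have hconjS : ∀ x ∈ S, t₀ * x * t₀⁻¹ ∈ S := by
    rintro x ⟨a, b, hx⟩
    exact ⟨_, _, by rw [map_mul, map_mul, map_inv, hx, hL, T_conj_U]⟩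
  have hfS : ∀ y ∈ S, f y ∈ S := fun y hy => mul_mem (hconjS y hy) (inv_mem hy)
  have hfmul : ∀ y ∈ S, ∀ y' ∈ S, (f y * f y')⁻¹ * f (y * y') ∈ B₀ := by
    intro y hy y' hy'
    have e : (f y * f y')⁻¹ * f (y * y') = cm (f y')⁻¹ y := by
      simp only [hfdef, cm]; group
    rw [e]
    exact hAA _ (inv_mem (hfS y' hy')) y hy
  have hBc : ∀ g ∈ S, ∀ w ∈ B₀, g * w = w * g := fun g hg w hw => hSP g hg w (hB₀P hw)
  let V : Subgroup Γ :=
    { carrier := {x | ∃ y ∈ S, ∃ w ∈ B₀, x = f y * w}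
      one_mem' := ⟨1, one_mem _, 1, one_mem _, by simp [hfdef]⟩
      mul_mem' := by
        rintro _ _ ⟨y, hy, w, hw, rfl⟩ ⟨y', hy', w', hw', rfl⟩
        refine ⟨y * y', mul_mem hy hy', ((f y * f y')⁻¹ * f (y * y'))⁻¹ * (w * w'),
          mul_mem (inv_mem (hfmul y hy y' hy')) (mul_mem hw hw'), ?_⟩
        rw [show f y * w * (f y' * w') = f y * (w * f y') * w' by group, ← hBc _ (hfS y' hy') w hw]
        group
      inv_mem' := by
        rintro _ ⟨y, hy, w, hw, rfl⟩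
        refine ⟨y⁻¹, inv_mem hy, ((f y * f y⁻¹)⁻¹ * f (y * y⁻¹)) * w⁻¹,
          mul_mem (hfmul y hy y⁻¹ (inv_mem hy)) (inv_mem hw), ?_⟩
        rw [show f y⁻¹ * ((f y * f y⁻¹)⁻¹ * f (y * y⁻¹) * w⁻¹) = (f y)⁻¹ * f (y * y⁻¹) * w⁻¹ by group,
          mul_inv_cancel y, show f 1 = 1 by simp [hfdef], mul_one, _root_.mul_inv_rev,
          ← hBc _ (inv_mem (hfS y hy)) _ (inv_mem hw)] }
  set ν : F := (s₀ : F) ^ 2 ^ (m + 1) + 1
  have hν : ν ≠ 0 := fun h => sigma_ne_one hs₀ (CharTwo.add_eq_zero.1 h)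
  have hσfS : ∀ y a b, σ y = U hF a b → ∃ d, σ (f y) = U hF (ν * a) d := fun y a b hy => by
    simp only [hfdef]
    rw [map_mul, map_mul, map_mul, map_inv, map_inv, hy, hL, T_conj_U, U_inv, U_mul, add_mul, one_mul]
    exact ⟨_, rfl⟩
  have hidx : ¬ 2 ∣ S.index := by
    rw [hSdef, Subgroup.index_comap_of_surjective _ (fun x => ⟨L x, hL x⟩)]
    exact not_dvd_index hF (by omega)
  refine CoverKernel.eq_bot_of_complement hc h' h2 hidx (B := V)
    (fun z hz' => ⟨0, 0, by rw [MonoidHom.mem_ker.1 hz', U_zero]⟩) ?_ ?_ ?_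
  · rintro _ ⟨y, hy, w, hw, rfl⟩
    exact mul_mem (hfS y hy) (hPS (hB₀P hw))
  · rw [eq_bot_iff]
    rintro _ ⟨⟨y, ⟨a, b, hy⟩, w, hw, rfl⟩, hk⟩
    obtain ⟨d, hd⟩ := hσfS y a b hy
    obtain ⟨c, hc'⟩ := hB₀P hw
    have hk' : σ (f y * w) = 1 := hk
    rw [map_mul, hd, hc', U_mul, ← U_zero hF, add_zero] at hk'
    obtain rfl : a = 0 := ((mul_eq_zero.1 (U_injective hF hk').1).resolve_left hν)
    exact Subgroup.mem_bot.2 (hB₀Z _ (mul_mem ⟨y, ⟨b, hy⟩, rfl⟩ hw) hk)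
  · refine le_antisymm (sup_le (fun z hz' => ⟨0, 0, by rw [MonoidHom.mem_ker.1 hz', U_zero]⟩) ?_) fun x hx => ?_
    · rintro _ ⟨y, hy, w, hw, rfl⟩
      exact mul_mem (hfS y hy) (hPS (hB₀P hw))
    · obtain ⟨a, b, hx'⟩ := hx
      set y := L (U hF (ν⁻¹ * a) 0)
      obtain ⟨d, hd⟩ := hσfS y _ _ (hL _)
      rw [← mul_assoc, mul_inv_cancel₀ hν, one_mul] at hd
      have hxy : (f y)⁻¹ * x ∈ P := ⟨b + d, by
        rw [map_mul, map_inv, hd, hx', inv_mul_eq_iff_eq_mul, U_mul, add_zero, zero_pow (by positivity),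
          mul_zero, add_zero]
        congr 1
        linear_combination (-d) * (CharTwo.two_eq_zero : (2 : F) = 0)⟩
      obtain ⟨z, hz', w, hw, e⟩ := hPdec _ hxy
      rw [show x = z * (f y * w) by
        rw [← mul_assoc, ← hz z hz' (f y), mul_assoc, ← e, mul_inv_cancel_left]]
      exact Subgroup.mul_mem_sup hz' ⟨y, hSmem _ _, w, hw, rfl⟩

include hF in
theorem kernel_two_eq_bot (hm : 2 ≤ m) (hsurj : Function.Surjective σ)
    (hc : σ.ker ≤ Subgroup.center Γ) (h' : σ.ker ≤ commutator Γ) (h2 : IsPGroup 2 σ.ker) :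
    σ.ker = ⊥ :=
  kernel_two_eq_bot' hF σ (by omega) (Or.inl hm) hsurj hc h' h2

/-- The Schur multiplier is trivial for `q ≥ 32`. -/
theorem hasCyclicSchurMultiplier {F : Type*} [Field F] [Fintype F] [CharP F 2] {m : ℕ}
    (hF : Fintype.card F = 2 ^ (2 * m + 1)) (hm : 2 ≤ m) :
    Cfsg.HasCyclicSchurMultiplier (Sz F (2 ^ (m + 1))) 1 := by
  refine CfsgLib.Schur.hasCyclicSchurMultiplier_one fun Γ _ _ σ hσ => ?_
  obtain ⟨hsurj, hc, h'⟩ := hσ
  rw [← MonoidHom.ker_eq_bot_iff]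
  refine kernel_two_eq_bot hF σ hm hsurj hc h' ?_
  have h0 : Nat.card σ.ker ≠ 0 := Nat.card_pos.ne'
  refine IsPGroup.of_card (n := (Nat.card σ.ker).primeFactorsList.length) ?_
  refine Nat.eq_prime_pow_of_unique_prime_dvd h0 fun {d} hd hdvd => ?_
  by_contra hd2
  haveI := Fact.mk hd
  obtain ⟨P⟩ : Nonempty (Sylow d Γ) := inferInstance
  refine CoverKernel.not_dvd_of_abelian_sylow hc h' P ?_ hdvd
  intro x hx y hy
  haveI : IsCyclic ((P : Subgroup Γ).map σ) := sylow_cyclic hF (by omega) hd2 (P.mapSurjective hsurj)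
  set g : ↥(P : Subgroup Γ) →* ↥((P : Subgroup Γ).map σ) :=
    (σ.comp (P : Subgroup Γ).subtype).codRestrict _ fun u => ⟨u, u.2, rfl⟩
  have hg : g.ker ≤ Subgroup.center _ := fun u hu => Subgroup.mem_center_iff.2 fun v =>
    Subtype.ext (Subgroup.mem_center_iff.1 (hc (congrArg Subtype.val (MonoidHom.mem_ker.1 hu))) v)
  exact congrArg Subtype.val (commutative_of_cyclic_center_quotient g hg ⟨x, hx⟩ ⟨y, hy⟩)

end CfsgLib.Recognition.SzMult
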