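/-
Every fixed-point-free element of a Suzuki group lies in one of the two classes of exceptional tori.
-/
import Mathlib
import Cfsg.Agent.Lib.Suzuki.Count
import Cfsg.Agent.Lib.Recognition.Suzuki.Borel

set_option autoImplicit false

namespace CfsgLib.Recognition.SzPartition

open Matrix Cfsg.Lie CfsgLib.Spectrum CfsgLib.SuzukiLaws CfsgLib.Suzuki

variable {F : Type*} [Field F] [Fintype F] [CharP F 2] {m : ℕ}
  (hF : Fintype.card F = 2 ^ (2 * m + 1))

theorem orders_mul (m : ℕ) :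
    (2 ^ (2 * m + 1) + 2 ^ (m + 1) + 1) * (2 ^ (2 * m + 1) - 2 ^ (m + 1) + 1) = (2 ^ (2 * m + 1)) ^ 2 + 1 := by
  have hle : 2 ^ (m + 1) ≤ 2 ^ (2 * m + 1) := Nat.pow_le_pow_right two_pos (by omega)
  have hr : (2 ^ (m + 1)) * 2 ^ (m + 1) = 2 * 2 ^ (2 * m + 1) := by ring
  obtain ⟨d, hd⟩ := Nat.exists_eq_add_of_le hle
  rw [hd, Nat.add_sub_cancel_left]
  nlinarith

theorem card_map_conj {G : Type*} [Group G] (g : G) (S : Subgroup G) :
    Nat.card ↥(S.map (MulAut.conj g).toMonoidHom) = Nat.card S :=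
  (Nat.card_congr (S.equivMapOfInjective _ (MulAut.conj g).injective).toEquiv).symm

include hF in
theorem centralizer_card (hm : 1 ≤ m) {x : Sz F (2 ^ (m + 1))} (hx : Fpf hF x) :
    (Nat.card ↥(Subgroup.centralizer ({x} : Set (Sz F (2 ^ (m + 1))))) = 2 ^ (2 * m + 1) + 2 ^ (m + 1) + 1 ∨
      Nat.card ↥(Subgroup.centralizer ({x} : Set (Sz F (2 ^ (m + 1))))) = 2 ^ (2 * m + 1) - 2 ^ (m + 1) + 1) ∧
    IsCyclic ↥(Subgroup.centralizer ({x} : Set (Sz F (2 ^ (m + 1))))) ∧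
    Nat.card ↥(Subgroup.normalizer ((Subgroup.centralizer ({x} : Set (Sz F (2 ^ (m + 1)))) :
      Subgroup (Sz F (2 ^ (m + 1)))) : Set (Sz F (2 ^ (m + 1))))) =
      4 * Nat.card ↥(Subgroup.centralizer ({x} : Set (Sz F (2 ^ (m + 1))))) := by
  classical
  set a := 2 ^ (2 * m + 1) + 2 ^ (m + 1) + 1 with ha
  set b := 2 ^ (2 * m + 1) - 2 ^ (m + 1) + 1 with hb
  have hlt : 2 ^ (m + 1) < 2 ^ (2 * m + 1) := Nat.pow_lt_pow_right (by norm_num) (by omega)
  have hab : a * b = (2 ^ (2 * m + 1)) ^ 2 + 1 := orders_mul m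
  have hsum : a + b = 2 * (2 ^ (2 * m + 1) + 1) := by omega
  have hne : a ≠ b := by have := Nat.two_pow_pos (m + 1); omega
  have := Nat.two_pow_pos m
  have := Nat.two_pow_pos (2 * m)
  have hb1 : 1 < b := by omega
  have ha1 : 1 < a := by omega
  have key : ∀ n ∈ ({a, b} : Set ℕ), ∃ u : Sz F (2 ^ (m + 1)), Fpf hF u ∧
      Nat.card ↥(Subgroup.centralizer ({u} : Set (Sz F (2 ^ (m + 1))))) = n ∧
      Nat.card ↥(cls u) * (4 * n) = Nat.card (Sz F (2 ^ (m + 1))) * (n - 1) ∧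
      IsCyclic ↥(Subgroup.centralizer ({u} : Set (Sz F (2 ^ (m + 1))))) ∧
      Nat.card ↥(Subgroup.normalizer ((Subgroup.centralizer ({u} : Set (Sz F (2 ^ (m + 1)))) :
        Subgroup (Sz F (2 ^ (m + 1)))) : Set (Sz F (2 ^ (m + 1))))) = 4 * n := by
    intro n hn
    obtain ⟨A, hcyc, hA, hC, hN⟩ := exists_tori hF hm n hn
    have hn1 : 1 < n := by
      rcases hn with rfl | hn
      · exact ha1
      · rw [Set.mem_singleton_iff] at hn; rw [hn]; exact hb1
    haveI : Nontrivial A := by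
      rw [← Finite.one_lt_card_iff_nontrivial, hA]; exact hn1
    obtain ⟨⟨u, huA⟩, hu⟩ := exists_ne (1 : A)
    have hu1 : u ≠ 1 := fun e => hu (Subtype.ext e)
    have hf : Fpf hF u := by
      refine fpf_of_dvd hF hm hu1 ?_
      have h1 : orderOf u ∣ n := hA ▸ Subgroup.orderOf_dvd_natCard A huA
      rw [hF, ← hab]
      rcases hn with rfl | hn
      · exact h1.trans (dvd_mul_right _ _)
      · rw [Set.mem_singleton_iff] at hn; subst hn
        exact h1.trans (dvd_mul_left _ _)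
    have e := hC u huA hu1
    obtain ⟨k, c, -, -, -, hc, hk, hs, -⟩ := class_facts hF hm hf
    refine ⟨u, hf, by rw [e, hA], ?_, by rw [e]; exact hcyc, by rw [e]; exact hN⟩
    rw [e, hA] at hc
    subst hc
    rw [e] at hk
    rw [show k = 4 from Nat.eq_of_mul_eq_mul_right (by omega) (hk.symm.trans hN)] at hs
    exact hs
  obtain ⟨u, hu, huc, hus, huy, huN⟩ := key a (by simp)
  obtain ⟨v, hv, hvc, hvs, hvy, hvN⟩ := key b (by simp)
  have hmem : ∀ {y : Sz F (2 ^ (m + 1))}, Fpf hF y → y ∈ cls y := fun {y} hy =>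
    ⟨fun e => hy inf (by rw [e, map_one, one_smul]), 1, by
      rw [inv_one, one_mul, mul_one]; exact Subgroup.mem_centralizer_singleton_iff.2 rfl⟩
  -- a member of a class has a conjugate centraliser
  have hconj : ∀ {y z : Sz F (2 ^ (m + 1))}, Fpf hF y → z ∈ cls y → ∃ g : Sz F (2 ^ (m + 1)),
      Subgroup.centralizer ({z} : Set (Sz F (2 ^ (m + 1)))) =
        (Subgroup.centralizer ({y} : Set (Sz F (2 ^ (m + 1))))).map (MulAut.conj g).toMonoidHom := by
    intro y z hy hz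
    obtain ⟨hz1, g, hg⟩ := hz
    have hC := (centralizer_eq hF hm hy hg (fun e => hz1 (by
      calc z = g * (g⁻¹ * z * g) * g⁻¹ := by group
        _ = 1 := by rw [e]; group))).2
    refine ⟨g, ?_⟩
    ext w
    rw [Subgroup.mem_map_equiv, MulAut.conj_symm_apply, ← hC, ← centralizer_conj,
      show g * (g⁻¹ * z * g) * g⁻¹ = z by group]
  have hdisj : Disjoint (cls u) (cls v) := Set.disjoint_left.2 fun z h1 h2 => hne (by
    obtain ⟨g, hg⟩ := hconj hu h1
    obtain ⟨k, hk⟩ := hconj hv h2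
    have := congrArg (fun S : Subgroup (Sz F (2 ^ (m + 1))) => Nat.card S) (hg.symm.trans hk)
    rwa [card_map_conj, card_map_conj, huc, hvc] at this)
  have hsub : ∀ {y : Sz F (2 ^ (m + 1))}, Fpf hF y → cls y ⊆ {g | Fpf hF g} := fun hy z hz =>
    fpf_of_mem_cls hF hm hy hz
  have hE := card_fpf hF hm
  have hEq : (cls u).ncard + (cls v).ncard = {g : Sz F (2 ^ (m + 1)) | Fpf hF g}.ncard := by
    rw [Nat.card_coe_set_eq] at hus hvs
    have hEc : Nat.card {g : Sz F (2 ^ (m + 1)) // Fpf hF g} = {g : Sz F (2 ^ (m + 1)) | Fpf hF g}.ncard :=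
      Nat.card_coe_set_eq _
    rw [hEc, hF] at hE
    set G := Nat.card (Sz F (2 ^ (m + 1))) with hG
    set q := 2 ^ (2 * m + 1) with hq
    obtain ⟨a', ha'⟩ : ∃ t, a = t + 1 := ⟨a - 1, by omega⟩
    obtain ⟨b', hb'⟩ : ∃ t, b = t + 1 := ⟨b - 1, by omega⟩
    obtain ⟨q', hq'⟩ : ∃ t, q = t + 1 := ⟨q - 1, by have := Nat.two_pow_pos (2 * m + 1); omega⟩
    rw [ha', Nat.add_sub_cancel] at hus
    rw [hb', Nat.add_sub_cancel] at hvs
    rw [hq', Nat.add_sub_cancel] at hE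
    rw [ha', hb', hq'] at hsum hab
    refine Nat.eq_of_mul_eq_mul_left (show 0 < 4 * ((q' + 1) ^ 2 + 1) by positivity) ?_
    have e1 : (cls u).ncard * (4 * ((q' + 1) ^ 2 + 1)) = G * a' * (b' + 1) := by
      rw [← hab, ← hus]; ring
    have e2 : (cls v).ncard * (4 * ((q' + 1) ^ 2 + 1)) = G * b' * (a' + 1) := by
      rw [← hab, ← hvs]; ring
    zify at e1 e2 hE hsum hab ⊢
    linear_combination e1 + e2 - 2 * hE + (2 * (G : ℤ)) * hab - (G : ℤ) * hsum
  have hcover : cls u ∪ cls v = {g : Sz F (2 ^ (m + 1)) | Fpf hF g} :=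
    Set.eq_of_subset_of_ncard_le (Set.union_subset (hsub hu) (hsub hv))
      (by rw [Set.ncard_union_eq hdisj, hEq])
  have main : ∀ {y : Sz F (2 ^ (m + 1))} {n : ℕ}, Fpf hF y → x ∈ cls y →
      Nat.card ↥(Subgroup.centralizer ({y} : Set (Sz F (2 ^ (m + 1))))) = n →
      IsCyclic ↥(Subgroup.centralizer ({y} : Set (Sz F (2 ^ (m + 1))))) →
      Nat.card ↥(Subgroup.normalizer ((Subgroup.centralizer ({y} : Set (Sz F (2 ^ (m + 1)))) :
        Subgroup (Sz F (2 ^ (m + 1)))) : Set (Sz F (2 ^ (m + 1))))) = 4 * n →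
      Nat.card ↥(Subgroup.centralizer ({x} : Set (Sz F (2 ^ (m + 1))))) = n ∧
      IsCyclic ↥(Subgroup.centralizer ({x} : Set (Sz F (2 ^ (m + 1))))) ∧
      Nat.card ↥(Subgroup.normalizer ((Subgroup.centralizer ({x} : Set (Sz F (2 ^ (m + 1)))) :
        Subgroup (Sz F (2 ^ (m + 1)))) : Set (Sz F (2 ^ (m + 1))))) = 4 * n := by
    intro y n hy hxy hn hcy hN
    obtain ⟨g, hg⟩ := hconj hy hxy
    rw [hg]
    refine ⟨by rw [card_map_conj, hn], ?_, ?_⟩
    · exact isCyclic_of_surjective _ ((Subgroup.centralizer ({y} : Set (Sz F (2 ^ (m + 1))))).equivMapOfInjective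
        (MulAut.conj g).toMonoidHom (MulAut.conj g).injective).surjective
    · rw [← Subgroup.map_equiv_normalizer_eq, card_map_conj, hN]
  rcases (hcover.symm.subset hx : x ∈ cls u ∪ cls v) with h | h
  · obtain ⟨h1, h2, h3⟩ := main hu h huc huy huN
    exact ⟨Or.inl h1, h2, h3.trans (by rw [h1])⟩
  · obtain ⟨h1, h2, h3⟩ := main hv h hvc hvy hvN
    exact ⟨Or.inr h1, h2, h3.trans (by rw [h1])⟩

end CfsgLib.Recognition.SzPartition
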