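/-
Normalisers of the exceptional tori and two-point stabilisers of a Suzuki group.
-/
import Mathlib
import Cfsg.Agent.Lib.Recognition.Suzuki.Borel
import Cfsg.Agent.Lib.Recognition.Suzuki.Partition

set_option autoImplicit false

namespace CfsgLib.Recognition.SzNorm

open Matrix Cfsg.Lie CfsgLib.Spectrum CfsgLib.SuzukiLaws CfsgLib.Suzuki CfsgLib.Recognition.SzBorel

variable {F : Type*} [Field F] [Fintype F] [CharP F 2] {m : ℕ}
  (hF : Fintype.card F = 2 ^ (2 * m + 1))

/-- The centraliser of an element. -/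
abbrev tor (h : Sz F (2 ^ (m + 1))) : Subgroup (Sz F (2 ^ (m + 1))) :=
  Subgroup.centralizer ({h} : Set (Sz F (2 ^ (m + 1))))

/-- The normaliser of the centraliser of an element. -/
abbrev norm (h : Sz F (2 ^ (m + 1))) : Subgroup (Sz F (2 ^ (m + 1))) :=
  Subgroup.normalizer (tor h : Set (Sz F (2 ^ (m + 1))))

theorem self_mem_tor (h : Sz F (2 ^ (m + 1))) : h ∈ tor h := Subgroup.mem_centralizer_singleton_iff.2 rfl

theorem tor_le_norm (h : Sz F (2 ^ (m + 1))) : tor h ≤ norm h := Subgroup.le_normalizer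

include hF in
theorem commute_tor (hm : 1 ≤ m) {h c d : Sz F (2 ^ (m + 1))} (hh : Fpf hF h) (hc : c ∈ tor h)
    (hd : d ∈ tor h) : Commute c d := by
  haveI := (SzPartition.centralizer_card hF hm hh).2.1
  letI := (IsCyclic.commGroup : CommGroup (tor h))
  exact congrArg Subtype.val (mul_comm (⟨c, hc⟩ : tor h) ⟨d, hd⟩)

include hF in
theorem card_norm (hm : 1 ≤ m) {h : Sz F (2 ^ (m + 1))} (hh : Fpf hF h) :
    Nat.card (norm h) = 4 * Nat.card (tor h) := (SzPartition.centralizer_card hF hm hh).2.2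

include hF in
theorem odd_card_tor (hm : 1 ≤ m) {h : Sz F (2 ^ (m + 1))} (hh : Fpf hF h) : Odd (Nat.card (tor h)) := by
  have h2 : 2 ∣ 2 ^ (2 * m + 1) := dvd_pow_self 2 (by omega)
  have h3 : 2 ∣ 2 ^ (m + 1) := dvd_pow_self 2 (by omega)
  have hlt : 2 ^ (m + 1) ≤ 2 ^ (2 * m + 1) := Nat.pow_le_pow_right two_pos (by omega)
  rw [Nat.odd_iff]
  rcases (SzPartition.centralizer_card hF hm hh).1 with e | e <;> rw [e] <;> omega

include hF in
/-- Only the identity of the torus commutes with an outer element of the normaliser. -/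
theorem eq_one_of_commute (hm : 1 ≤ m) {h g c : Sz F (2 ^ (m + 1))} (hh : Fpf hF h) (hg : g ∉ tor h)
    (hc : c ∈ tor h) (hgc : Commute g c) : c = 1 := by
  by_contra h1
  have h2 : g ∈ Subgroup.centralizer ({c} : Set (Sz F (2 ^ (m + 1)))) :=
    Subgroup.mem_centralizer_singleton_iff.2 hgc.eq
  rw [(centralizer_eq hF hm hh hc h1).2] at h2
  exact hg h2

include hF in
/-- An outer element whose square is in the torus inverts it. -/
theorem inverts (hm : 1 ≤ m) {h g : Sz F (2 ^ (m + 1))} (hh : Fpf hF h) (hN : g ∈ norm h) (hg : g ∉ tor h)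
    (h2 : g * g ∈ tor h) : g * g = 1 ∧ ∀ c ∈ tor h, g * c * g⁻¹ = c⁻¹ := by
  have hsq : g * g = 1 := eq_one_of_commute hF hm hh hg h2 ((Commute.refl g).mul_right (Commute.refl g))
  refine ⟨hsq, fun c hc => ?_⟩
  have hc' : g * c * g⁻¹ ∈ tor h := (Subgroup.mem_normalizer_iff.1 hN c).1 hc
  have hinv : g⁻¹ = g := inv_eq_of_mul_eq_one_right hsq
  have he : c * (g * c * g⁻¹) = 1 := by
    refine eq_one_of_commute hF hm hh hg (mul_mem hc hc') ?_
    show g * (c * (g * c * g⁻¹)) = c * (g * c * g⁻¹) * g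
    have hcc := (commute_tor hF hm hh hc hc').eq
    calc g * (c * (g * c * g⁻¹)) = (g * c * g⁻¹) * (g * g) * c * g⁻¹ := by group
      _ = (g * c * g⁻¹) * c * g := by rw [hsq, mul_one, hinv]
      _ = c * (g * c * g⁻¹) * g := by rw [hcc]
  exact eq_inv_of_mul_eq_one_right he

include hF in
theorem pow_four (hm : 1 ≤ m) {h g : Sz F (2 ^ (m + 1))} (hh : Fpf hF h) (hN : g ∈ norm h) :
    g ^ 4 ∈ tor h := by
  have hidx : ((tor h).subgroupOf (norm h)).index = 4 := by
    have h1 := Subgroup.card_mul_index ((tor h).subgroupOf (norm h))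
    rw [Nat.card_congr (Subgroup.subgroupOfEquivOfLe (tor_le_norm h)).toEquiv, card_norm hF hm hh,
      mul_comm 4] at h1
    exact Nat.eq_of_mul_eq_mul_left Nat.card_pos h1
  have h1 := Subgroup.pow_index_mem ((tor h).subgroupOf (norm h)) (⟨g, hN⟩ : norm h)
  rw [hidx] at h1
  exact Subgroup.mem_subgroupOf.1 h1

include hF in
/-- An outer element has order two or four. -/
theorem pow_four_eq_one (hm : 1 ≤ m) {h g : Sz F (2 ^ (m + 1))} (hh : Fpf hF h) (hN : g ∈ norm h)
    (hg : g ∉ tor h) : g ^ 4 = 1 :=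
  eq_one_of_commute hF hm hh hg (pow_four hF hm hh hN) ((Commute.refl g).pow_right 4)

include hF in
theorem mem_tor_of_odd (hm : 1 ≤ m) {h g : Sz F (2 ^ (m + 1))} (hh : Fpf hF h) (hN : g ∈ norm h)
    (ho : Odd (orderOf g)) : g ∈ tor h := by
  by_contra hg
  have h1 := orderOf_dvd_of_pow_eq_one (pow_four_eq_one hF hm hh hN hg)
  have : orderOf g = 1 := Nat.eq_one_of_dvd_coprimes
    (show Nat.Coprime (orderOf g) (2 ^ 2) from ho.coprime_two_right.pow_right 2) dvd_rfl h1
  exact hg (orderOf_eq_one_iff.1 this ▸ one_mem _)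

include hF in
/-- Two involutions of the normaliser differ by an element of the torus. -/
theorem mul_mem_tor (hm : 1 ≤ m) {h u v : Sz F (2 ^ (m + 1))} (hh : Fpf hF h) (hu : u ∈ norm h)
    (hu' : u ∉ tor h) (hu2 : u * u ∈ tor h) (hv : v ∈ norm h) (hv' : v ∉ tor h) (hv2 : v * v ∈ tor h) :
    u * v ∈ tor h := by
  rw [Subgroup.mem_centralizer_singleton_iff]
  have e1 := (inverts hF hm hh hu hu' hu2).2 _ (inv_mem (self_mem_tor h))
  have e2 := (inverts hF hm hh hv hv' hv2).2 _ (self_mem_tor h)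
  rw [inv_inv] at e1
  calc u * v * h = u * (v * h * v⁻¹) * v := by group
    _ = u * h⁻¹ * u⁻¹ * (u * v) := by rw [e2]; group
    _ = h * (u * v) := by rw [e1]

include hF in
theorem not_mem_tor_of_sq (hm : 1 ≤ m) {h g : Sz F (2 ^ (m + 1))} (hh : Fpf hF h) (hg : g * g = 1)
    (h1 : g ≠ 1) : g ∉ tor h := fun hc => by
  have h2 : orderOf g = 2 := orderOf_eq_prime (by rw [pow_two, hg]) h1
  have h3 := Subgroup.orderOf_dvd_natCard (tor h) hc
  rw [h2] at h3
  have := odd_card_tor hF hm hh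
  rw [Nat.odd_iff] at this
  omega

include hF in
/-- An involution of the normaliser is the square of exactly two of its elements. -/
theorem ncard_roots (hm : 1 ≤ m) {h w : Sz F (2 ^ (m + 1))} (hh : Fpf hF h) (hw : w ∈ norm h)
    (hw2 : w * w = 1) (hw1 : w ≠ 1) : {g | g ∈ norm h ∧ g * g = w}.ncard = 2 := by
  classical
  have hw' := not_mem_tor_of_sq hF hm hh hw2 hw1
  have hw2' : w * w ∈ tor h := hw2 ▸ one_mem _
  -- an element of order four
  obtain ⟨g, hg, hgsq⟩ : ∃ g ∈ norm h, g * g ∉ tor h := by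
    by_contra hall
    push Not at hall
    have hsub : (norm h : Set (Sz F (2 ^ (m + 1)))) ⊆
        (tor h : Set (Sz F (2 ^ (m + 1)))) ∪ (fun c => w * c) '' (tor h) := by
      intro g hg
      by_cases hgt : g ∈ tor h
      · exact Or.inl hgt
      · refine Or.inr ⟨w * g, mul_mem_tor hF hm hh hw hw' hw2' hg hgt (hall g hg), ?_⟩
        show w * (w * g) = g
        rw [← mul_assoc, hw2, one_mul]
    have h1 := (Set.ncard_le_ncard hsub).trans (Set.ncard_union_le _ _)
    rw [Set.ncard_image_of_injective _ (mul_right_injective w), ← Nat.card_coe_set_eq,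
      ← Nat.card_coe_set_eq, SetLike.coe_sort_coe, SetLike.coe_sort_coe, card_norm hF hm hh] at h1
    have h0 : 0 < Nat.card (tor h) := Nat.card_pos
    omega
  have hgt : g ∉ tor h := fun e => hgsq (mul_mem e e)
  have hg4 : g * g * (g * g) = 1 := by
    rw [← pow_two, ← pow_two, ← pow_mul]; exact pow_four_eq_one hF hm hh hg hgt
  have hd : g * g * w ∈ tor h :=
    mul_mem_tor hF hm hh (mul_mem hg hg) hgsq (hg4 ▸ one_mem _) hw hw' hw2'
  -- conjugate the square to `w`
  obtain ⟨j, hj⟩ := odd_card_tor hF hm hh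
  set d := g * g * w with hdd
  set e := d ^ (j + 1) with he
  have he2 : e * e = d := by
    have h1 : d ^ Nat.card (tor h) = 1 :=
      orderOf_dvd_iff_pow_eq_one.1 (Subgroup.orderOf_dvd_natCard _ hd)
    have h2 : j + 1 + (j + 1) = Nat.card (tor h) + 1 := by omega
    calc e * e = d ^ (j + 1 + (j + 1)) := (congrArg₂ (· * ·) he he).trans (pow_add d (j + 1) (j + 1)).symm
      _ = d ^ (Nat.card (tor h) + 1) := congrArg (d ^ ·) h2
      _ = d := by rw [pow_succ d, h1, one_mul]
  have hemem : e ∈ tor h := pow_mem hd _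
  have hwinv := (inverts hF hm hh hw hw' hw2').2 e hemem
  set g₀ := e⁻¹ * g * e with hg₀
  have hg₀N : g₀ ∈ norm h := mul_mem (mul_mem (inv_mem (tor_le_norm h hemem)) hg) (tor_le_norm h hemem)
  have hwi : w⁻¹ = w := inv_eq_of_mul_eq_one_right hw2
  have hg₀sq : g₀ * g₀ = w := by
    have h1 : g * g = e * e * w := by rw [he2, hdd, mul_assoc, hw2, mul_one]
    calc g₀ * g₀ = e⁻¹ * (g * g) * e := by rw [hg₀]; group
      _ = e * (w * e * w⁻¹) * w := by rw [h1]; group
      _ = w := by rw [hwinv, mul_inv_cancel, one_mul]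
  have hne : g₀ ≠ g₀⁻¹ := fun e1 => hw1 (by rw [← hg₀sq]; nth_rw 2 [e1]; rw [mul_inv_cancel])
  have hroots : {g | g ∈ norm h ∧ g * g = w} = {g₀, g₀⁻¹} := by
    ext x
    constructor
    · rintro ⟨hx, hxsq⟩
      -- two commuting roots differ by a power of the involution
      set S := norm h ⊓ Subgroup.centralizer ({w} : Set (Sz F (2 ^ (m + 1)))) with hS
      have hdisj : S ⊓ tor h = ⊥ := (Subgroup.eq_bot_iff_forall _).2 fun c hc =>
        eq_one_of_commute hF hm hh hw' hc.2 (Subgroup.mem_centralizer_singleton_iff.1 hc.1.2).symm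
      have hcardS : Nat.card S ≤ 4 := by
        have hinj : Function.Injective (fun s : S => (QuotientGroup.mk (⟨s.1, s.2.1⟩ : norm h) :
            norm h ⧸ (tor h).subgroupOf (norm h))) := by
          intro s t hst
          have h1 := Subgroup.mem_subgroupOf.1 (QuotientGroup.eq.1 hst)
          have h2 : (s.1)⁻¹ * t.1 ∈ S ⊓ tor h := Subgroup.mem_inf.2 ⟨S.mul_mem (S.inv_mem s.2) t.2, h1⟩
          rw [hdisj, Subgroup.mem_bot] at h2
          exact Subtype.ext (inv_mul_eq_one.1 h2)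
        refine (Nat.card_le_card_of_injective _ hinj).trans (le_of_eq ?_)
        change ((tor h).subgroupOf (norm h)).index = 4
        have h1 := Subgroup.card_mul_index ((tor h).subgroupOf (norm h))
        rw [Nat.card_congr (Subgroup.subgroupOfEquivOfLe (tor_le_norm h)).toEquiv, card_norm hF hm hh,
          mul_comm 4] at h1
        exact Nat.eq_of_mul_eq_mul_left Nat.card_pos h1
      have hmem : ∀ y : Sz F (2 ^ (m + 1)), y ∈ norm h → y * y = w → y ∈ S := fun y hy hy2 =>
        ⟨hy, Subgroup.mem_centralizer_singleton_iff.2 (by rw [← hy2, mul_assoc])⟩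
      have hsub : ({1, w, g₀, g₀⁻¹} : Set (Sz F (2 ^ (m + 1)))) ⊆ (S : Set (Sz F (2 ^ (m + 1)))) := by
        rintro y (rfl | rfl | rfl | rfl)
        · exact one_mem S
        · exact hg₀sq ▸ mul_mem (hmem _ hg₀N hg₀sq) (hmem _ hg₀N hg₀sq)
        · exact hmem _ hg₀N hg₀sq
        · exact inv_mem (hmem _ hg₀N hg₀sq)
      have h4 : ({1, w, g₀, g₀⁻¹} : Set (Sz F (2 ^ (m + 1)))).ncard = 4 := by
        have n1 : g₀ ≠ 1 := fun e1 => hw1 (by rw [← hg₀sq, e1, one_mul])
        have n2 : g₀ ≠ w := fun e1 => n1 (mul_left_cancel (a := g₀) (by rw [hg₀sq, mul_one, e1]))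
        have n3 : g₀⁻¹ ≠ w := fun e1 => n2 (by rw [← hwi, ← e1, inv_inv])
        have n4 : g₀⁻¹ ≠ 1 := fun e1 => n1 (inv_eq_one.1 e1)
        rw [Set.ncard_insert_of_notMem (by simp [hw1.symm, n1.symm, n4.symm]),
          Set.ncard_insert_of_notMem (by simp [n2.symm, n3.symm]), Set.ncard_pair hne]
      have heq : ({1, w, g₀, g₀⁻¹} : Set (Sz F (2 ^ (m + 1)))) = S :=
        Set.eq_of_subset_of_ncard_le hsub (by rw [h4, ← Nat.card_coe_set_eq]; exact hcardS)
      have hxS : x ∈ ({1, w, g₀, g₀⁻¹} : Set (Sz F (2 ^ (m + 1)))) := heq ▸ hmem x hx hxsq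
      rcases hxS with rfl | rfl | h' | h'
      · exact absurd (by rw [← hxsq, one_mul]) hw1
      · exact absurd (by rw [← hxsq, hw2]) hw1
      · exact Or.inl h'
      · exact Or.inr h'
    · rintro (rfl | rfl)
      · exact ⟨hg₀N, hg₀sq⟩
      · exact ⟨inv_mem hg₀N, by rw [← _root_.mul_inv_rev, hg₀sq, hwi]⟩
  rw [hroots, Set.ncard_pair hne]

include hF in
/-- An element exchanging two points is an involution. -/
theorem swap_sq {g : Sz F (2 ^ (m + 1))} {a b : Cfsg.suzukiOvoid F m} (hab : a ≠ b)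
    (h1 : toSL hF g • a = b) (h2 : toSL hF g • b = a) : g * g = 1 := by
  obtain ⟨k, k1, k2⟩ := exists_smul_pair hF hab
  obtain ⟨s, hs⟩ := (stab_two hF (W hF * (k⁻¹ * g * k))).1
    ⟨by rw [map_mul, mul_smul, map_mul, map_mul, map_inv, mul_smul, mul_smul, k1, h1, ← k2, inv_smul_smul,
      W_smul_zero],
     by rw [map_mul, mul_smul, map_mul, map_mul, map_inv, mul_smul, mul_smul, k2, h2, ← k1, inv_smul_smul,
      W_smul_inf]⟩
  have e : k⁻¹ * g * k = W hF * T hF s := by rw [← hs, ← mul_assoc, W_mul_W, one_mul]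
  have hwt : W hF * T hF s * (W hF * T hF s) = 1 := by
    rw [← mul_assoc, W_mul_T, T_mul, inv_mul_cancel, T_one]
  calc g * g = k * ((k⁻¹ * g * k) * (k⁻¹ * g * k)) * k⁻¹ := by group
    _ = 1 := by
      rw [e, hwt]
      group

end CfsgLib.Recognition.SzNorm
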