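/-
Solvable subgroups of a Suzuki group.
-/
import Mathlib
import Cfsg.Agent.Lib.Recognition.Suzuki.NormTorus

set_option autoImplicit false

namespace CfsgLib.Recognition.SzSolvable

open scoped commutatorElement
open Matrix Cfsg.Lie CfsgLib.Spectrum CfsgLib.SuzukiLaws CfsgLib.Suzuki CfsgLib.Recognition.SzBorel
  CfsgLib.Recognition.SzNorm

variable {F : Type*} [Field F] [Fintype F] [CharP F 2] {m : ℕ}
  (hF : Fintype.card F = 2 ^ (2 * m + 1))

include hF in
theorem ne_zero_fix {g : Sz F (2 ^ (m + 1))} (hg : g ≠ 1)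
    {a b c : Cfsg.suzukiOvoid F m} (ha : toSL hF g • a = a) (hb : toSL hF g • b = b)
    (hc : toSL hF g • c = c) (hab : a ≠ b) : c = a ∨ c = b := by
  by_contra h
  rw [not_or] at h
  exact hg (fix_three hF hab (Ne.symm h.2) (Ne.symm h.1) ha hb hc)

include hF in
/-- An involution fixes exactly one point. -/
theorem exists_unique_fix (hm : 1 ≤ m) {z : Sz F (2 ^ (m + 1))} (hz : orderOf z = 2) :
    ∃ p : Cfsg.suzukiOvoid F m, ∀ r, toSL hF z • r = r ↔ r = p := by
  obtain ⟨k, b, hb, hk⟩ := exists_conj_involution hF hm hz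
  refine ⟨toSL hF k • inf, fun r => ⟨fun h => ?_, fun h => ?_⟩⟩
  · have h1 : toSL hF (U hF 0 b) • (toSL hF k)⁻¹ • r = ((toSL hF k)⁻¹ • r : Cfsg.suzukiOvoid F m) := by
      rw [← hk]
      exact (conj_fix hF _).2 (by rw [smul_inv_smul]; exact h)
    have h2 := center_fix hF hb h1
    rw [← h2, smul_inv_smul]
  · subst h
    exact (conj_fix hF inf).1 (by rw [hk]; exact U_smul_inf hF 0 b)

include hF in
/-- A non-identity element with a fixed point either has one fixed point or two; in the first case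
it is a two-element. -/
theorem two_fix_of_odd {h : Sz F (2 ^ (m + 1))} (hodd : Odd (orderOf h)) (h1 : h ≠ 1) (hf : ¬ Fpf hF h) :
    ∃ a b : Cfsg.suzukiOvoid F m, a ≠ b ∧ toSL hF h • a = a ∧ toSL hF h • b = b := by
  rcases fpf_or_torus hF hodd h1 with h' | ⟨k, s, -, hk⟩
  · exact absurd h' hf
  refine ⟨toSL hF k • inf, toSL hF k • Suzuki.zero, fun e => inf_ne_zero (MulAction.injective _ e),
    (conj_fix hF inf).1 (by rw [hk]; exact T_smul_inf hF s),
    (conj_fix hF _).1 (by rw [hk]; exact T_smul_zero hF s)⟩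

/-- A nontrivial solvable group has a nontrivial abelian normal subgroup. -/
theorem exists_abelian_normal {M : Type*} [Group M] [Group.IsSolvable M] [Nontrivial M] :
    ∃ A : Subgroup M, A.Normal ∧ A ≠ ⊥ ∧ ∀ a ∈ A, ∀ b ∈ A, Commute a b := by
  classical
  obtain ⟨n, hn⟩ := (Group.isSolvable_def M).1 inferInstance
  have hex : ∃ n, derivedSeries M n = ⊥ := ⟨n, hn⟩
  have hpos : Nat.find hex ≠ 0 := fun h => by
    have h' := Nat.find_spec hex
    rw [h, derivedSeries_zero] at h'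
    exact bot_ne_top h'.symm
  obtain ⟨j, hj⟩ := Nat.exists_eq_succ_of_ne_zero hpos
  refine ⟨derivedSeries M j, derivedSeries_normal M j, fun h => Nat.find_min hex (by omega) h, fun a ha b hb => ?_⟩
  have h1 : ⁅a, b⁆ ∈ derivedSeries M (j + 1) := Subgroup.commutator_mem_commutator ha hb
  have h2 := Nat.find_spec hex
  rw [hj] at h2
  rw [h2, Subgroup.mem_bot, commutatorElement_eq_one_iff_mul_comm] at h1
  exact h1

include hF in
/-- A non-trivial solvable subgroup stabilises a point, a pair of points or an exceptional torus. -/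
theorem cases (hm : 1 ≤ m) (M : Subgroup (Sz F (2 ^ (m + 1)))) [Group.IsSolvable M] (hM : M ≠ ⊥) :
    (∃ p : Cfsg.suzukiOvoid F m, ∀ g ∈ M, toSL hF g • p = p) ∨
    (∃ a b : Cfsg.suzukiOvoid F m, a ≠ b ∧ ∀ g ∈ M,
      (toSL hF g • a = a ∧ toSL hF g • b = b) ∨ (toSL hF g • a = b ∧ toSL hF g • b = a)) ∨
    ∃ h, Fpf hF h ∧ M ≤ SzNorm.norm h := by
  haveI : Nontrivial M := (Subgroup.nontrivial_iff_ne_bot M).2 hM
  obtain ⟨A, hA, hA1, hcom⟩ := exists_abelian_normal (M := M)
  have hcA : ∀ a ∈ A, ∀ b ∈ A, Commute (a : Sz F (2 ^ (m + 1))) b := fun a ha b hb =>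
    congrArg Subtype.val (hcom a ha b hb)
  have hconj : ∀ g (hg : g ∈ M), ∀ a ∈ A, ∃ a' ∈ A, (a' : Sz F (2 ^ (m + 1))) = g * a * g⁻¹ :=
    fun g hg a ha => ⟨_, hA.conj_mem a ha ⟨g, hg⟩, rfl⟩
  by_cases hinv : ∃ a ∈ A, orderOf (a : Sz F (2 ^ (m + 1))) = 2
  · obtain ⟨z, hz, hz2⟩ := hinv
    obtain ⟨p, hp⟩ := exists_unique_fix hF hm hz2
    refine Or.inl ⟨p, fun g hg => ?_⟩
    obtain ⟨z', hz', he⟩ := hconj g hg z hz
    have hz1 : (z : Sz F (2 ^ (m + 1))) ≠ 1 := fun e => by rw [e, orderOf_one] at hz2; omega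
    have h1 : toSL hF (z' : Sz F (2 ^ (m + 1))) • p = p :=
      fix_of_commute hF hz1 (hcA z' hz' z hz) ((hp p).2 rfl)
    rw [he, show g * (z : Sz F (2 ^ (m + 1))) * g⁻¹ = (g⁻¹)⁻¹ * z * g⁻¹ by group, conj_fix, hp] at h1
    rw [map_inv, inv_smul_eq_iff] at h1
    exact h1.symm
  obtain ⟨h, hh, hh1⟩ := (Subgroup.bot_or_exists_ne_one A).resolve_left hA1
  have hh1' : (h : Sz F (2 ^ (m + 1))) ≠ 1 := fun e => hh1 (Subtype.ext e)
  have hodd : ∀ a ∈ A, Odd (orderOf (a : Sz F (2 ^ (m + 1)))) := fun a ha => by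
    by_contra hev
    rw [Nat.not_odd_iff_even] at hev
    exact hinv ⟨_, A.pow_mem ha (orderOf (a : Sz F (2 ^ (m + 1))) / 2),
      by rw [SubgroupClass.coe_pow]; exact orderOf_pow_orderOf_div (orderOf_pos _).ne' hev.two_dvd⟩
  by_cases hf : Fpf hF (h : Sz F (2 ^ (m + 1)))
  · refine Or.inr (Or.inr ⟨h, hf, fun g hg => ?_⟩)
    obtain ⟨h', hh', he⟩ := hconj g hg h hh
    have hne : (h' : Sz F (2 ^ (m + 1))) ≠ 1 := fun e => hh1' (conj_eq_one_iff.1 (he.symm.trans e))
    have hmem : (h' : Sz F (2 ^ (m + 1))) ∈ tor (h : Sz F (2 ^ (m + 1))) :=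
      Subgroup.mem_centralizer_singleton_iff.2 (hcA h' hh' h hh).eq
    have hC := (centralizer_eq hF hm hf hmem hne).2
    rw [he] at hC
    refine Subgroup.mem_normalizer_iff.2 fun w => ?_
    have h2 := centralizer_conj g (h : Sz F (2 ^ (m + 1))) (g * w * g⁻¹)
    rw [hC, show g⁻¹ * (g * w * g⁻¹) * g = w by group] at h2
    exact h2.symm
  · obtain ⟨a, b, hab, ha, hb⟩ := two_fix_of_odd hF (hodd h hh) hh1' hf
    refine Or.inr (Or.inl ⟨a, b, hab, fun g hg => ?_⟩)
    obtain ⟨h', hh', he⟩ := hconj g⁻¹ (inv_mem hg) h hh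
    rw [inv_inv] at he
    have hfix : ∀ r, toSL hF (h : Sz F (2 ^ (m + 1))) • r = r →
        toSL hF (h : Sz F (2 ^ (m + 1))) • toSL hF g • r = toSL hF g • r := fun r hr => by
      have h1 := fix_of_commute hF hh1' (hcA h' hh' h hh) hr
      rw [he, conj_fix] at h1
      exact h1
    rcases ne_zero_fix hF hh1' ha hb (hfix a ha) hab with e | e <;>
      rcases ne_zero_fix hF hh1' ha hb (hfix b hb) hab with e' | e'
    · exact absurd (MulAction.injective _ (e.trans e'.symm)) hab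
    · exact Or.inl ⟨e, e'⟩
    · exact Or.inr ⟨e, e'⟩
    · exact absurd (MulAction.injective _ (e.trans e'.symm)) hab

theorem solvable_of_normal_le {G : Type*} [Group G] (H K : Subgroup G) (hKH : K ≤ H)
    (hn : (K.subgroupOf H).Normal) [Group.IsSolvable K] (hq : Group.IsSolvable (H ⧸ K.subgroupOf H)) :
    Group.IsSolvable H := by
  haveI := hq
  haveI : Group.IsSolvable (K.subgroupOf H) :=
    Group.isSolvable_of_isSolvable_injective (f := (Subgroup.subgroupOfEquivOfLe hKH).toMonoidHom)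
      (Subgroup.subgroupOfEquivOfLe hKH).injective
  exact Group.isSolvable_of_ker_le_range (K.subgroupOf H).subtype (QuotientGroup.mk' (K.subgroupOf H))
    (by rw [QuotientGroup.ker_mk', Subgroup.range_subtype])

include hF in
theorem borel_solvable : Group.IsSolvable (borel hF) := by
  haveI : Fact (Nat.Prime 2) := ⟨Nat.prime_two⟩
  have hle : unip hF ≤ borel hF := by
    rintro _ ⟨a, b, rfl⟩
    exact U_smul_inf hF a b
  haveI : Group.IsSolvable (unip hF) := by
    haveI := (IsPGroup.of_card (p := 2) (n := (2 * m + 1) * 2)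
      (by rw [card_unip, hF, ← pow_mul]) : IsPGroup 2 (unip hF)).isNilpotent
    infer_instance
  have hn : ((unip hF).subgroupOf (borel hF)).Normal := ⟨fun u hu g => by
    rw [Subgroup.mem_subgroupOf] at hu ⊢
    exact (Subgroup.mem_normalizer_iff.1 ((normalizer_unip hF g).2 g.2) u).1 hu⟩
  refine solvable_of_normal_le _ _ hle hn ?_
  haveI := hn
  have hrep : ∀ x : borel hF, ∃ s : Fˣ, (x : borel hF ⧸ (unip hF).subgroupOf (borel hF)) =
      ((⟨T hF s, T_smul_inf hF s⟩ : borel hF) : borel hF ⧸ (unip hF).subgroupOf (borel hF)) := by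
    rintro ⟨x, hx⟩
    obtain ⟨s, a, b, rfl⟩ := (stab_inf hF x).1 hx
    refine ⟨s, (QuotientGroup.eq.2 ?_).symm⟩
    rw [Subgroup.mem_subgroupOf]
    show (T hF s)⁻¹ * (T hF s * U hF a b) ∈ unip hF
    rw [inv_mul_cancel_left]
    exact ⟨a, b, rfl⟩
  refine Group.isSolvable_of_comm fun x y => ?_
  induction x using QuotientGroup.induction_on with
  | H x =>
    induction y using QuotientGroup.induction_on with
    | H y =>
      obtain ⟨s, hs⟩ := hrep x
      obtain ⟨t, ht⟩ := hrep y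
      rw [hs, ht, ← QuotientGroup.mk_mul, ← QuotientGroup.mk_mul]
      congr 1
      exact Subtype.ext (by show T hF s * T hF t = T hF t * T hF s; rw [T_mul, T_mul, mul_comm])

include hF in
theorem solvable_of_fix {x y : Sz F (2 ^ (m + 1))} {p : Cfsg.suzukiOvoid F m} (hx : toSL hF x • p = p)
    (hy : toSL hF y • p = p) : Group.IsSolvable (Subgroup.closure ({x, y} : Set (Sz F (2 ^ (m + 1))))) := by
  obtain ⟨k, rfl⟩ := exists_smul_inf hF p
  have hle : Subgroup.closure ({x, y} : Set (Sz F (2 ^ (m + 1)))) ≤ (borel hF).map (MulAut.conj k).toMonoidHom := by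
    rw [Subgroup.closure_le]
    have : ∀ g, toSL hF g • toSL hF k • inf = (toSL hF k • inf : Cfsg.suzukiOvoid F m) →
        g ∈ (borel hF).map (MulAut.conj k).toMonoidHom := fun g hg => by
      rw [Subgroup.mem_map_equiv, MulAut.conj_symm_apply, mem_borel]
      exact (conj_fix hF inf).2 hg
    rintro g (rfl | rfl)
    · exact this _ hx
    · exact this _ hy
  haveI := borel_solvable hF
  haveI : Group.IsSolvable ((borel hF).map (MulAut.conj k).toMonoidHom) :=
    Group.isSolvable_of_surjective (f := ((borel hF).equivMapOfInjective (MulAut.conj k).toMonoidHom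
      (MulAut.conj k).injective).toMonoidHom)
      ((borel hF).equivMapOfInjective _ (MulAut.conj k).injective).surjective
  exact Group.isSolvable_of_isSolvable_injective (f := Subgroup.inclusion hle) (Subgroup.inclusion_injective hle)

include hF in
theorem solvable_of_norm (hm : 1 ≤ m) {h x y : Sz F (2 ^ (m + 1))} (hh : Fpf hF h) (hx : x ∈ SzNorm.norm h)
    (hy : y ∈ SzNorm.norm h) : Group.IsSolvable (Subgroup.closure ({x, y} : Set (Sz F (2 ^ (m + 1))))) := by
  haveI : Fact (Nat.Prime 2) := ⟨Nat.prime_two⟩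
  haveI : Group.IsSolvable (tor h) := Group.isSolvable_of_comm fun a b =>
    Subtype.ext (commute_tor hF hm hh a.2 b.2).eq
  haveI hn : ((tor h).subgroupOf (SzNorm.norm h)).Normal := Subgroup.normal_in_normalizer
  have hsol : Group.IsSolvable (SzNorm.norm h) := by
    refine solvable_of_normal_le _ _ (tor_le_norm h) hn ?_
    have hcard : Nat.card (SzNorm.norm h ⧸ (tor h).subgroupOf (SzNorm.norm h)) = 2 ^ 2 := by
      have h1 := Subgroup.card_mul_index ((tor h).subgroupOf (SzNorm.norm h))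
      rw [Nat.card_congr (Subgroup.subgroupOfEquivOfLe (tor_le_norm h)).toEquiv, card_norm hF hm hh,
        mul_comm 4] at h1
      exact Nat.eq_of_mul_eq_mul_left Nat.card_pos h1
    haveI := (IsPGroup.of_card hcard).isNilpotent
    infer_instance
  haveI := hsol
  have hle : Subgroup.closure ({x, y} : Set (Sz F (2 ^ (m + 1)))) ≤ SzNorm.norm h := by
    rw [Subgroup.closure_le]
    rintro g (rfl | rfl) <;> assumption
  exact Group.isSolvable_of_isSolvable_injective (f := Subgroup.inclusion hle) (Subgroup.inclusion_injective hle)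

include hF in
theorem solvable_of_pair {x y : Sz F (2 ^ (m + 1))} {a b : Cfsg.suzukiOvoid F m} (hab : a ≠ b)
    (hx : (toSL hF x • a = a ∧ toSL hF x • b = b) ∨ (toSL hF x • a = b ∧ toSL hF x • b = a))
    (hy : (toSL hF y • a = a ∧ toSL hF y • b = b) ∨ (toSL hF y • a = b ∧ toSL hF y • b = a)) :
    Group.IsSolvable (Subgroup.closure ({x, y} : Set (Sz F (2 ^ (m + 1))))) := by
  set M := Subgroup.closure ({x, y} : Set (Sz F (2 ^ (m + 1)))) with hM
  have hset : ∀ g ∈ M, (toSL hF g • a = a ∧ toSL hF g • b = b) ∨ (toSL hF g • a = b ∧ toSL hF g • b = a) := by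
    intro g hg
    induction hg using Subgroup.closure_induction with
    | mem g hg => rcases hg with rfl | rfl <;> assumption
    | one => exact Or.inl ⟨by rw [map_one, one_smul], by rw [map_one, one_smul]⟩
    | mul g k _ _ hg hk =>
      simp only [map_mul, mul_smul]
      rcases hk with ⟨e1, e2⟩ | ⟨e1, e2⟩ <;> rw [e1, e2] <;> tauto
    | inv g _ hg =>
      rcases hg with ⟨e1, e2⟩ | ⟨e1, e2⟩
      · exact Or.inl ⟨by rw [map_inv, inv_smul_eq_iff, e1], by rw [map_inv, inv_smul_eq_iff, e2]⟩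
      · exact Or.inr ⟨by rw [map_inv, inv_smul_eq_iff, e2], by rw [map_inv, inv_smul_eq_iff, e1]⟩
  obtain ⟨k, k1, k2⟩ := exists_smul_pair hF hab
  let K : Subgroup (Sz F (2 ^ (m + 1))) :=
    { carrier := {g | toSL hF g • a = a ∧ toSL hF g • b = b}
      one_mem' := ⟨by rw [map_one, one_smul], by rw [map_one, one_smul]⟩
      mul_mem' := fun {g g'} hg hg' => ⟨by rw [map_mul, mul_smul, hg'.1, hg.1], by rw [map_mul, mul_smul, hg'.2, hg.2]⟩
      inv_mem' := fun {g} hg => ⟨by rw [map_inv, inv_smul_eq_iff, hg.1], by rw [map_inv, inv_smul_eq_iff, hg.2]⟩ }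
  have hKcomm : ∀ g ∈ K, ∀ g' ∈ K, g * g' = g' * g := by
    intro g hg g' hg'
    have h1 : ∀ u ∈ K, ∃ s, k⁻¹ * u * k = T hF s := fun u hu => (stab_two hF _).1
      ⟨(conj_fix hF inf).2 (by rw [k1]; exact hu.1), (conj_fix hF _).2 (by rw [k2]; exact hu.2)⟩
    obtain ⟨s, hs⟩ := h1 g hg
    obtain ⟨t, ht⟩ := h1 g' hg'
    calc g * g' = k * ((k⁻¹ * g * k) * (k⁻¹ * g' * k)) * k⁻¹ := by group
      _ = k * ((k⁻¹ * g' * k) * (k⁻¹ * g * k)) * k⁻¹ := by rw [hs, ht, T_mul, T_mul, mul_comm s]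
      _ = g' * g := by group
  rw [Group.isSolvable_def]
  refine ⟨2, ?_⟩
  have h1 : derivedSeries M 1 ≤ K.subgroupOf M := by
    rw [derivedSeries_one, commutator_def, Subgroup.commutator_le]
    rintro ⟨u, hu⟩ - ⟨v, hv⟩ -
    rw [Subgroup.mem_subgroupOf]
    show toSL hF (u * v * u⁻¹ * v⁻¹) • a = a ∧ toSL hF (u * v * u⁻¹ * v⁻¹) • b = b
    rcases hset u hu with ⟨e1, e2⟩ | ⟨e1, e2⟩ <;> rcases hset v hv with ⟨e3, e4⟩ | ⟨e3, e4⟩ <;>
      rcases hset u⁻¹ (inv_mem hu) with ⟨e5, e6⟩ | ⟨e5, e6⟩ <;>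
      rcases hset v⁻¹ (inv_mem hv) with ⟨e7, e8⟩ | ⟨e7, e8⟩ <;>
      simp only [map_mul, mul_smul, e1, e2, e3, e4, e5, e6, e7, e8, and_self] <;>
      first
        | (exfalso; rw [map_inv, inv_smul_eq_iff] at e5; exact hab (by rw [e1] at e5; first | exact e5 | exact e5.symm))
        | (exfalso; rw [map_inv, inv_smul_eq_iff] at e7; exact hab (by rw [e3] at e7; first | exact e7 | exact e7.symm))
        | (exfalso; rw [map_inv, inv_smul_eq_iff] at e5; exact hab (by rw [e2] at e5; first | exact e5 | exact e5.symm))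
        | (exfalso; rw [map_inv, inv_smul_eq_iff] at e7; exact hab (by rw [e4] at e7; first | exact e7 | exact e7.symm))
  rw [derivedSeries_succ, eq_bot_iff, Subgroup.commutator_le]
  intro u hu v hv
  rw [Subgroup.mem_bot, commutatorElement_eq_one_iff_mul_comm]
  exact Subtype.ext (hKcomm _ (Subgroup.mem_subgroupOf.1 (h1 hu)) _ (Subgroup.mem_subgroupOf.1 (h1 hv)))

end CfsgLib.Recognition.SzSolvable
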