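/-
Elements inverted by an involution of a Suzuki group.
-/
import Mathlib
import Cfsg.Agent.Lib.Recognition.Suzuki.Solvable

set_option autoImplicit false

namespace CfsgLib.Recognition.SzSol

open Matrix Cfsg.Lie CfsgLib.Spectrum CfsgLib.SuzukiLaws CfsgLib.Suzuki CfsgLib.Recognition.SzBorel
  CfsgLib.Recognition.SzNorm CfsgLib.Recognition.SzSolvable

/-- Double counting. -/
theorem ncard_mul {α β : Type*} [Finite α] [Finite β] (A : Set α) (B : Set β) (r : α → β → Prop)
    {k n : ℕ} (hA : ∀ a ∈ A, {b | b ∈ B ∧ r a b}.ncard = k) (hB : ∀ b ∈ B, {a | a ∈ A ∧ r a b}.ncard = n) :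
    A.ncard * k = B.ncard * n := by
  classical
  haveI := Fintype.ofFinite α
  haveI := Fintype.ofFinite β
  rw [Set.ncard_eq_toFinset_card' A, Set.ncard_eq_toFinset_card' B]
  refine Finset.card_mul_eq_card_mul r (fun a ha => ?_) fun b hb => ?_
  · rw [← hA a (Set.mem_toFinset.1 ha), Set.ncard_eq_toFinset_card']
    congr 1
    ext b
    simp [Finset.bipartiteAbove]
  · rw [← hB b (Set.mem_toFinset.1 hb), Set.ncard_eq_toFinset_card']
    congr 1
    ext a
    simp [Finset.bipartiteBelow]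

/-- An element inverted by an involution generates a solvable group with it. -/
theorem solvable_of_inverted {G : Type*} [Group G] {z y : G} (h : z * y * z⁻¹ = y⁻¹) :
    Group.IsSolvable (Subgroup.closure ({z, y} : Set G)) := by
  set M := Subgroup.closure ({z, y} : Set G) with hM
  have hy : y ∈ M := Subgroup.subset_closure (by simp)
  have hz : z ∈ M := Subgroup.subset_closure (by simp)
  set N := Subgroup.zpowers (⟨y, hy⟩ : M) with hN
  haveI hn : N.Normal := by
    rw [← Subgroup.normalizer_eq_top_iff, eq_top_iff]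
    rintro ⟨g, hg⟩ -
    induction hg using Subgroup.closure_induction with
    | mem g hg =>
      have hmap : N.map (MulAut.conj (⟨g, Subgroup.subset_closure hg⟩ : M)).toMonoidHom = N := by
        rcases hg with rfl | rfl
        · rw [hN, MonoidHom.map_zpowers,
            show (MulAut.conj (⟨g, hz⟩ : M)).toMonoidHom ⟨y, hy⟩ = (⟨y, hy⟩ : M)⁻¹ from Subtype.ext h,
            Subgroup.zpowers_inv]
        · rw [hN, MonoidHom.map_zpowers,
            show (MulAut.conj (⟨g, hy⟩ : M)).toMonoidHom ⟨g, hy⟩ = (⟨g, hy⟩ : M) from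
              Subtype.ext (by simp)]
      rw [Subgroup.mem_normalizer_iff]
      intro w
      conv_rhs => rw [← hmap]
      exact (Subgroup.mem_map_iff_mem (MulAut.conj (⟨g, Subgroup.subset_closure hg⟩ : M)).injective).symm
    | one => exact one_mem _
    | mul g k hg' hk' hg hk => exact mul_mem hg hk
    | inv g hg' hg => exact inv_mem hg
  haveI : Group.IsSolvable N := Group.isSolvable_of_comm fun a b => by
    obtain ⟨i, hi⟩ := Subgroup.mem_zpowers_iff.1 a.2
    obtain ⟨j, hj⟩ := Subgroup.mem_zpowers_iff.1 b.2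
    refine Subtype.ext ?_
    rw [Subgroup.coe_mul, Subgroup.coe_mul, ← hi, ← hj, ← _root_.zpow_add, ← _root_.zpow_add, add_comm]
  have hgen : ∀ q : M ⧸ N, q ∈ Subgroup.zpowers ((⟨z, hz⟩ : M) : M ⧸ N) := by
    intro q
    induction q using QuotientGroup.induction_on with
    | H g =>
      obtain ⟨g, hg⟩ := g
      induction hg using Subgroup.closure_induction with
      | mem g hg =>
        rcases hg with rfl | rfl
        · exact Subgroup.mem_zpowers _
        · rw [(QuotientGroup.eq_one_iff _).2 (Subgroup.mem_zpowers _)]; exact one_mem _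
      | one => exact one_mem _
      | mul g k hg' hk' hg hk => exact mul_mem hg hk
      | inv g hg' hg => exact inv_mem hg
  haveI : Group.IsSolvable (M ⧸ N) := Group.isSolvable_of_comm fun a b => by
    obtain ⟨i, rfl⟩ := Subgroup.mem_zpowers_iff.1 (hgen a)
    obtain ⟨j, rfl⟩ := Subgroup.mem_zpowers_iff.1 (hgen b)
    rw [← _root_.zpow_add, ← _root_.zpow_add, add_comm]
  exact Group.isSolvable_of_ker_le_range N.subtype (QuotientGroup.mk' N)
    (by rw [QuotientGroup.ker_mk', Subgroup.range_subtype])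

variable {F : Type*} [Field F] [Fintype F] [CharP F 2] {m : ℕ}
  (hF : Fintype.card F = 2 ^ (2 * m + 1))

/-- `z` is an involution with `p` as its only fixed point. -/
def Inv1 (z : Sz F (2 ^ (m + 1))) (p : Cfsg.suzukiOvoid F m) : Prop :=
  z * z = 1 ∧ z ≠ 1 ∧ ∀ r, toSL hF z • r = r ↔ r = p

include hF in
theorem exists_inv1 (hm : 1 ≤ m) {z : Sz F (2 ^ (m + 1))} (hz : orderOf z = 2) :
    ∃ p, Inv1 hF z p := by
  obtain ⟨p, hp⟩ := exists_unique_fix hF hm hz
  refine ⟨p, ?_, fun e => by rw [e, orderOf_one] at hz; omega, hp⟩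
  exact (pow_two z).symm.trans (orderOf_dvd_iff_pow_eq_one.1 (dvd_of_eq hz))

/-- Stabiliser of a point. -/
def stab (p : Cfsg.suzukiOvoid F m) : Set (Sz F (2 ^ (m + 1))) := {g | toSL hF g • p = p}

/-- Elements moving `p` inverted by `z`. -/
def inverted (z : Sz F (2 ^ (m + 1))) (p : Cfsg.suzukiOvoid F m) : Set (Sz F (2 ^ (m + 1))) :=
  {y | toSL hF y • p ≠ p ∧ z * y * z = y⁻¹}

/-- Fixed point free elements inverted by `z`. -/
def invFpf (z : Sz F (2 ^ (m + 1))) : Set (Sz F (2 ^ (m + 1))) := {y | Fpf hF y ∧ z * y * z = y⁻¹}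

/-- Elements of order four in normalisers of tori attached to a set of inverted elements. -/
def roots (z : Sz F (2 ^ (m + 1))) (S : Set (Sz F (2 ^ (m + 1)))) : Set (Sz F (2 ^ (m + 1))) :=
  {y | ∃ c ∈ S, y ∈ SzNorm.norm c ∧ y * y = c * z}

variable {z : Sz F (2 ^ (m + 1))} {p : Cfsg.suzukiOvoid F m}

theorem inv_z (hz : Inv1 hF z p) : z⁻¹ = z := inv_eq_of_mul_eq_one_right hz.1

theorem smul_z_z (hz : Inv1 hF z p) (r : Cfsg.suzukiOvoid F m) : toSL hF z • toSL hF z • r = r := by
  rw [smul_smul, ← map_mul, hz.1, map_one, one_smul]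

theorem fix_p (hz : Inv1 hF z p) : toSL hF z • p = p := (hz.2.2 p).2 rfl

theorem eq_of_fix (hz : Inv1 hF z p) {r : Cfsg.suzukiOvoid F m} (h : toSL hF z • r = r) : r = p :=
  (hz.2.2 r).1 h

theorem smul_z_eq_p (hz : Inv1 hF z p) {r : Cfsg.suzukiOvoid F m} (h : toSL hF z • r = p) : r = p := by
  rw [← smul_z_z hF hz r, h, fix_p hF hz]

theorem smul_z_ne (hz : Inv1 hF z p) {r : Cfsg.suzukiOvoid F m} (h : r ≠ p) : toSL hF z • r ≠ r :=
  fun e => h (eq_of_fix hF hz e)

theorem mem_stab_of_commute (hz : Inv1 hF z p) {y : Sz F (2 ^ (m + 1))} (h : Commute y z) :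
    toSL hF y • p = p :=
  fix_of_commute hF hz.2.1 h (fix_p hF hz)

theorem invFpf_subset (z : Sz F (2 ^ (m + 1))) (p : Cfsg.suzukiOvoid F m) :
    invFpf hF z ⊆ inverted hF z p := fun _ h => ⟨h.1 p, h.2⟩

theorem inverted_sq (hz : Inv1 hF z p) {y : Sz F (2 ^ (m + 1))} (hy : y ∈ inverted hF z p) :
    (y * y) * (y * y) ≠ 1 := by
  intro h4
  have hyi := hy.2
  by_cases h2 : y * y = 1
  · rw [inv_eq_of_mul_eq_one_right h2] at hyi
    refine hy.1 (mem_stab_of_commute hF hz ?_)
    show y * z = z * y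
    calc y * z = z * y * z * z := by rw [hyi]
      _ = z * y := by rw [mul_assoc, hz.1, mul_one]
  · have hyy : z * (y * y) * z = y * y := by
      calc z * (y * y) * z = (z * y * z) * (z * y * z) := by
            conv_rhs => rw [mul_assoc (z * y), ← mul_assoc z (z * y), ← mul_assoc z z, hz.1, one_mul]
            simp only [mul_assoc]
        _ = y⁻¹ * y⁻¹ := by rw [hyi]
        _ = y * y := by rw [← _root_.mul_inv_rev, inv_eq_of_mul_eq_one_right h4]
    have hc : Commute z (y * y) := by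
      show z * (y * y) = y * y * z
      calc z * (y * y) = z * (y * y) * z * z := by rw [mul_assoc _ z z, hz.1, mul_one]
        _ = y * y * z := by rw [hyy]
    -- the fixed point of the involution `y * y`
    have h1 : toSL hF (y * y) • p = p := mem_stab_of_commute hF hz hc.symm
    have h3 : toSL hF (y * y) • toSL hF y • p = toSL hF y • p := by
      rw [smul_smul, ← map_mul, mul_assoc y y y, map_mul, mul_smul, h1]
    have h5 : toSL hF z • toSL hF y • p = toSL hF y • p :=
      fix_of_commute hF h2 hc (p := toSL hF y • p) h3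
    exact hy.1 (eq_of_fix hF hz h5)

theorem roots_spec (hz : Inv1 hF z p) {c : Sz F (2 ^ (m + 1))} (hc : c ∈ invFpf hF z) :
    c * z * (c * z) = 1 ∧ c * z ≠ 1 ∧ toSL hF (c * z) • p ≠ p := by
  refine ⟨?_, fun e => ?_, fun e => ?_⟩
  · calc c * z * (c * z) = c * (z * c * z) := by simp only [mul_assoc]
      _ = 1 := by rw [hc.2, mul_inv_cancel]
  · rw [mul_eq_one_iff_eq_inv, inv_z hF hz] at e
    exact hc.1 p (e ▸ fix_p hF hz)
  · rw [map_mul, mul_smul, fix_p hF hz] at e
    exact hc.1 p e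

theorem roots_facts (hz : Inv1 hF z p) {y : Sz F (2 ^ (m + 1))} (hy : y ∈ roots z (invFpf hF z)) :
    (y * y) * (y * y) = 1 ∧ y * y ≠ 1 ∧ toSL hF y • p ≠ p := by
  obtain ⟨c, hc, -, e⟩ := hy
  obtain ⟨h1, h2, h3⟩ := roots_spec hF hz hc
  refine ⟨e ▸ h1, e ▸ h2, fun hp => h3 ?_⟩
  rw [← e, map_mul, mul_smul, hp, hp]

theorem roots_mono {S S' : Set (Sz F (2 ^ (m + 1)))} (h : S ⊆ S') : roots z S ⊆ roots z S' :=
  fun _ ⟨c, hc, h'⟩ => ⟨c, h hc, h'⟩

theorem mul_z_facts (hz : Inv1 hF z p) {y : Sz F (2 ^ (m + 1))} (hy : y ∈ inverted hF z p) :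
    y * z * (y * z) = 1 ∧ toSL hF (y * z) • p ≠ p := by
  refine ⟨?_, fun e => hy.1 ?_⟩
  · calc y * z * (y * z) = y * (z * y * z) := by simp only [mul_assoc]
      _ = 1 := by rw [hy.2, mul_inv_cancel]
  · rwa [map_mul, mul_smul, fix_p hF hz] at e

theorem mul_z_mem_inverted (hz : Inv1 hF z p) {w : Sz F (2 ^ (m + 1))} (hw : w * w = 1)
    (hp : toSL hF w • p ≠ p) : w * z ∈ inverted hF z p := by
  refine ⟨fun e => hp ?_, ?_⟩
  · rwa [map_mul, mul_smul, fix_p hF hz] at e
  · rw [_root_.mul_inv_rev, inv_z hF hz, inv_eq_of_mul_eq_one_right hw, mul_assoc, mul_assoc w, hz.1,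
      mul_one]

end CfsgLib.Recognition.SzSol
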