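/-
Counting the elements inverted by an involution of a Suzuki group.
-/
import Mathlib
import Cfsg.Agent.Lib.Recognition.Suzuki.Inverted

set_option autoImplicit false

namespace CfsgLib.Recognition.SzSol

open Matrix Cfsg.Lie CfsgLib.Spectrum CfsgLib.SuzukiLaws CfsgLib.Suzuki CfsgLib.Recognition.SzBorel
  CfsgLib.Recognition.SzNorm CfsgLib.Recognition.SzSolvable

variable {F : Type*} [Field F] [Fintype F] [CharP F 2] {m : ℕ}
  (hF : Fintype.card F = 2 ^ (2 * m + 1))

include hF in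
theorem ncard_ovoid_ne (p : Cfsg.suzukiOvoid F m) :
    {r : Cfsg.suzukiOvoid F m | r ≠ p}.ncard = Fintype.card F ^ 2 := by
  have h : {r : Cfsg.suzukiOvoid F m | r ≠ p} = {p}ᶜ := rfl
  rw [h, Set.ncard_compl, Set.ncard_singleton, card_ovoid, Nat.add_sub_cancel]

include hF in
theorem ncard_stab (hm : 1 ≤ m) (p : Cfsg.suzukiOvoid F m) :
    (stab hF p).ncard = Fintype.card F ^ 2 * (Fintype.card F - 1) := by
  rw [← card_stab hF hm p, ← Nat.card_coe_set_eq]
  rfl

include hF in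
theorem ncard_stab_two (hm : 1 ≤ m) {a b : Cfsg.suzukiOvoid F m} (h : a ≠ b) :
    {g : Sz F (2 ^ (m + 1)) | toSL hF g • a = a ∧ toSL hF g • b = b}.ncard = Fintype.card F - 1 := by
  rw [← card_stab_two hF hm h, ← Nat.card_coe_set_eq]
  rfl

include hF in
/-- An involution with a given fixed point is conjugate to a central involution there. -/
theorem eq_center_of_fix {w : Sz F (2 ^ (m + 1))} (hm : 1 ≤ m) (h2 : w * w = 1) (h1 : w ≠ 1)
    (hw : toSL hF w • inf = (inf : Cfsg.suzukiOvoid F m)) : ∃ b : F, b ≠ 0 ∧ w = U hF 0 b := by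
  obtain ⟨r, hr⟩ := exists_unique_fix hF hm
    (orderOf_eq_prime (show w ^ 2 = 1 by rw [pow_two, h2]) h1 : orderOf w = 2)
  have hir := (hr _).1 hw
  obtain ⟨a, b, rfl⟩ := mem_unip_of_fix hF hw fun q hq => ((hr q).1 hq).trans hir.symm
  have ha : a * a ^ 2 ^ (m + 1) = 0 :=
    (U_injective hF ((sq_U hF a b).symm.trans (h2.trans (U_zero hF).symm))).2
  rw [mul_eq_zero, pow_eq_zero_iff (by positivity), or_self] at ha
  subst ha
  exact ⟨b, fun e => h1 (by rw [e]; exact U_zero hF), rfl⟩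

include hF in
theorem center_sq (b : F) : U hF 0 b * U hF 0 b = 1 := by
  rw [sq_U, zero_mul, U_zero]

include hF in
theorem ncard_invol_fix (hm : 1 ≤ m) (a : Cfsg.suzukiOvoid F m) :
    {w : Sz F (2 ^ (m + 1)) | w * w = 1 ∧ w ≠ 1 ∧ toSL hF w • a = a}.ncard = Fintype.card F - 1 := by
  obtain ⟨k, rfl⟩ := exists_smul_inf hF a
  have h : {w : Sz F (2 ^ (m + 1)) | w * w = 1 ∧ w ≠ 1 ∧ toSL hF w • toSL hF k • inf = toSL hF k • (inf : Cfsg.suzukiOvoid F m)}
      = (fun b => MulAut.conj k (U hF 0 b)) '' ({(0 : F)}ᶜ) := by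
    ext w
    constructor
    · rintro ⟨h2, h1, hw⟩
      obtain ⟨b, hb, e⟩ := eq_center_of_fix hF hm
        (show (k⁻¹ * w * k) * (k⁻¹ * w * k) = 1 by
          calc (k⁻¹ * w * k) * (k⁻¹ * w * k) = k⁻¹ * (w * w) * k := by group
            _ = 1 := by rw [h2, mul_one, inv_mul_cancel])
        (fun e => h1 (by
          calc w = k * (k⁻¹ * w * k) * k⁻¹ := by group
            _ = 1 := by rw [e, mul_one, mul_inv_cancel]))
        ((conj_fix hF _).2 hw)
      refine ⟨b, hb, ?_⟩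
      show MulAut.conj k (U hF 0 b) = w
      rw [← e, MulAut.conj_apply]
      group
    · rintro ⟨b, hb, rfl⟩
      refine ⟨by rw [← map_mul, center_sq, map_one], fun e => center_ne_one hF hb
        ((MulEquiv.map_eq_one_iff _).1 e), ?_⟩
      refine (conj_fix hF _).1 ?_
      show toSL hF (k⁻¹ * (k * U hF 0 b * k⁻¹) * k) • inf = inf
      rw [show k⁻¹ * (k * U hF 0 b * k⁻¹) * k = U hF 0 b by group]
      exact U_smul_inf hF 0 b
  rw [h, Set.ncard_image_of_injective _ fun b c e =>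
    (U_injective hF ((MulAut.conj k).injective e)).2, Set.ncard_compl, Set.ncard_singleton,
    Nat.card_eq_fintype_card]

variable {z : Sz F (2 ^ (m + 1))} {p : Cfsg.suzukiOvoid F m}

include hF in
theorem ncard_inverted (hm : 1 ≤ m) (hz : Inv1 hF z p) :
    (inverted hF z p).ncard = Fintype.card F ^ 2 * (Fintype.card F - 1) := by
  have himg : (fun y => y * z) '' inverted hF z p =
      {w : Sz F (2 ^ (m + 1)) | w * w = 1 ∧ toSL hF w • p ≠ p} := by
    ext w
    constructor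
    · rintro ⟨y, hy, rfl⟩
      exact mul_z_facts hF hz hy
    · rintro ⟨h2, hp⟩
      exact ⟨w * z, mul_z_mem_inverted hF hz h2 hp, by
        show w * z * z = w
        rw [mul_assoc, hz.1, mul_one]⟩
  rw [← Set.ncard_image_of_injective _ (mul_left_injective z), himg]
  have h := ncard_mul {r : Cfsg.suzukiOvoid F m | r ≠ p}
    {w : Sz F (2 ^ (m + 1)) | w * w = 1 ∧ toSL hF w • p ≠ p}
    (fun r w => toSL hF w • r = r) (k := Fintype.card F - 1) (n := 1) ?_ ?_
  · rw [ncard_ovoid_ne hF, mul_one] at h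
    exact h.symm
  · intro r hr
    rw [← ncard_invol_fix hF hm r]
    congr 1
    ext w
    constructor
    · rintro ⟨⟨h2, hp⟩, h⟩
      exact ⟨h2, fun e => hp (by rw [e, map_one, one_smul]), h⟩
    · rintro ⟨h2, h1, h⟩
      refine ⟨⟨h2, fun e => hr ?_⟩, h⟩
      obtain ⟨q, hq⟩ := exists_unique_fix hF hm
        (orderOf_eq_prime (show w ^ 2 = 1 by rw [pow_two, h2]) h1 : orderOf w = 2)
      rw [(hq r).1 h, (hq p).1 e]
  · rintro w ⟨h2, hp⟩
    have h1 : w ≠ 1 := fun e => hp (by rw [e, map_one, one_smul])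
    obtain ⟨q, hq⟩ := exists_unique_fix hF hm
      (orderOf_eq_prime (show w ^ 2 = 1 by rw [pow_two, h2]) h1 : orderOf w = 2)
    rw [Set.ncard_eq_one]
    refine ⟨q, Set.ext fun r => ⟨fun h => (hq r).1 h.2, fun h => ?_⟩⟩
    subst h
    exact ⟨fun e => hp (e ▸ (hq r).2 rfl), (hq r).2 rfl⟩

include hF in
theorem smul_z_fix (hz : Inv1 hF z p) {y : Sz F (2 ^ (m + 1))} (hy : z * y * z = y⁻¹)
    {a : Cfsg.suzukiOvoid F m} (ha : toSL hF y • a = a) :
    toSL hF y • toSL hF z • a = toSL hF z • a := by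
  have h : y * z = z * y⁻¹ := by
    rw [← hy, ← mul_assoc, ← mul_assoc, hz.1, one_mul]
  rw [smul_smul, ← map_mul, h, map_mul, mul_smul, map_inv]
  congr 1
  rw [inv_smul_eq_iff, ha]

include hF in
theorem inverted_of_fix_pair (hz : Inv1 hF z p) {y : Sz F (2 ^ (m + 1))} {a : Cfsg.suzukiOvoid F m}
    (ha : a ≠ p) (h1 : toSL hF y • a = a) (h2 : toSL hF y • toSL hF z • a = toSL hF z • a) :
    z * y * z = y⁻¹ := by
  have h := swap_sq hF (g := z * y) (smul_z_ne hF hz ha).symm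
    (by rw [map_mul, mul_smul, h1]) (by rw [map_mul, mul_smul, h2, smul_z_z hF hz])
  exact eq_inv_of_mul_eq_one_left (by rw [← h]; group)

include hF in
/-- Twice the number of inverted elements without fixed points. -/
theorem ncard_invFpf (hm : 1 ≤ m) (hz : Inv1 hF z p) :
    2 * (invFpf hF z).ncard = Fintype.card F ^ 3 := by
  have h := ncard_mul {r : Cfsg.suzukiOvoid F m | r ≠ p} (inverted hF z p \ invFpf hF z)
    (fun r y => toSL hF y • r = r) (k := Fintype.card F - 1 - 1) (n := 2) ?_ ?_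
  · rw [ncard_ovoid_ne hF, Set.ncard_sdiff (invFpf_subset hF z p), ncard_inverted hF hm hz] at h
    have hle := Set.ncard_le_ncard (invFpf_subset hF z p)
    rw [ncard_inverted hF hm hz] at hle
    obtain ⟨q, hq⟩ : ∃ q, Fintype.card F = q + 2 :=
      ⟨Fintype.card F - 2, by have := Fintype.one_lt_card (α := F); omega⟩
    rw [hq, show q + 2 - 1 - 1 = q by omega, show q + 2 - 1 = q + 1 by omega] at h
    rw [hq, show q + 2 - 1 = q + 1 by omega] at hle
    have h' : (q + 2) ^ 2 * q + 2 * (invFpf hF z).ncard = (q + 2) ^ 2 * (q + 1) * 2 := by omega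
    rw [hq]
    nlinarith
  · intro r hr
    have hne : r ≠ toSL hF z • r := (smul_z_ne hF hz hr).symm
    have h1 : (1 : Sz F (2 ^ (m + 1))) ∈
        {g : Sz F (2 ^ (m + 1)) | toSL hF g • r = r ∧ toSL hF g • toSL hF z • r = toSL hF z • r} :=
      ⟨by rw [map_one, one_smul], by rw [map_one, one_smul]⟩
    rw [← ncard_stab_two hF hm hne, ← Set.ncard_sdiff_singleton_of_mem h1]
    congr 1
    ext y
    constructor
    · rintro ⟨⟨hy, -⟩, h⟩
      exact ⟨⟨h, smul_z_fix hF hz hy.2 h⟩, fun e => hy.1 (by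
        rw [Set.mem_singleton_iff] at e; rw [e, map_one, one_smul])⟩
    · rintro ⟨⟨h, h'⟩, hy1⟩
      refine ⟨⟨⟨fun e => ?_, inverted_of_fix_pair hF hz hr h h'⟩, fun e => e.1 r h⟩, h⟩
      rcases ne_zero_fix hF hy1 h h' e hne with e' | e'
      · exact hr e'.symm
      · exact hr (smul_z_eq_p hF hz e'.symm)
  · rintro y ⟨hy, hyf⟩
    have hnf : ¬ Fpf hF y := fun e => hyf ⟨e, hy.2⟩
    simp only [Fpf, not_forall, not_not] at hnf
    obtain ⟨a, ha⟩ := hnf
    have hap : a ≠ p := fun e => hy.1 (e ▸ ha)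
    have hza := smul_z_fix hF hz hy.2 ha
    have hne : a ≠ toSL hF z • a := (smul_z_ne hF hz hap).symm
    have hy1 : y ≠ 1 := fun e => hy.1 (by rw [e, map_one, one_smul])
    refine Eq.trans ?_ (Set.ncard_pair hne)
    congr 1
    ext r
    constructor
    · rintro ⟨-, hr⟩
      exact ne_zero_fix hF hy1 ha hza hr hne
    · rintro (rfl | rfl)
      · exact ⟨hap, ha⟩
      · exact ⟨fun e => hap (smul_z_eq_p hF hz e), hza⟩

/-- For an element without fixed points, membership in the normaliser. -/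
theorem mem_norm_iff (hm : 1 ≤ m) {c g : Sz F (2 ^ (m + 1))} (hc : Fpf hF c) :
    g ∈ SzNorm.norm c ↔ Commute (g * c * g⁻¹) c := by
  refine ⟨fun h => Subgroup.mem_centralizer_singleton_iff.1
    ((Subgroup.mem_normalizer_iff.1 h c).1 (self_mem_tor c)), fun h => ?_⟩
  have hc1 : c ≠ 1 := fun e => hc inf (by rw [e, map_one, one_smul])
  have hC := (centralizer_eq hF hm hc (Subgroup.mem_centralizer_singleton_iff.2 h.eq)
    (fun e => hc1 (conj_eq_one_iff.1 e))).2
  refine Subgroup.mem_normalizer_iff.2 fun w => ?_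
  have h2 := centralizer_conj g c (g * w * g⁻¹)
  rw [hC, show g⁻¹ * (g * w * g⁻¹) * g = w by group] at h2
  exact h2.symm

theorem z_mem_norm (hm : 1 ≤ m) (hz : Inv1 hF z p) {c : Sz F (2 ^ (m + 1))} (hc : c ∈ invFpf hF z) :
    z ∈ SzNorm.norm c := by
  rw [mem_norm_iff hF hm hc.1, inv_z hF hz, hc.2]
  exact (Commute.refl c).inv_left

theorem mul_z_mem_norm (hm : 1 ≤ m) (hz : Inv1 hF z p) {c : Sz F (2 ^ (m + 1))} (hc : c ∈ invFpf hF z) :
    c * z ∈ SzNorm.norm c :=
  mul_mem (tor_le_norm c (self_mem_tor c)) (z_mem_norm hF hm hz hc)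

include hF in
theorem ncard_roots_set (hm : 1 ≤ m) (hz : Inv1 hF z p) {S : Set (Sz F (2 ^ (m + 1)))}
    (hS : S ⊆ invFpf hF z) : (roots z S).ncard = 2 * S.ncard := by
  have h := ncard_mul (roots z S) S (fun y c => y ∈ SzNorm.norm c ∧ y * y = c * z) (k := 1) (n := 2)
    ?_ ?_
  · rw [mul_one] at h
    rw [h, mul_comm]
  · rintro y ⟨c, hc, hy, e⟩
    rw [Set.ncard_eq_one]
    refine ⟨c, Set.ext fun d => ⟨fun h => ?_, fun h => ?_⟩⟩
    · exact mul_right_cancel (h.2.2.symm.trans e)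
    · subst h
      exact ⟨hc, hy, e⟩
  · intro c hc
    obtain ⟨h1, h2, -⟩ := roots_spec hF hz (hS hc)
    refine Eq.trans ?_ (ncard_roots hF hm (hS hc).1 (mul_z_mem_norm hF hm hz (hS hc)) h1 h2)
    congr 1
    ext y
    exact ⟨fun h => h.2, fun h => ⟨⟨c, hc, h⟩, h⟩⟩

end CfsgLib.Recognition.SzSol
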