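/-
Sizes of solubilizers in a Suzuki group.
-/
import Mathlib
import Cfsg.Agent.Lib.Recognition.Suzuki.InvertedCount

set_option autoImplicit false

namespace CfsgLib.Recognition.SzSol

open Matrix Cfsg.Lie CfsgLib.Spectrum CfsgLib.SuzukiLaws CfsgLib.Suzuki CfsgLib.Recognition.SzBorel
  CfsgLib.Recognition.SzNorm CfsgLib.Recognition.SzSolvable

variable {F : Type*} [Field F] [Fintype F] [CharP F 2] {m : ℕ}
  (hF : Fintype.card F = 2 ^ (2 * m + 1))

/-- The solubilizer. -/
abbrev sol (x : Sz F (2 ^ (m + 1))) : Set (Sz F (2 ^ (m + 1))) :=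
  {y | Group.IsSolvable (Subgroup.closure ({x, y} : Set (Sz F (2 ^ (m + 1)))))}

theorem solvable_pair_mul {G : Type*} [Group G] {z a : G}
    (h : Group.IsSolvable (Subgroup.closure ({z, a} : Set G))) :
    Group.IsSolvable (Subgroup.closure ({z, a * z} : Set G)) := by
  haveI := h
  have hle : Subgroup.closure ({z, a * z} : Set G) ≤ Subgroup.closure ({z, a} : Set G) := by
    rw [Subgroup.closure_le]
    rintro g (rfl | rfl)
    · exact Subgroup.subset_closure (by simp)
    · exact mul_mem (Subgroup.subset_closure (by simp)) (Subgroup.subset_closure (by simp))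
  exact Group.isSolvable_of_isSolvable_injective (f := Subgroup.inclusion hle) (Subgroup.inclusion_injective hle)

include hF in
theorem sol_cases (hm : 1 ≤ m) {x y : Sz F (2 ^ (m + 1))} (hx : x ≠ 1) (hy : y ∈ sol x) :
    (∃ q : Cfsg.suzukiOvoid F m, toSL hF x • q = q ∧ toSL hF y • q = q) ∨
    (∃ a b : Cfsg.suzukiOvoid F m, a ≠ b ∧
      ((toSL hF x • a = a ∧ toSL hF x • b = b) ∨ (toSL hF x • a = b ∧ toSL hF x • b = a)) ∧
      ((toSL hF y • a = a ∧ toSL hF y • b = b) ∨ (toSL hF y • a = b ∧ toSL hF y • b = a))) ∨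
    ∃ h, Fpf hF h ∧ x ∈ SzNorm.norm h ∧ y ∈ SzNorm.norm h := by
  haveI : Group.IsSolvable (Subgroup.closure ({x, y} : Set (Sz F (2 ^ (m + 1))))) := hy
  have hxm : x ∈ Subgroup.closure ({x, y} : Set (Sz F (2 ^ (m + 1)))) := Subgroup.subset_closure (by simp)
  have hym : y ∈ Subgroup.closure ({x, y} : Set (Sz F (2 ^ (m + 1)))) := Subgroup.subset_closure (by simp)
  rcases cases hF hm (Subgroup.closure ({x, y} : Set (Sz F (2 ^ (m + 1)))))
    (fun e => hx (Subgroup.mem_bot.1 (e ▸ hxm))) with ⟨q, hq⟩ | ⟨a, b, hab, h⟩ | ⟨h, hh, hle⟩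
  · exact Or.inl ⟨q, hq x hxm, hq y hym⟩
  · exact Or.inr (Or.inl ⟨a, b, hab, h x hxm, h y hym⟩)
  · exact Or.inr (Or.inr ⟨h, hh, hle hxm, hle hym⟩)

variable {z : Sz F (2 ^ (m + 1))} {p : Cfsg.suzukiOvoid F m}

include hF in
theorem norm_eq_of_mem (hm : 1 ≤ m) {h c : Sz F (2 ^ (m + 1))} (hh : Fpf hF h) (hc : c ∈ tor h) (h1 : c ≠ 1) :
    Fpf hF c ∧ tor c = tor h ∧ SzNorm.norm c = SzNorm.norm h := by
  obtain ⟨h2, h3⟩ := centralizer_eq hF hm hh hc h1
  refine ⟨h2, h3, ?_⟩
  show Subgroup.normalizer _ = Subgroup.normalizer _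
  rw [show tor c = tor h from h3]

/-- The three kinds of elements of the normaliser of a torus normalised by an involution. -/
theorem norm_split (hm : 1 ≤ m) (hz : Inv1 hF z p) {h y : Sz F (2 ^ (m + 1))} (hh : Fpf hF h)
    (hzh : z ∈ SzNorm.norm h) (hy : y ∈ SzNorm.norm h) :
    toSL hF y • p = p ∨ ∃ c, c ∈ invFpf hF z ∧ tor c = tor h ∧ SzNorm.norm c = SzNorm.norm h ∧
      (y = c ∨ y = c * z ∨ (y ∈ SzNorm.norm c ∧ y * y = c * z)) := by
  have hzt := not_mem_tor_of_sq hF hm hh hz.1 hz.2.1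
  have hz2 : z * z ∈ tor h := hz.1 ▸ one_mem _
  have key : ∀ c ∈ tor h, c ≠ 1 → c ∈ invFpf hF z ∧ tor c = tor h ∧ SzNorm.norm c = SzNorm.norm h := by
    intro c hc h1
    obtain ⟨h2, h3, h4⟩ := norm_eq_of_mem hF hm hh hc h1
    refine ⟨⟨h2, ?_⟩, h3, h4⟩
    have h5 := (inverts hF hm hh hzh hzt hz2).2 c hc
    rwa [inv_z hF hz] at h5
  by_cases hyt : y ∈ tor h
  · by_cases h1 : y = 1
    · exact Or.inl (by rw [h1, map_one, one_smul])
    · obtain ⟨k1, k2, k3⟩ := key y hyt h1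
      exact Or.inr ⟨y, k1, k2, k3, Or.inl rfl⟩
  by_cases hy2 : y * y = 1
  · have hc : y * z ∈ tor h := mul_mem_tor hF hm hh hy hyt (hy2 ▸ one_mem _) hzh hzt hz2
    by_cases h1 : y * z = 1
    · left
      rw [mul_eq_one_iff_eq_inv, inv_z hF hz] at h1
      exact h1 ▸ fix_p hF hz
    · obtain ⟨k1, k2, k3⟩ := key _ hc h1
      exact Or.inr ⟨y * z, k1, k2, k3, Or.inr (Or.inl (by rw [mul_assoc, hz.1, mul_one]))⟩
  · have hyy : y * y ∉ tor h := fun e => hy2 (inverts hF hm hh hy hyt e).1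
    have h4 : y * y * (y * y) = 1 := by
      rw [← pow_two, ← pow_two, ← pow_mul]; exact pow_four_eq_one hF hm hh hy hyt
    have hc : y * y * z ∈ tor h :=
      mul_mem_tor hF hm hh (mul_mem hy hy) hyy (h4 ▸ one_mem _) hzh hzt hz2
    by_cases h1 : y * y * z = 1
    · left
      rw [mul_eq_one_iff_eq_inv, inv_z hF hz] at h1
      refine mem_stab_of_commute hF hz ?_
      show y * z = z * y
      rw [← h1, mul_assoc]
    · obtain ⟨k1, k2, k3⟩ := key _ hc h1
      exact Or.inr ⟨y * y * z, k1, k2, k3, Or.inr (Or.inr ⟨k3 ▸ hy, by rw [mul_assoc _ z z, hz.1, mul_one]⟩)⟩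

include hF in
/-- The solubilizer of an involution. -/
theorem ncard_sol_involution (hm : 1 ≤ m) (hz : Inv1 hF z p) :
    (sol z).ncard = Fintype.card F ^ 2 * (4 * Fintype.card F - 3) := by
  set A := inverted hF z p with hA
  set A' := (fun y => y * z) '' A with hA'
  have hsol : sol z = stab hF p ∪ A ∪ A' ∪ roots z (invFpf hF z) := by
    ext y
    constructor
    · intro hy
      have hinv : ∀ y, z * y * z = y⁻¹ → y ∈ stab hF p ∪ A := fun y h => by
        by_cases hp : toSL hF y • p = p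
        · exact Or.inl hp
        · exact Or.inr ⟨hp, h⟩
      rcases sol_cases hF hm hz.2.1 hy with ⟨q, hq, hyq⟩ | ⟨a, b, hab, hx, hy'⟩ | ⟨h, hh, hzh, hyh⟩
      · rw [eq_of_fix hF hz hq] at hyq
        exact Or.inl (Or.inl (Or.inl hyq))
      · rcases hx with ⟨e1, e2⟩ | ⟨e1, e2⟩
        · exact absurd ((eq_of_fix hF hz e1).trans (eq_of_fix hF hz e2).symm) hab
        rcases hy' with ⟨e3, e4⟩ | ⟨e3, e4⟩
        · refine Or.inl (Or.inl (hinv y (inverted_of_fix_pair hF hz (a := a) (fun e => ?_) e3 (by rw [e1, e4]))))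
          subst e
          exact hab ((fix_p hF hz).symm.trans e1)
        · by_cases hp : toSL hF y • p = p
          · exact Or.inl (Or.inl (Or.inl hp))
          · exact Or.inl (Or.inr ⟨y * z, mul_z_mem_inverted hF hz (swap_sq hF hab e3 e4) hp, by
              show y * z * z = y
              rw [mul_assoc, hz.1, mul_one]⟩)
      · rcases norm_split hF hm hz hh hzh hyh with hp | ⟨c, hc, -, -, rfl | rfl | h'⟩
        · exact Or.inl (Or.inl (Or.inl hp))
        · exact Or.inl (Or.inl (Or.inr (invFpf_subset hF z p hc)))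
        · exact Or.inl (Or.inr ⟨c, invFpf_subset hF z p hc, rfl⟩)
        · exact Or.inr ⟨c, hc, h'⟩
    · rintro (((hy | hy) | ⟨a, ha, rfl⟩) | ⟨c, hc, hy, -⟩)
      · exact solvable_of_fix hF (fix_p hF hz) hy
      · exact solvable_of_inverted (by rw [inv_z hF hz]; exact hy.2)
      · exact solvable_pair_mul (solvable_of_inverted (by rw [inv_z hF hz]; exact ha.2))
      · exact solvable_of_norm hF hm hc.1 (z_mem_norm hF hm hz hc) hy
  have d1 : Disjoint (stab hF p) A := Set.disjoint_left.2 fun y h h' => h'.1 h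
  have d2 : Disjoint (stab hF p ∪ A) A' := by
    rw [Set.disjoint_left]
    rintro y hy ⟨a, ha, rfl⟩
    rcases hy with hy | hy
    · exact (mul_z_facts hF hz ha).2 hy
    · exact inverted_sq hF hz hy (by rw [(mul_z_facts hF hz ha).1, one_mul])
  have d3 : Disjoint (stab hF p ∪ A ∪ A') (roots z (invFpf hF z)) := by
    rw [Set.disjoint_left]
    intro y hy hr
    obtain ⟨h4, h2, hp⟩ := roots_facts hF hz hr
    rcases hy with (hy | hy) | ⟨a, ha, rfl⟩
    · exact hp hy
    · exact inverted_sq hF hz hy h4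
    · exact h2 (mul_z_facts hF hz ha).1
  rw [hsol, Set.ncard_union_eq d3, Set.ncard_union_eq d2, Set.ncard_union_eq d1,
    Set.ncard_image_of_injective _ (mul_left_injective z), ncard_roots_set hF hm hz subset_rfl,
    ncard_invFpf hF hm hz, ncard_stab hF hm, hA, ncard_inverted hF hm hz]
  obtain ⟨q, hq⟩ : ∃ q, Fintype.card F = q + 1 := ⟨_, (Nat.sub_add_cancel Fintype.card_pos).symm⟩
  rw [hq, show q + 1 - 1 = q by omega, show 4 * (q + 1) - 3 = 4 * q + 1 by omega]
  ring

end CfsgLib.Recognition.SzSol
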