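/-
Solubilizers of elements of order four, and of odd order, in a Suzuki group.
-/
import Mathlib
import Cfsg.Agent.Lib.Recognition.Suzuki.Solubilizer

set_option autoImplicit false

namespace CfsgLib.Recognition.SzSol

open Matrix Cfsg.Lie CfsgLib.Spectrum CfsgLib.SuzukiLaws CfsgLib.Suzuki CfsgLib.Recognition.SzBorel
  CfsgLib.Recognition.SzNorm CfsgLib.Recognition.SzSolvable

variable {F : Type*} [Field F] [Fintype F] [CharP F 2] {m : ℕ}
  (hF : Fintype.card F = 2 ^ (2 * m + 1))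

include hF in
theorem sigma_root_inj {a c : F} (hc : c ≠ 0) (e : a * a ^ 2 ^ (m + 1) = c * c ^ 2 ^ (m + 1)) : a = c := by
  rw [← div_eq_one_iff_eq hc]
  refine eq_one_of_sigma hF ?_
  rw [pow_succ', div_pow, div_mul_div_comm, div_eq_one_iff_eq (mul_ne_zero hc (pow_ne_zero _ hc))]
  exact e

include hF in
theorem center_roots {a : F} (ha : a ≠ 0) {g : Sz F (2 ^ (m + 1))}
    (hg : g * g = U hF 0 (a * a ^ 2 ^ (m + 1))) : ∃ b, g = U hF a b := by
  have hb : a * a ^ 2 ^ (m + 1) ≠ 0 := mul_ne_zero ha (pow_ne_zero _ ha)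
  have hfix : toSL hF g • inf = (inf : Cfsg.suzukiOvoid F m) :=
    commute_center hF hb (show g * _ = _ * g by rw [← hg, mul_assoc])
  obtain ⟨a', b, rfl⟩ := mem_unip_of_fix hF hfix fun q hq =>
    center_fix hF hb (by rw [← hg, map_mul, mul_smul, hq, hq])
  rw [sq_U] at hg
  exact ⟨b, by rw [sigma_root_inj hF ha (U_injective hF hg).2]⟩

include hF in
/-- Two elements of the unipotent radical with the same square are conjugate up to inversion. -/
theorem frame_conj {a : F} (ha : a ≠ 0) (b b' : F) :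
    ∃ c : F, U hF c 0 * U hF a b * (U hF c 0)⁻¹ = U hF a b' ∨
      U hF c 0 * U hF a b * (U hF c 0)⁻¹ = (U hF a b')⁻¹ := by
  have key : ∀ c d, d = b + (c * a ^ 2 ^ (m + 1) + a * c ^ 2 ^ (m + 1)) →
      U hF c 0 * U hF a b * (U hF c 0)⁻¹ = U hF a d := by
    intro c d hd
    rw [mul_inv_eq_iff_eq_mul, U_mul, U_mul, add_comm a c]
    congr 1
    rw [hd]
    linear_combination -(a * c ^ 2 ^ (m + 1)) * (CharTwo.two_eq_zero : (2 : F) = 0)
  let L : F →+ F := AddMonoidHom.mk' (fun c => c * a ^ 2 ^ (m + 1) + a * c ^ 2 ^ (m + 1))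
    fun x y => by rw [add_pow_char_pow]; ring
  have hfix : ∀ u : F, (u ^ 2 ^ (m + 1)) ^ 2 ^ (m + 1) = u → u = 0 ∨ u = 1 := fun u hu => by
    rw [sigma_sq hF] at hu
    rcases mul_eq_zero.1 (show u * (u - 1) = 0 by linear_combination hu) with h | h
    · exact Or.inl h
    · exact Or.inr (sub_eq_zero.1 h)
  have hpa : a ^ 2 ^ (m + 1) ≠ 0 := pow_ne_zero _ ha
  have hker : (L.ker : Set F) = {0, a} := by
    ext c
    constructor
    · intro h
      have h' : c * a ^ 2 ^ (m + 1) + a * c ^ 2 ^ (m + 1) = 0 := h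
      have hu : (c / a) ^ 2 ^ (m + 1) = c / a := by
        rw [div_pow, div_eq_div_iff hpa ha]
        rw [← CharTwo.sub_eq_add, sub_eq_zero] at h'
        rw [h']; ring
      rcases hfix _ (by rw [hu, hu]) with h0 | h0
      · exact Or.inl ((div_eq_zero_iff.1 h0).resolve_right ha)
      · exact Or.inr ((div_eq_one_iff_eq ha).1 h0)
    · rintro (rfl | rfl)
      · exact L.map_zero
      · exact CharTwo.add_self_eq_zero _
  have hcard : Nat.card L.ker = 2 := by
    rw [← SetLike.coe_sort_coe, hker, Nat.card_coe_set_eq, Set.ncard_pair ha.symm]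
  have hidx : L.range.index = 2 := by
    have h1 := L.range.card_mul_index
    rw [← L.ker.card_mul_index, hcard, AddSubgroup.index_ker, mul_comm 2] at h1
    exact Nat.eq_of_mul_eq_mul_left Nat.card_pos h1
  have hnot : a * a ^ 2 ^ (m + 1) ∉ L.range := by
    rintro ⟨c, hc⟩
    have hc' : c * a ^ 2 ^ (m + 1) + a * c ^ 2 ^ (m + 1) = a * a ^ 2 ^ (m + 1) := hc
    have hu : (c / a) ^ 2 ^ (m + 1) = 1 + c / a := by
      rw [div_pow, ← sub_eq_iff_eq_add, CharTwo.sub_eq_add, div_add_div _ _ hpa ha,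
        div_eq_iff (mul_ne_zero hpa ha), one_mul]
      linear_combination hc'
    have h2 : ((c / a) ^ 2 ^ (m + 1)) ^ 2 ^ (m + 1) = c / a := by
      rw [hu, add_pow_char_pow, one_pow, hu, ← add_assoc, CharTwo.add_self_eq_zero, zero_add]
    rcases hfix _ h2 with h0 | h0 <;> rw [h0] at hu
    · rw [add_zero, zero_pow (by positivity)] at hu
      exact zero_ne_one hu
    · rw [one_pow, CharTwo.add_self_eq_zero] at hu
      exact one_ne_zero hu
  by_cases hd : b + b' ∈ L.range
  · obtain ⟨c, hc⟩ := hd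
    refine ⟨c, Or.inl (key c b' ?_)⟩
    rw [show c * a ^ 2 ^ (m + 1) + a * c ^ 2 ^ (m + 1) = b + b' from hc, ← add_assoc,
      CharTwo.add_self_eq_zero, zero_add]
  · obtain ⟨c, hc⟩ := (AddSubgroup.add_mem_iff_of_index_two hidx).2
      ⟨fun h => absurd h hd, fun h => absurd h hnot⟩
    refine ⟨c, Or.inr ((key c (b' + a * a ^ 2 ^ (m + 1)) ?_).trans (U_inv hF a b').symm)⟩
    rw [show c * a ^ 2 ^ (m + 1) + a * c ^ 2 ^ (m + 1) = b + b' + a * a ^ 2 ^ (m + 1) from hc,
      ← add_assoc, ← add_assoc, CharTwo.add_self_eq_zero, zero_add]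

/-- Square roots. -/
abbrev sqrts (z : Sz F (2 ^ (m + 1))) : Set (Sz F (2 ^ (m + 1))) := {g | g * g = z}

/-- The inverted elements attached to a square root. -/
def attached (z g : Sz F (2 ^ (m + 1))) : Set (Sz F (2 ^ (m + 1))) :=
  {c | c ∈ invFpf hF z ∧ g ∈ SzNorm.norm c}

variable {z : Sz F (2 ^ (m + 1))} {p : Cfsg.suzukiOvoid F m}

include hF in
theorem exists_frame (hm : 1 ≤ m) (hz : Inv1 hF z p) :
    ∃ (k : Sz F (2 ^ (m + 1))) (a : F), a ≠ 0 ∧ k * U hF 0 (a * a ^ 2 ^ (m + 1)) * k⁻¹ = z := by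
  obtain ⟨k, b, hb, hk⟩ := exists_conj_involution hF hm
    (orderOf_eq_prime (show z ^ 2 = 1 by rw [pow_two, hz.1]) hz.2.1 : orderOf z = 2)
  obtain ⟨a, rfl⟩ := exists_sigma_root hF b
  exact ⟨k, a, fun e => hb (by rw [e, zero_mul]), by rw [← hk]; group⟩

theorem sqrts_facts {k : Sz F (2 ^ (m + 1))} {a : F} (ha : a ≠ 0)
    (hk : k * U hF 0 (a * a ^ 2 ^ (m + 1)) * k⁻¹ = z) :
    sqrts z = (fun b => MulAut.conj k (U hF a b)) '' Set.univ := by
  ext g
  constructor
  · intro hg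
    have hgg : g * g = z := hg
    obtain ⟨b, hb⟩ := center_roots hF ha (g := k⁻¹ * g * k)
      (by calc (k⁻¹ * g * k) * (k⁻¹ * g * k) = k⁻¹ * (g * g) * k := by group
            _ = _ := by rw [hgg, ← hk]; group)
    refine ⟨b, trivial, ?_⟩
    show k * U hF a b * k⁻¹ = g
    rw [← hb]; group
  · rintro ⟨b, -, rfl⟩
    show MulAut.conj k _ * MulAut.conj k _ = z
    rw [← map_mul, sq_U, MulAut.conj_apply, hk]

include hF in
theorem ncard_sqrts (hm : 1 ≤ m) (hz : Inv1 hF z p) : (sqrts z).ncard = Fintype.card F := by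
  obtain ⟨k, a, ha, hk⟩ := exists_frame hF hm hz
  rw [sqrts_facts hF ha hk, Set.ncard_image_of_injective _ fun b c e =>
    (U_injective hF ((MulAut.conj k).injective e)).2, Set.ncard_univ, Nat.card_eq_fintype_card]

theorem attached_inv (g : Sz F (2 ^ (m + 1))) : attached hF z g⁻¹ = attached hF z g := by
  ext c
  show _ ∧ _ ↔ _ ∧ _
  rw [inv_mem_iff]

theorem conj_mem_attached (hm : 1 ≤ m) {K g c : Sz F (2 ^ (m + 1))} (hK : MulAut.conj K z = z)
    (hc : c ∈ attached hF z g) : MulAut.conj K c ∈ attached hF z (MulAut.conj K g) := by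
  obtain ⟨⟨hf, hi⟩, hg⟩ := hc
  have hf' : Fpf hF (MulAut.conj K c) := fun q hq => by
    refine hf (toSL hF K⁻¹ • q) ((conj_fix hF _).1 ?_)
    rw [inv_inv]
    exact hq
  refine ⟨⟨hf', ?_⟩, ?_⟩
  · conv_lhs => rw [← hK, ← map_mul, ← map_mul, hi, map_inv]
  · rw [mem_norm_iff hF hm hf'] at *
    rw [mem_norm_iff hF hm hf] at hg
    rw [← map_mul, ← map_inv (MulAut.conj K) g, ← map_mul]
    exact hg.map _

include hF in
theorem ncard_attached_eq (hm : 1 ≤ m) (hz : Inv1 hF z p) {g g' : Sz F (2 ^ (m + 1))} (hg : g * g = z)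
    (hg' : g' * g' = z) : (attached hF z g).ncard = (attached hF z g').ncard := by
  obtain ⟨k, a, ha, hk⟩ := exists_frame hF hm hz
  have h1 : g ∈ sqrts z := hg
  have h2 : g' ∈ sqrts z := hg'
  rw [sqrts_facts hF ha hk] at h1 h2
  obtain ⟨b, -, rfl⟩ := h1
  obtain ⟨b', -, rfl⟩ := h2
  have hzz : ∀ j : Sz F (2 ^ (m + 1)), MulAut.conj j (U hF 0 (a * a ^ 2 ^ (m + 1))) = U hF 0 (a * a ^ 2 ^ (m + 1)) →
      MulAut.conj (k * j * k⁻¹) z = z := fun j hj => by
    rw [MulAut.conj_apply] at hj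
    rw [MulAut.conj_apply, ← hk]
    conv_rhs => rw [← hj]
    group
  obtain ⟨c, hc⟩ := frame_conj hF ha b b'
  have hj : MulAut.conj (U hF c 0) (U hF 0 (a * a ^ 2 ^ (m + 1))) = U hF 0 (a * a ^ 2 ^ (m + 1)) := by
    rw [MulAut.conj_apply, mul_inv_eq_iff_eq_mul, U_mul, U_mul, zero_pow (by positivity), mul_zero,
      zero_mul, add_zero, zero_add, zero_add, add_zero, add_zero]
  have hK := hzz _ hj
  have hKg : MulAut.conj (k * U hF c 0 * k⁻¹) (MulAut.conj k (U hF a b)) =
      MulAut.conj k (U hF c 0 * U hF a b * (U hF c 0)⁻¹) := by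
    simp only [MulAut.conj_apply]; group
  have himg : MulAut.conj (k * U hF c 0 * k⁻¹) '' attached hF z (MulAut.conj k (U hF a b)) =
      attached hF z (MulAut.conj k (U hF a b')) := by
    have he : attached hF z (MulAut.conj (k * U hF c 0 * k⁻¹) (MulAut.conj k (U hF a b))) =
        attached hF z (MulAut.conj k (U hF a b')) := by
      rw [hKg]
      rcases hc with e | e <;> rw [e]
      rw [map_inv, attached_inv]
    rw [← he]
    refine Set.Subset.antisymm ?_ fun c' hc' => ?_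
    · rintro _ ⟨d, hd, rfl⟩
      exact conj_mem_attached hF hm hK hd
    · have hK' : MulAut.conj (k * U hF c 0 * k⁻¹)⁻¹ z = z := by
        conv_lhs => rw [← hK, map_inv, MulAut.inv_apply_self]
      have h := conj_mem_attached hF hm hK' hc'
      rw [map_inv, MulAut.inv_apply_self, ← map_inv] at h
      exact ⟨_, h, by rw [map_inv]; exact MulAut.apply_inv_self _ _ _⟩
  rw [← himg, Set.ncard_image_of_injective _ (MulAut.conj _).injective]

include hF in
theorem ncard_attached (hm : 1 ≤ m) (hz : Inv1 hF z p) {x : Sz F (2 ^ (m + 1))} (hx : x * x = z) :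
    (attached hF z x).ncard = Fintype.card F ^ 2 := by
  have h := ncard_mul (sqrts z) (invFpf hF z) (fun g c => g ∈ SzNorm.norm c)
    (k := (attached hF z x).ncard) (n := 2) (fun g hg => ncard_attached_eq hF hm hz hg hx) ?_
  · rw [ncard_sqrts hF hm hz, mul_comm _ 2, ncard_invFpf hF hm hz] at h
    exact Nat.eq_of_mul_eq_mul_left (Fintype.card_pos (α := F)) (h.trans (pow_succ' (Fintype.card F) 2))
  · intro c hc
    refine Eq.trans ?_ (ncard_roots hF hm hc.1 (z_mem_norm hF hm hz hc) hz.1 hz.2.1)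
    congr 1
    ext g
    exact and_comm

include hF in
/-- The solubilizer of an element of order four. -/
theorem ncard_sol_four (hm : 1 ≤ m) {x : Sz F (2 ^ (m + 1))} (hz : Inv1 hF (x * x) p) :
    (sol x).ncard = Fintype.card F ^ 2 * (Fintype.card F + 3) := by
  set W := attached hF (x * x) x with hW
  have hWs : W ⊆ invFpf hF (x * x) := fun c hc => hc.1
  have hx1 : x ≠ 1 := fun e => hz.2.1 (by rw [e, one_mul])
  have hxp : toSL hF x • p = p := mem_stab_of_commute hF hz ((Commute.refl x).mul_right (Commute.refl x))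
  have hsol : sol x = stab hF p ∪ W ∪ (fun y => y * (x * x)) '' W ∪ roots (x * x) W := by
    ext y
    constructor
    · intro hy
      have hfix : ∀ q : Cfsg.suzukiOvoid F m, toSL hF x • q = q → q = p := fun q hq =>
        eq_of_fix hF hz (by rw [map_mul, mul_smul, hq, hq])
      rcases sol_cases hF hm hx1 hy with ⟨q, hq, hyq⟩ | ⟨a, b, hab, hx, -⟩ | ⟨h, hh, hxh, hyh⟩
      · exact Or.inl (Or.inl (Or.inl (hfix q hq ▸ hyq)))
      · rcases hx with ⟨e1, e2⟩ | ⟨e1, e2⟩
        · exact absurd ((hfix a e1).trans (hfix b e2).symm) hab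
        · exact absurd (swap_sq hF hab e1 e2) hz.2.1
      · rcases norm_split hF hm hz hh (mul_mem hxh hxh) hyh with hp | ⟨c, hc, -, hcn, h'⟩
        · exact Or.inl (Or.inl (Or.inl hp))
        have hcW : c ∈ W := ⟨hc, hcn ▸ hxh⟩
        rcases h' with rfl | rfl | h'
        · exact Or.inl (Or.inl (Or.inr hcW))
        · exact Or.inl (Or.inr ⟨c, hcW, rfl⟩)
        · exact Or.inr ⟨c, hcW, h'⟩
    · rintro (((hy | hy) | ⟨c, hc, rfl⟩) | ⟨c, hc, hy, -⟩)
      · exact solvable_of_fix hF hxp hy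
      · exact solvable_of_norm hF hm hy.1.1 hy.2 (tor_le_norm y (self_mem_tor y))
      · exact solvable_of_norm hF hm hc.1.1 hc.2 (mul_z_mem_norm hF hm hz hc.1)
      · exact solvable_of_norm hF hm hc.1.1 hc.2 hy
  have hWA : W ⊆ inverted hF (x * x) p := hWs.trans (invFpf_subset hF _ p)
  have d1 : Disjoint (stab hF p) W := Set.disjoint_left.2 fun y h h' => (hWA h').1 h
  have d2 : Disjoint (stab hF p ∪ W) ((fun y => y * (x * x)) '' W) := by
    rw [Set.disjoint_left]
    rintro y hy ⟨a, ha, rfl⟩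
    rcases hy with hy | hy
    · exact (mul_z_facts hF hz (hWA ha)).2 hy
    · exact inverted_sq hF hz (hWA hy) (by rw [(mul_z_facts hF hz (hWA ha)).1, one_mul])
  have d3 : Disjoint (stab hF p ∪ W ∪ (fun y => y * (x * x)) '' W) (roots (x * x) W) := by
    rw [Set.disjoint_left]
    intro y hy hr
    obtain ⟨h4, h2, hp⟩ := roots_facts hF hz (roots_mono hWs hr)
    rcases hy with (hy | hy) | ⟨a, ha, rfl⟩
    · exact hp hy
    · exact inverted_sq hF hz (hWA hy) h4
    · exact h2 (mul_z_facts hF hz (hWA ha)).1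
  rw [hsol, Set.ncard_union_eq d3, Set.ncard_union_eq d2, Set.ncard_union_eq d1,
    Set.ncard_image_of_injective _ (mul_left_injective (x * x)), ncard_roots_set hF hm hz hWs,
    ncard_stab hF hm, hW, ncard_attached hF hm hz rfl]
  obtain ⟨q, hq⟩ : ∃ q, Fintype.card F = q + 1 := ⟨_, (Nat.sub_add_cancel Fintype.card_pos).symm⟩
  rw [hq, show q + 1 - 1 = q by omega]
  ring

include hF in
/-- The solubilizer of an element with two fixed points. -/
theorem ncard_sol_torus (hm : 1 ≤ m) {x : Sz F (2 ^ (m + 1))} (hodd : Odd (orderOf x)) (hx : x ≠ 1)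
    (hf : ¬ Fpf hF x) : (sol x).ncard = 2 * Fintype.card F ^ 2 * (Fintype.card F - 1) := by
  obtain ⟨a, b, hab, ha, hb⟩ := two_fix_of_odd hF hodd hx hf
  have hswap : ∀ c d : Cfsg.suzukiOvoid F m, c ≠ d → toSL hF x • c = d → toSL hF x • d = c → False := by
    intro c d hcd e1 e2
    have h1 : orderOf x ∣ 2 := orderOf_dvd_of_pow_eq_one (by rw [pow_two, swap_sq hF hcd e1 e2])
    rcases (Nat.dvd_prime Nat.prime_two).1 h1 with h | h
    · exact hx (orderOf_eq_one_iff.1 h)
    · rw [h] at hodd; exact absurd hodd (by decide)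
  have hnn : ∀ h, Fpf hF h → x ∈ SzNorm.norm h → False := fun h hh hxh =>
    hf (centralizer_eq hF hm hh (mem_tor_of_odd hF hm hh hxh hodd) hx).1
  set S := {g : Sz F (2 ^ (m + 1)) | toSL hF g • a = b ∧ toSL hF g • b = a} with hS
  have hsol : sol x = stab hF a ∪ stab hF b ∪ S := by
    ext y
    constructor
    · intro hy
      rcases sol_cases hF hm hx hy with ⟨q, hq, hyq⟩ | ⟨c, d, hcd, hx', hy'⟩ | ⟨h, hh, hxh, -⟩
      · rcases ne_zero_fix hF hx ha hb hq hab with rfl | rfl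
        · exact Or.inl (Or.inl hyq)
        · exact Or.inl (Or.inr hyq)
      · rcases hx' with ⟨e1, e2⟩ | ⟨e1, e2⟩
        · rcases ne_zero_fix hF hx ha hb e1 hab with rfl | rfl <;>
            rcases ne_zero_fix hF hx ha hb e2 hab with rfl | rfl
          · exact absurd rfl hcd
          · exact hy'.elim (fun h => Or.inl (Or.inl h.1)) Or.inr
          · exact hy'.elim (fun h => Or.inl (Or.inr h.1)) fun h => Or.inr ⟨h.2, h.1⟩
          · exact absurd rfl hcd
        · exact (hswap c d hcd e1 e2).elim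
      · exact (hnn h hh hxh).elim
    · rintro ((hy | hy) | hy)
      · exact solvable_of_fix hF ha hy
      · exact solvable_of_fix hF hb hy
      · exact solvable_of_pair hF hab (Or.inl ⟨ha, hb⟩) (Or.inr hy)
  have hd : Disjoint (stab hF a ∪ stab hF b) S := by
    rw [Set.disjoint_left]
    rintro g (hg | hg) ⟨e1, e2⟩
    · exact hab (hg.symm.trans e1)
    · exact hab (e2.symm.trans hg)
  have hScard : S.ncard = Fintype.card F - 1 := by
    obtain ⟨k, k1, k2⟩ := exists_smul_pair hF hab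
    set w := k * W hF * k⁻¹
    have w1 : toSL hF w • a = b := by
      rw [map_mul, map_mul, map_inv, mul_smul, mul_smul, ← k1, inv_smul_smul, W_smul_inf, k2]
    have w2 : toSL hF w • b = a := by
      rw [map_mul, map_mul, map_inv, mul_smul, mul_smul, ← k2, inv_smul_smul, W_smul_zero, k1]
    have himg : (fun g => w * g) '' {g : Sz F (2 ^ (m + 1)) | toSL hF g • a = a ∧ toSL hF g • b = b} = S := by
      ext g
      constructor
      · rintro ⟨t, ⟨t1, t2⟩, rfl⟩
        exact ⟨by show toSL hF (w * t) • a = b; rw [map_mul, mul_smul, t1, w1],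
          by show toSL hF (w * t) • b = a; rw [map_mul, mul_smul, t2, w2]⟩
      · rintro ⟨g1, g2⟩
        refine ⟨w⁻¹ * g, ⟨?_, ?_⟩, mul_inv_cancel_left w g⟩
        · rw [map_mul, map_inv, mul_smul, inv_smul_eq_iff, g1, w1]
        · rw [map_mul, map_inv, mul_smul, inv_smul_eq_iff, g2, w2]
    rw [← himg, Set.ncard_image_of_injective _ (mul_right_injective w), ncard_stab_two hF hm hab]
  have hu := Set.ncard_union_add_ncard_inter (stab hF a) (stab hF b)
  rw [show stab hF a ∩ stab hF b = {g : Sz F (2 ^ (m + 1)) | toSL hF g • a = a ∧ toSL hF g • b = b} from rfl,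
    ncard_stab_two hF hm hab, ncard_stab hF hm, ncard_stab hF hm] at hu
  rw [hsol, Set.ncard_union_eq hd, hScard, hu, mul_assoc, two_mul]

include hF in
/-- The solubilizer of an element without fixed points. -/
theorem ncard_sol_fpf (hm : 1 ≤ m) {x : Sz F (2 ^ (m + 1))} (hodd : Odd (orderOf x)) (hf : Fpf hF x) :
    (sol x).ncard = 4 * Nat.card (tor x) := by
  have hx : x ≠ 1 := fun e => hf inf (by rw [e, map_one, one_smul])
  have hsol : sol x = (SzNorm.norm x : Set (Sz F (2 ^ (m + 1)))) := by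
    ext y
    constructor
    · intro hy
      rcases sol_cases hF hm hx hy with ⟨q, hq, -⟩ | ⟨c, d, hcd, hx', -⟩ | ⟨h, hh, hxh, hyh⟩
      · exact absurd hq (hf q)
      · rcases hx' with ⟨e1, -⟩ | ⟨e1, e2⟩
        · exact absurd e1 (hf c)
        · have h1 : orderOf x ∣ 2 := orderOf_dvd_of_pow_eq_one (by rw [pow_two, swap_sq hF hcd e1 e2])
          rcases (Nat.dvd_prime Nat.prime_two).1 h1 with h | h
          · exact absurd (orderOf_eq_one_iff.1 h) hx
          · rw [h] at hodd; exact absurd hodd (by decide)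
      · exact (norm_eq_of_mem hF hm hh (mem_tor_of_odd hF hm hh hxh hodd) hx).2.2.symm ▸ hyh
    · exact solvable_of_norm hF hm hf (tor_le_norm x (self_mem_tor x))
  rw [hsol, ← Nat.card_coe_set_eq, SetLike.coe_sort_coe, card_norm hF hm hf]

include hF in
theorem card_tor_of_dvd (hm : 1 ≤ m) {x : Sz F (2 ^ (m + 1))} (hx : x ≠ 1) {N : ℕ}
    (hN : N = 2 ^ (2 * m + 1) + 2 ^ (m + 1) + 1 ∨ N = 2 ^ (2 * m + 1) - 2 ^ (m + 1) + 1)
    (hd : orderOf x ∣ N) : Fpf hF x ∧ Odd (orderOf x) ∧ Nat.card (tor x) = N := by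
  have hmul := SzPartition.orders_mul m
  have hdvd : orderOf x ∣ Fintype.card F ^ 2 + 1 := by
    rw [hF, ← hmul]
    rcases hN with e | e <;> rw [e] at hd
    · exact Dvd.dvd.mul_right hd _
    · exact Dvd.dvd.mul_left hd _
  have hf := fpf_of_dvd hF hm hx hdvd
  have h2 : 2 ∣ 2 ^ (2 * m + 1) := dvd_pow_self 2 (by omega)
  have hqodd : Odd ((2 ^ (2 * m + 1)) ^ 2 + 1) := by
    rw [Nat.odd_iff]
    have := dvd_pow h2 (n := 2) (by omega)
    omega
  rw [hF] at hdvd
  refine ⟨hf, hqodd.of_dvd_nat hdvd, ?_⟩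
  have hcop : Nat.Coprime (2 ^ (2 * m + 1) + 2 ^ (m + 1) + 1) (2 ^ (2 * m + 1) - 2 ^ (m + 1) + 1) := by
    have hlt : 2 ^ (m + 1) ≤ 2 ^ (2 * m + 1) := Nat.pow_le_pow_right two_pos (by omega)
    refine Nat.coprime_of_dvd' fun r hr h1 h3 => ?_
    have hr2 : r ≠ 2 := by
      rintro rfl
      have : 2 ∣ 2 ^ (m + 1) := dvd_pow_self 2 (by omega)
      omega
    have h4 := Nat.dvd_sub h1 h3
    rw [show 2 ^ (2 * m + 1) + 2 ^ (m + 1) + 1 - (2 ^ (2 * m + 1) - 2 ^ (m + 1) + 1) = 2 * 2 ^ (m + 1) by omega,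
      ← pow_succ'] at h4
    exact absurd ((Nat.prime_dvd_prime_iff_eq hr Nat.prime_two).1 (hr.dvd_of_dvd_pow h4)) hr2
  have hxt : orderOf x ∣ Nat.card (tor x) := Subgroup.orderOf_dvd_natCard _ (self_mem_tor x)
  have h1 : orderOf x ≠ 1 := fun e => hx (orderOf_eq_one_iff.1 e)
  rcases (SzPartition.centralizer_card hF hm hf).1 with e | e <;> rcases hN with e' | e' <;>
    rw [e] at hxt <;> rw [e'] at hd ⊢
  · exact e
  · exact absurd (Nat.eq_one_of_dvd_coprimes hcop hxt hd) h1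
  · exact absurd (Nat.eq_one_of_dvd_coprimes hcop hd hxt) h1
  · exact e

end CfsgLib.Recognition.SzSol
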