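/-
Non-solvable subgroups of a Suzuki group: involutions and a normalised frame.
-/
import Mathlib
import Cfsg.Agent.Lib.Recognition.Suzuki.InvertedCount

set_option autoImplicit false

namespace CfsgLib.Recognition.SzSub

open Matrix Cfsg.Lie CfsgLib.Spectrum CfsgLib.SuzukiLaws CfsgLib.Suzuki CfsgLib.Recognition.SzBorel
  CfsgLib.Recognition.SzNorm CfsgLib.Recognition.SzSolvable CfsgLib.Recognition.SzSol

variable {F : Type*} [Field F] [Fintype F] [CharP F 2] {m : ℕ}
  (hF : Fintype.card F = 2 ^ (2 * m + 1))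

include hF in
/-- A subgroup without elements of even order is solvable. -/
theorem solvable_of_odd (hm : 1 ≤ m) (M : Subgroup (Sz F (2 ^ (m + 1)))) (h : Odd (Nat.card M)) :
    Group.IsSolvable M := by
  haveI : IsZGroup M := by
    refine ⟨fun r hr P => ?_⟩
    haveI := Fact.mk hr
    by_cases hr2 : r = 2
    · subst hr2
      obtain ⟨j, hj⟩ := P.2.exists_card_eq
      rcases Nat.eq_zero_or_pos j with h0 | h0
      · haveI : Subsingleton P :=
          (Nat.card_eq_one_iff_unique.1 (by rw [hj, h0, pow_zero])).1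
        infer_instance
      · exact absurd ((hj ▸ dvd_pow_self 2 h0.ne' : 2 ∣ Nat.card P).trans (Subgroup.card_subgroup_dvd_card _))
          (by rw [Nat.odd_iff] at h; omega)
    · obtain ⟨Q, hQ⟩ := (P.2.map M.subtype).exists_le_sylow
      haveI := sylow_cyclic hF hm hr2 Q
      exact isCyclic_of_injective
        ((Subgroup.inclusion hQ).comp ((P : Subgroup M).equivMapOfInjective M.subtype M.subtype_injective).toMonoidHom)
        ((Subgroup.inclusion_injective hQ).comp
          ((P : Subgroup M).equivMapOfInjective M.subtype M.subtype_injective).injective)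
  infer_instance

variable {z : Sz F (2 ^ (m + 1))} {p : Cfsg.suzukiOvoid F m}

include hF in
theorem inv1_of_sq (hm : 1 ≤ m) {w : Sz F (2 ^ (m + 1))} (h2 : w * w = 1) (h1 : w ≠ 1) :
    ∃ q, Inv1 hF w q :=
  exists_inv1 hF hm (orderOf_eq_prime (show w ^ 2 = 1 by rw [pow_two, h2]) h1)

include hF in
theorem odd_inverted (hz : Inv1 hF z p) {y : Sz F (2 ^ (m + 1))} (hy : y ∈ inverted hF z p) :
    Odd (orderOf y) := by
  by_contra hev
  rw [Nat.not_odd_iff_even] at hev
  have ho := orderOf_pow_orderOf_div (orderOf_pos y).ne' hev.two_dvd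
  generalize orderOf y / 2 = j at ho
  have hcz : Commute (y ^ j) z := by
    have h1 : MulAut.conj z (y ^ j) = (y ^ j)⁻¹ := by
      rw [map_pow, ← inv_pow, MulAut.conj_apply, inv_z hF hz, hy.2]
    have h2 : (y ^ j)⁻¹ = y ^ j := inv_eq_of_mul_eq_one_right
      ((pow_two (y ^ j)).symm.trans (orderOf_dvd_iff_pow_eq_one.1 (dvd_of_eq ho)))
    rw [h2, MulAut.conj_apply, mul_inv_eq_iff_eq_mul] at h1
    exact h1.symm
  exact hy.1 (fix_of_commute hF (fun e => by rw [e, orderOf_one] at ho; omega)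
    ((Commute.refl y).pow_right j) (mem_stab_of_commute hF hz hcz))

include hF in
/-- Involutions with different fixed points are conjugate in the group they generate. -/
theorem conj_invol {M : Subgroup (Sz F (2 ^ (m + 1)))} (hz : Inv1 hF z p) (hzM : z ∈ M)
    {w : Sz F (2 ^ (m + 1))} (hw : w * w = 1) (hwM : w ∈ M) (hwp : toSL hF w • p ≠ p) :
    ∃ g ∈ M, g * z * g⁻¹ = w := by
  have hy := mul_z_mem_inverted hF hz hw hwp
  obtain ⟨j, hj⟩ := odd_inverted hF hz hy
  refine ⟨(w * z) ^ (j + 1), pow_mem (mul_mem hwM hzM) _, ?_⟩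
  have h1 : MulAut.conj z (((w * z) ^ (j + 1))⁻¹) = (w * z) ^ (j + 1) := by
    rw [map_inv, map_pow, MulAut.conj_apply, inv_z hF hz, hy.2, inv_pow, inv_inv]
  rw [MulAut.conj_apply, mul_inv_eq_iff_eq_mul] at h1
  have h2 : (w * z) ^ (j + 1 + (j + 1)) = w * z := by
    calc (w * z) ^ (j + 1 + (j + 1)) = (w * z) ^ (orderOf (w * z) + 1) := congrArg ((w * z) ^ ·) (by omega)
      _ = w * z := by rw [pow_succ (w * z), pow_orderOf_eq_one, one_mul]
  calc (w * z) ^ (j + 1) * z * ((w * z) ^ (j + 1))⁻¹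
      = (w * z) ^ (j + 1) * ((w * z) ^ (j + 1) * z) := by rw [mul_assoc, h1]
    _ = (w * z) * z := by rw [← mul_assoc, ← pow_add (w * z), h2]
    _ = w := by rw [mul_assoc, hz.1, mul_one]

/-- Contains a central involution and the Weyl element. -/
def Good (M : Subgroup (Sz F (2 ^ (m + 1)))) : Prop :=
  (∃ b : F, b ≠ 0 ∧ U hF 0 b ∈ M) ∧ W hF ∈ M

include hF in
theorem exists_good (hm : 1 ≤ m) (M : Subgroup (Sz F (2 ^ (m + 1)))) (hns : ¬ Group.IsSolvable M) :
    ∃ g : Sz F (2 ^ (m + 1)), Good hF (M.comap (MulAut.conj g).toMonoidHom) := by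
  haveI : Fact (Nat.Prime 2) := ⟨Nat.prime_two⟩
  have h2 : 2 ∣ Nat.card M := by
    by_contra h2
    exact hns (solvable_of_odd hF hm M (Nat.odd_iff.2 (by omega)))
  obtain ⟨⟨z, hzM⟩, hz2⟩ := exists_prime_orderOf_dvd_card' 2 h2
  rw [Subgroup.orderOf_mk] at hz2
  obtain ⟨p, hz⟩ := exists_inv1 hF hm hz2
  obtain ⟨g, hgM, hgp⟩ : ∃ g ∈ M, toSL hF g • p ≠ p := by
    by_contra hall
    push Not at hall
    haveI := borel_solvable hF
    obtain ⟨k, hk⟩ := exists_smul_inf hF p
    have hle : M ≤ (borel hF).map (MulAut.conj k).toMonoidHom := fun g hg => by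
      rw [Subgroup.mem_map_equiv, MulAut.conj_symm_apply, mem_borel]
      exact (conj_fix hF inf).2 (by rw [hk]; exact hall g hg)
    haveI : Group.IsSolvable ((borel hF).map (MulAut.conj k).toMonoidHom) :=
      Group.isSolvable_of_surjective (f := ((borel hF).equivMapOfInjective (MulAut.conj k).toMonoidHom
        (MulAut.conj k).injective).toMonoidHom)
        ((borel hF).equivMapOfInjective _ (MulAut.conj k).injective).surjective
    exact hns (Group.isSolvable_of_isSolvable_injective (f := Subgroup.inclusion hle)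
      (Subgroup.inclusion_injective hle))
  set w := g * z * g⁻¹ with hw
  have hwM : w ∈ M := mul_mem (mul_mem hgM hzM) (inv_mem hgM)
  have hw2 : w * w = 1 := by
    rw [hw, show g * z * g⁻¹ * (g * z * g⁻¹) = g * (z * z) * g⁻¹ by group, hz.1]
    group
  have hwp : toSL hF w • p ≠ p := fun e => by
    rw [hw, map_mul, map_mul, map_inv, mul_smul, mul_smul] at e
    have h1 : toSL hF z • (toSL hF g)⁻¹ • p = (toSL hF g)⁻¹ • p := by
      rw [eq_inv_smul_iff]; exact e
    have h3 := eq_of_fix hF hz h1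
    rw [inv_smul_eq_iff] at h3
    exact hgp h3.symm
  clear_value w
  obtain ⟨k, k1, k2⟩ := exists_smul_pair hF (Ne.symm hwp)
  have hswap : toSL hF w • toSL hF w • p = p := by rw [smul_smul, ← map_mul, hw2, map_one, one_smul]
  obtain ⟨t, ht⟩ := (stab_two hF (W hF * (k⁻¹ * w * k))).1
    ⟨by rw [map_mul, mul_smul, map_mul, map_mul, map_inv, mul_smul, mul_smul, k1, ← k2, inv_smul_smul,
      W_smul_zero],
     by rw [map_mul, mul_smul, map_mul, map_mul, map_inv, mul_smul, mul_smul, k2, hswap, ← k1, inv_smul_smul,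
      W_smul_inf]⟩
  obtain ⟨r, hr⟩ := (Finite.injective_iff_surjective.1
    (fun a c (e : a * a = c * c) => mul_inv_eq_one.1 (eq_one_of_sq (s := a * c⁻¹)
      (by rw [mul_mul_mul_comm, e, ← _root_.mul_inv_rev, mul_inv_cancel]))) : Function.Surjective fun s : Fˣ => s * s) t⁻¹
  refine ⟨k * T hF r, ⟨?_, ?_⟩⟩
  · set h := k * T hF r
    have hh : toSL hF h • inf = p := by rw [map_mul, mul_smul, T_smul_inf, k1]
    obtain ⟨b, hb, e⟩ := eq_center_of_fix hF hm (w := h⁻¹ * z * h)
      (by rw [show h⁻¹ * z * h * (h⁻¹ * z * h) = h⁻¹ * (z * z) * h by group, hz.1]; group)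
      (fun e => hz.2.1 (by rw [show z = h * (h⁻¹ * z * h) * h⁻¹ by group, e]; group))
      ((conj_fix hF inf).2 (by rw [hh]; exact fix_p hF hz))
    refine ⟨b, hb, ?_⟩
    show h * U hF 0 b * h⁻¹ ∈ M
    rw [← e, show h * (h⁻¹ * z * h) * h⁻¹ = z by group]
    exact hzM
  · show k * T hF r * W hF * (k * T hF r)⁻¹ ∈ M
    have e : k⁻¹ * w * k = W hF * T hF t := by rw [← ht, ← mul_assoc, W_mul_W, one_mul]
    have hTi : (T hF r)⁻¹ = T hF r⁻¹ :=
      inv_eq_of_mul_eq_one_right (by rw [T_mul, mul_inv_cancel, T_one])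
    have hTW : T hF r * W hF = W hF * T hF r⁻¹ := by
      rw [← W_mul_T, ← mul_assoc, ← mul_assoc, W_mul_W, one_mul]
    have : k * T hF r * W hF * (k * T hF r)⁻¹ = w := by
      calc k * T hF r * W hF * (k * T hF r)⁻¹ = k * (T hF r * W hF * T hF r⁻¹) * k⁻¹ := by
            rw [_root_.mul_inv_rev, hTi]; simp only [mul_assoc]
        _ = k * (W hF * T hF t) * k⁻¹ := by
            rw [hTW, mul_assoc (W hF), T_mul, ← _root_.mul_inv_rev, show r * r = t⁻¹ from hr, inv_inv]
        _ = w := by rw [← e]; group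
    rw [this]
    exact hwM

/-- The central root elements in `M`. -/
def center (M : Subgroup (Sz F (2 ^ (m + 1)))) : Set F := {b | U hF 0 b ∈ M}

include hF in
theorem center_add {M : Subgroup (Sz F (2 ^ (m + 1)))} {a b : F} (ha : a ∈ center hF M) (hb : b ∈ center hF M) :
    a + b ∈ center hF M := by
  have h := M.mul_mem ha hb
  rwa [U_mul, add_zero, zero_mul, add_zero] at h

theorem zero_mem_center (M : Subgroup (Sz F (2 ^ (m + 1)))) : (0 : F) ∈ center hF M := by
  show U hF 0 0 ∈ M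
  rw [U_zero]
  exact one_mem M

include hF in
theorem card_center_eq_pow (M : Subgroup (Sz F (2 ^ (m + 1)))) : ∃ n, (center hF M).ncard = 2 ^ n := by
  let A : AddSubgroup F :=
    { carrier := center hF M
      zero_mem' := zero_mem_center hF M
      add_mem' := center_add hF
      neg_mem' := fun {a} h => by rwa [CharTwo.neg_eq] }
  have h := A.card_addSubgroup_dvd_card
  rw [Nat.card_eq_fintype_card (α := F), hF] at h
  obtain ⟨n, -, hn⟩ := (Nat.dvd_prime_pow Nat.prime_two).1 h
  exact ⟨n, by rw [← hn, ← Nat.card_coe_set_eq]; rfl⟩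

end CfsgLib.Recognition.SzSub
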