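/-
Non-solvable subgroups of a Suzuki group: counting involutions.
-/
import Mathlib
import Cfsg.Agent.Lib.Recognition.Suzuki.Frame

set_option autoImplicit false

namespace CfsgLib.Recognition.SzSub

open Matrix Cfsg.Lie CfsgLib.Spectrum CfsgLib.SuzukiLaws CfsgLib.Suzuki CfsgLib.Recognition.SzBorel
  CfsgLib.Recognition.SzNorm CfsgLib.Recognition.SzSolvable CfsgLib.Recognition.SzSol

variable {F : Type*} [Field F] [Fintype F] [CharP F 2] {m : ℕ}
  (hF : Fintype.card F = 2 ^ (2 * m + 1))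

/-- The torus part of `M` in the frame given by `k`. -/
def torusSet (M : Subgroup (Sz F (2 ^ (m + 1)))) (k : Sz F (2 ^ (m + 1))) : Set Fˣ :=
  {s | k * T hF s * k⁻¹ ∈ M}

variable {M : Subgroup (Sz F (2 ^ (m + 1)))}

include hF in
theorem exists_U_frame {y : Cfsg.suzukiOvoid F m} (hy : y ≠ inf) :
    ∃ a c : F, toSL hF (U hF a c) • Suzuki.zero = y := by
  obtain ⟨⟨a, c⟩, h, -⟩ := existsUnique_U hF hy
  exact ⟨a, c, h⟩

include hF in
theorem torusSet_image {b₀ : F} (hb₀ : b₀ ∈ center hF M) {a c : F} {s : Fˣ}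
    (hs : s ∈ torusSet hF M (U hF a c)) : (s : F) ^ (2 ^ (m + 1) + 2) * b₀ ∈ center hF M := by
  have h := M.mul_mem (M.mul_mem hs hb₀) (M.inv_mem hs)
  have e1 : ∀ d : F, (U hF a c)⁻¹ * U hF 0 d * U hF a c = U hF 0 d := fun d => by
    rw [mul_assoc, inv_mul_eq_iff_eq_mul, U_mul, U_mul, zero_pow (by positivity), mul_zero, zero_mul, add_comm 0 a,
      add_comm d c]
  have e : U hF a c * T hF s * (U hF a c)⁻¹ * U hF 0 b₀ * (U hF a c * T hF s * (U hF a c)⁻¹)⁻¹ =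
      U hF 0 ((s : F) ^ (2 ^ (m + 1) + 2) * b₀) := by
    calc _ = U hF a c * (T hF s * ((U hF a c)⁻¹ * U hF 0 b₀ * U hF a c) * (T hF s)⁻¹) * (U hF a c)⁻¹ := by group
      _ = U hF a c * U hF 0 ((s : F) ^ (2 ^ (m + 1) + 2) * b₀) * (U hF a c)⁻¹ := by
          rw [e1, T_conj_U, mul_zero]
      _ = _ := by
          conv_lhs => rw [← e1 ((s : F) ^ (2 ^ (m + 1) + 2) * b₀)]
          group
  rw [e] at h
  exact h

include hF in
theorem lam_injective {b₀ : F} (hb₀ : b₀ ≠ 0) :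
    Function.Injective fun s : Fˣ => (s : F) ^ (2 ^ (m + 1) + 2) * b₀ := fun s t e => by
  have e' : (s : F) ^ (2 ^ (m + 1) + 2) = (t : F) ^ (2 ^ (m + 1) + 2) := mul_right_cancel₀ hb₀ e
  refine Units.ext ?_
  rw [← div_eq_one_iff_eq t.ne_zero]
  refine eq_one_of_sigma_two hF ?_
  rw [div_pow, div_eq_one_iff_eq (pow_ne_zero _ t.ne_zero), e']

include hF in
theorem ncard_torusSet_le (hg : Good hF M) (a c : F) :
    (torusSet hF M (U hF a c)).ncard ≤ (center hF M).ncard - 1 := by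
  obtain ⟨⟨b₀, hb₀, hbM⟩, -⟩ := hg
  rw [← Set.ncard_sdiff_singleton_of_mem (zero_mem_center hF M)]
  refine Set.ncard_le_ncard_of_injOn _ (fun s hs => ⟨torusSet_image hF hbM hs, ?_⟩)
    (lam_injective hF hb₀).injOn
  exact mul_ne_zero (pow_ne_zero _ s.ne_zero) hb₀

/-- The orbit of the point at infinity under `M`. -/
def orbit (M : Subgroup (Sz F (2 ^ (m + 1)))) : Set (Cfsg.suzukiOvoid F m) :=
  {y | ∃ g ∈ M, toSL hF g • inf = y}

theorem inf_mem_orbit : (inf : Cfsg.suzukiOvoid F m) ∈ orbit hF M :=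
  ⟨1, one_mem M, by rw [map_one, one_smul]⟩

theorem zero_mem_orbit (hg : Good hF M) : (Suzuki.zero : Cfsg.suzukiOvoid F m) ∈ orbit hF M :=
  ⟨W hF, hg.2, W_smul_inf hF⟩

include hF in
theorem fix_mem_orbit (hm : 1 ≤ m) (hg : Good hF M) {w : Sz F (2 ^ (m + 1))} (hw : w ∈ M) (h2 : w * w = 1)
    {y : Cfsg.suzukiOvoid F m} (h1 : w ≠ 1) (hy : toSL hF w • y = y) : y ∈ orbit hF M := by
  obtain ⟨⟨b₀, hb₀, hbM⟩, hW⟩ := hg
  obtain ⟨q, hq⟩ := inv1_of_sq hF hm h2 h1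
  obtain ⟨p₀, hp₀⟩ := inv1_of_sq hF hm (center_sq hF b₀) (center_ne_one hF hb₀)
  have hy' := eq_of_fix hF hq hy
  by_cases hwi : toSL hF w • inf = (inf : Cfsg.suzukiOvoid F m)
  · rw [hy', ← eq_of_fix hF hq hwi]
    exact inf_mem_orbit hF
  · have hp : p₀ = inf := (eq_of_fix hF hp₀ (U_smul_inf hF 0 b₀)).symm
    subst hp
    obtain ⟨g, hgM, hgw⟩ := conj_invol hF hp₀ hbM h2 hw hwi
    refine ⟨g, hgM, ?_⟩
    rw [hy']
    refine eq_of_fix hF hq ((conj_fix hF inf).1 ?_)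
    rw [← hgw, show g⁻¹ * (g * U hF 0 b₀ * g⁻¹) * g = U hF 0 b₀ by group]
    exact U_smul_inf hF 0 b₀

include hF in
theorem ncard_invol_orbit (hm : 1 ≤ m) {y : Cfsg.suzukiOvoid F m} (hy : y ∈ orbit hF M) :
    {w : Sz F (2 ^ (m + 1)) | w ∈ M ∧ w * w = 1 ∧ w ≠ 1 ∧ toSL hF w • y = y}.ncard =
      (center hF M).ncard - 1 := by
  obtain ⟨g, hg, rfl⟩ := hy
  have h : {w : Sz F (2 ^ (m + 1)) | w ∈ M ∧ w * w = 1 ∧ w ≠ 1 ∧
      toSL hF w • toSL hF g • inf = (toSL hF g • inf : Cfsg.suzukiOvoid F m)}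
      = (fun b => MulAut.conj g (U hF 0 b)) '' (center hF M \ {0}) := by
    ext w
    constructor
    · rintro ⟨hwM, h2, h1, hw⟩
      obtain ⟨b, hb, e⟩ := eq_center_of_fix hF hm
        (show (g⁻¹ * w * g) * (g⁻¹ * w * g) = 1 by
          calc (g⁻¹ * w * g) * (g⁻¹ * w * g) = g⁻¹ * (w * w) * g := by group
            _ = 1 := by rw [h2, mul_one, inv_mul_cancel])
        (fun e => h1 (by
          calc w = g * (g⁻¹ * w * g) * g⁻¹ := by group
            _ = 1 := by rw [e, mul_one, mul_inv_cancel]))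
        ((conj_fix hF _).2 hw)
      refine ⟨b, ⟨show U hF 0 b ∈ M from e ▸ mul_mem (mul_mem (inv_mem hg) hwM) hg, hb⟩, ?_⟩
      show MulAut.conj g (U hF 0 b) = w
      rw [← e, MulAut.conj_apply]
      group
    · rintro ⟨b, ⟨hbM, hb⟩, rfl⟩
      refine ⟨mul_mem (mul_mem hg hbM) (inv_mem hg), by rw [← map_mul, center_sq, map_one],
        fun e => center_ne_one hF hb ((MulEquiv.map_eq_one_iff _).1 e), (conj_fix hF _).1 ?_⟩
      show toSL hF (g⁻¹ * (g * U hF 0 b * g⁻¹) * g) • inf = inf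
      rw [show g⁻¹ * (g * U hF 0 b * g⁻¹) * g = U hF 0 b by group]
      exact U_smul_inf hF 0 b
  rw [h, Set.ncard_image_of_injective _ fun b c e =>
    (U_injective hF ((MulAut.conj g).injective e)).2,
    Set.ncard_sdiff_singleton_of_mem (zero_mem_center hF M)]

include hF in
theorem ncard_stab_pair_le (hg : Good hF M) {y : Cfsg.suzukiOvoid F m} (hy : y ≠ inf) :
    {g : Sz F (2 ^ (m + 1)) | g ∈ M ∧ toSL hF g • inf = (inf : Cfsg.suzukiOvoid F m) ∧ toSL hF g • y = y}.ncard ≤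
      (center hF M).ncard - 1 := by
  obtain ⟨a, c, rfl⟩ := exists_U_frame hF hy
  refine le_trans ?_ (ncard_torusSet_le hF hg a c)
  refine (Set.ncard_le_ncard (t := (fun s => U hF a c * T hF s * (U hF a c)⁻¹) '' torusSet hF M (U hF a c))
    fun g hgs => ?_).trans Set.ncard_image_le
  obtain ⟨hgM, h1, h2⟩ := hgs
  obtain ⟨s, hs⟩ := (stab_two hF ((U hF a c)⁻¹ * g * U hF a c)).1
    ⟨(conj_fix hF _).2 (by rw [U_smul_inf]; exact h1), (conj_fix hF _).2 h2⟩
  have e : U hF a c * T hF s * (U hF a c)⁻¹ = g := by rw [← hs]; group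
  exact ⟨s, show _ ∈ M by rw [e]; exact hgM, e⟩

include hF in
/-- The two-point stabilisers of `M` are as large as possible. -/
theorem ncard_stab_pair (hm : 1 ≤ m) (hg : Good hF M) {y : Cfsg.suzukiOvoid F m} (hy : y ∈ orbit hF M)
    (hyi : y ≠ inf) :
    {g : Sz F (2 ^ (m + 1)) | g ∈ M ∧ toSL hF g • inf = (inf : Cfsg.suzukiOvoid F m) ∧ toSL hF g • y = y}.ncard =
      (center hF M).ncard - 1 := by
  classical
  haveI := Fintype.ofFinite (Cfsg.suzukiOvoid F m)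
  haveI := Fintype.ofFinite (Sz F (2 ^ (m + 1)))
  set B := {w : Sz F (2 ^ (m + 1)) | w ∈ M ∧ w * w = 1 ∧ toSL hF w • inf ≠ (inf : Cfsg.suzukiOvoid F m)}
    with hB
  set X := orbit hF M \ {inf} with hX
  set v := (center hF M).ncard - 1 with hv
  have hBne : ∀ w ∈ B, w ≠ 1 := fun w hw e => hw.2.2 (by rw [e, map_one, one_smul])
  have hcount : X.ncard * v = B.ncard := by
    have h := ncard_mul X B (fun y w => toSL hF w • y = y) (k := v) (n := 1) ?_ ?_
    · rwa [mul_one] at h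
    · intro y' hy'
      refine Eq.trans ?_ (ncard_invol_orbit hF hm hy'.1)
      congr 1
      ext w
      constructor
      · rintro ⟨hw, h⟩
        exact ⟨hw.1, hw.2.1, hBne w hw, h⟩
      · rintro ⟨hwM, h2, h1, h⟩
        refine ⟨⟨hwM, h2, fun e => hy'.2 ?_⟩, h⟩
        obtain ⟨q, hq⟩ := inv1_of_sq hF hm h2 h1
        exact (eq_of_fix hF hq h).trans (eq_of_fix hF hq e).symm
    · intro w hw
      obtain ⟨q, hq⟩ := inv1_of_sq hF hm hw.2.1 (hBne w hw)
      rw [Set.ncard_eq_one]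
      refine ⟨q, Set.ext fun r => ⟨fun h => eq_of_fix hF hq h.2, fun h => ?_⟩⟩
      subst h
      exact ⟨⟨fix_mem_orbit hF hm hg hw.1 hw.2.1 (hBne w hw) (fix_p hF hq),
        fun e => hw.2.2 (e ▸ fix_p hF hq)⟩, fix_p hF hq⟩
  have hfib : ∀ y' ∈ X, (B.toFinset.filter fun w => toSL hF w • inf = y').card ≤
      {g : Sz F (2 ^ (m + 1)) | g ∈ M ∧ toSL hF g • inf = (inf : Cfsg.suzukiOvoid F m) ∧ toSL hF g • y' = y'}.ncard := by
    intro y' hy'
    by_cases hne : (B.toFinset.filter fun w => toSL hF w • inf = y').Nonempty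
    · obtain ⟨w₀, hw₀⟩ := hne
      rw [Finset.mem_filter, Set.mem_toFinset] at hw₀
      have hswap : ∀ w ∈ B, toSL hF w • inf = y' → toSL hF w • y' = inf := fun w hw e => by
        rw [← e, smul_smul, ← map_mul, hw.2.1, map_one, one_smul]
      rw [← Set.ncard_coe_finset]
      refine Set.ncard_le_ncard_of_injOn (fun w => w₀ * w) (fun w hw => ?_) (mul_right_injective w₀).injOn
      rw [Finset.mem_coe, Finset.mem_filter, Set.mem_toFinset] at hw
      refine ⟨mul_mem hw₀.1.1 hw.1.1, ?_, ?_⟩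
      · rw [map_mul, mul_smul, hw.2]
        exact hswap w₀ hw₀.1 hw₀.2
      · rw [map_mul, mul_smul, hswap w hw.1 hw.2, hw₀.2]
    · rw [Finset.not_nonempty_iff_eq_empty.1 hne, Finset.card_empty]
      exact Nat.zero_le _
  have hle : ∀ y' ∈ X.toFinset, (B.toFinset.filter fun w => toSL hF w • inf = y').card ≤ v := fun y' hy' =>
    (hfib y' (Set.mem_toFinset.1 hy')).trans (ncard_stab_pair_le hF hg (Set.mem_toFinset.1 hy').2)
  have hsum : ∑ y' ∈ X.toFinset, (B.toFinset.filter fun w => toSL hF w • inf = y').card =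
      ∑ y' ∈ X.toFinset, v := by
    rw [← Finset.card_eq_sum_card_fiberwise, Finset.sum_const, smul_eq_mul, ← Set.ncard_eq_toFinset_card',
      ← Set.ncard_eq_toFinset_card', hcount]
    intro w hw
    rw [Finset.mem_coe, Set.mem_toFinset] at hw ⊢
    exact ⟨⟨w, hw.1, rfl⟩, hw.2.2⟩
  have heq := (Finset.sum_eq_sum_iff_of_le hle).1 hsum y (Set.mem_toFinset.2 ⟨hy, hyi⟩)
  exact le_antisymm (ncard_stab_pair_le hF hg hyi) (heq ▸ hfib y ⟨hy, hyi⟩)

include hF in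
theorem ncard_torusSet_one (hm : 1 ≤ m) (hg : Good hF M) :
    {s : Fˣ | T hF s ∈ M}.ncard = (center hF M).ncard - 1 := by
  rw [← ncard_stab_pair hF hm hg (zero_mem_orbit hF hg) inf_ne_zero.symm]
  have h : {g : Sz F (2 ^ (m + 1)) | g ∈ M ∧ toSL hF g • inf = (inf : Cfsg.suzukiOvoid F m) ∧ toSL hF g • Suzuki.zero = (Suzuki.zero : Cfsg.suzukiOvoid F m)} =
      T hF '' {s : Fˣ | T hF s ∈ M} := by
    ext g
    constructor
    · rintro ⟨hgM, h1, h2⟩
      obtain ⟨s, rfl⟩ := (stab_two hF g).1 ⟨h1, h2⟩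
      exact ⟨s, hgM, rfl⟩
    · rintro ⟨s, hs, rfl⟩
      exact ⟨hs, T_smul_inf hF s, T_smul_zero hF s⟩
  rw [h, Set.ncard_image_of_injective _ (T_injective hF)]

end CfsgLib.Recognition.SzSub
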