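/-
Non-solvable subgroups of a Suzuki group are conjugate to subfield subgroups.
-/
import Mathlib
import Cfsg.Agent.Lib.Recognition.Suzuki.SubCount

set_option autoImplicit false

namespace CfsgLib.Recognition.SzSub

open Matrix Cfsg.Lie CfsgLib.Spectrum CfsgLib.SuzukiLaws CfsgLib.Suzuki CfsgLib.Recognition.SzBorel
  CfsgLib.Recognition.SzNorm CfsgLib.Recognition.SzSolvable CfsgLib.Recognition.SzSol

variable {F : Type*} [Field F] [Fintype F] [CharP F 2] {m : ℕ}
  (hF : Fintype.card F = 2 ^ (2 * m + 1))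

variable {M : Subgroup (Sz F (2 ^ (m + 1)))}

/-- The subgroup of the torus lying in `M`, as a subgroup of units. -/
def torusUnits (M : Subgroup (Sz F (2 ^ (m + 1)))) : Subgroup Fˣ :=
  M.comap (MonoidHom.mk' (T hF) fun s t => (T_mul hF s t).symm)

theorem mem_torusUnits {s : Fˣ} : s ∈ torusUnits hF M ↔ T hF s ∈ M := Iff.rfl

include hF in
theorem card_torusUnits (hm : 1 ≤ m) (hg : Good hF M) :
    Nat.card (torusUnits hF M) = (center hF M).ncard - 1 := by
  rw [← SetLike.coe_sort_coe, Nat.card_coe_set_eq]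
  exact ncard_torusSet_one hF hm hg

include hF in
theorem center_exp (hm : 1 ≤ m) (hg : Good hF M) :
    ∃ n, 1 ≤ n ∧ n ∣ 2 * m + 1 ∧ (center hF M).ncard = 2 ^ n := by
  obtain ⟨n, hn⟩ := card_center_eq_pow hF M
  have h1 : 1 ≤ n := by
    obtain ⟨⟨b, hb, hbM⟩, -⟩ := hg
    by_contra h0
    rw [show n = 0 by omega, pow_zero] at hn
    obtain ⟨x, hx⟩ := Set.ncard_eq_one.1 hn
    have e1 : b = x := by rw [← Set.mem_singleton_iff, ← hx]; exact hbM
    have e2 : (0 : F) = x := by rw [← Set.mem_singleton_iff, ← hx]; exact zero_mem_center hF M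
    exact hb (e1.trans e2.symm)
  refine ⟨n, h1, ?_, hn⟩
  have h2 := (torusUnits hF M).card_subgroup_dvd_card
  rw [card_torusUnits hF hm hg, hn, Nat.card_units, Nat.card_eq_fintype_card (α := F), hF] at h2
  have h3 := Nat.pow_sub_one_gcd_pow_sub_one 2 n (2 * m + 1)
  rw [Nat.gcd_eq_left h2] at h3
  have h4 : 2 ^ n = 2 ^ n.gcd (2 * m + 1) := by
    have := Nat.one_le_two_pow (n := n)
    have := Nat.one_le_two_pow (n := n.gcd (2 * m + 1))
    omega
  rw [Nat.pow_right_injective le_rfl h4]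
  exact Nat.gcd_dvd_right _ _

include hF in
/-- With only one central involution the subgroup is solvable. -/
theorem solvable_of_two (hm : 1 ≤ m) (hg : Good hF M) (h2 : (center hF M).ncard = 2) :
    Group.IsSolvable M := by
  classical
  haveI : Fact (Nat.Prime 2) := ⟨Nat.prime_two⟩
  obtain ⟨⟨b, hb, hbM⟩, -⟩ := hg
  have hV : center hF M = {0, b} := (Set.eq_of_subset_of_ncard_le
    (by rintro x (rfl | rfl); exacts [zero_mem_center hF M, hbM])
    (by rw [h2, Set.ncard_pair hb.symm])).symm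
  have hz : orderOf (U hF 0 b) = 2 :=
    orderOf_eq_prime (show U hF 0 b ^ 2 = 1 by rw [pow_two, center_sq]) (center_ne_one hF hb)
  have hz' : orderOf (⟨U hF 0 b, hbM⟩ : M) = 2 := by rw [Subgroup.orderOf_mk]; exact hz
  obtain ⟨P, hP⟩ := (IsPGroup.of_card (p := 2) (n := 1)
    (by rw [Nat.card_zpowers, hz', pow_one]) :
      IsPGroup 2 (Subgroup.zpowers (⟨U hF 0 b, hbM⟩ : M))).exists_le_sylow
  haveI : Nontrivial P := ⟨⟨⟨_, hP (Subgroup.mem_zpowers _)⟩, 1, fun e =>
    center_ne_one hF hb (congrArg (fun g : P => ((g : M) : Sz F (2 ^ (m + 1)))) e)⟩⟩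
  haveI : Group.IsNilpotent P := P.2.isNilpotent
  haveI : Nontrivial (Subgroup.center P) :=
    (Subgroup.nontrivial_iff_ne_bot _).2 (Group.IsNilpotent.center_ne_bot _)
  obtain ⟨⟨c, hc⟩, hc1⟩ := exists_ne (1 : Subgroup.center P)
  have hcc : ∀ g : P, Commute ((g : M) : Sz F (2 ^ (m + 1))) ((c : M) : Sz F (2 ^ (m + 1))) := fun g =>
    congrArg (fun x : P => ((x : M) : Sz F (2 ^ (m + 1)))) (Subgroup.mem_center_iff.1 hc g)
  have hcne : ((c : M) : Sz F (2 ^ (m + 1))) ≠ 1 := fun e =>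
    hc1 (Subtype.ext (Subtype.ext (Subtype.ext e)))
  have hcinf : toSL hF ((c : M) : Sz F (2 ^ (m + 1))) • inf = (inf : Cfsg.suzukiOvoid F m) :=
    fix_of_commute hF (center_ne_one hF hb) (hcc ⟨_, hP (Subgroup.mem_zpowers _)⟩).symm (U_smul_inf hF 0 b)
  have hunip : ∀ g : P, ((g : M) : Sz F (2 ^ (m + 1))) ∈ unip hF := by
    intro g
    by_cases hg1 : ((g : M) : Sz F (2 ^ (m + 1))) = 1
    · rw [hg1]; exact one_mem _
    have hgi := fix_of_commute hF hcne (hcc g) hcinf
    refine mem_unip_of_fix hF hgi fun q hq => ?_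
    obtain ⟨j, hj⟩ := (IsPGroup.iff_orderOf.1 P.2) g
    rw [← Subgroup.orderOf_coe, ← Subgroup.orderOf_coe] at hj
    have hj0 : j ≠ 0 := fun e => hg1 (orderOf_eq_one_iff.1 (by rw [hj, e, pow_zero]))
    have ho := orderOf_pow_orderOf_div (n := 2) (orderOf_pos ((g : M) : Sz F (2 ^ (m + 1)))).ne'
      (hj ▸ dvd_pow_self 2 hj0)
    obtain ⟨r, hr⟩ := exists_unique_fix hF hm ho
    have hfix : ∀ x : Cfsg.suzukiOvoid F m, toSL hF ((g : M) : Sz F (2 ^ (m + 1))) • x = x →
        toSL hF (((g : M) : Sz F (2 ^ (m + 1))) ^ (orderOf ((g : M) : Sz F (2 ^ (m + 1))) / 2)) • x = x :=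
      fun x hx => by
        rw [map_pow]
        exact pow_mem (show toSL hF ((g : M) : Sz F (2 ^ (m + 1))) ∈ MulAction.stabilizer (Cfsg.Sz F m) x from hx) _
    rw [(hr q).1 (hfix q hq), (hr inf).1 (hfix inf hgi)]
  choose fa fb hab using hunip
  have hA : ∀ g : P, fa g * fa g ^ 2 ^ (m + 1) = 0 ∨ fa g * fa g ^ 2 ^ (m + 1) = b := fun g => by
    have h : fa g * fa g ^ 2 ^ (m + 1) ∈ center hF M := by
      show U hF 0 _ ∈ M
      rw [← sq_U hF (fa g) (fb g), ← hab g]
      exact mul_mem (g : M).2 (g : M).2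
    rwa [hV] at h
  have hdiff : ∀ g g' : P, fa g = fa g' → fb g + fb g' = 0 ∨ fb g + fb g' = b := fun g g' e => by
    have h : U hF 0 (fb g + fb g') ∈ M := by
      have h1 := mul_mem (inv_mem (g : M).2) (g' : M).2
      rw [hab g, hab g', U_inv, U_mul, e, CharTwo.add_self_eq_zero] at h1
      have e2 : fb g + fa g' * fa g' ^ 2 ^ (m + 1) + fb g' + fa g' * fa g' ^ 2 ^ (m + 1) = fb g + fb g' := by
        linear_combination (fa g' * fa g' ^ 2 ^ (m + 1)) * (CharTwo.two_eq_zero : (2 : F) = 0)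
      rwa [e2] at h1
    have h' : fb g + fb g' ∈ center hF M := h
    rwa [hV] at h'
  have hinj : ∀ g g' : P, fa g = fa g' → fb g = fb g' → g = g' := fun g g' e1 e2 =>
    Subtype.ext (Subtype.ext ((hab g).trans ((e1 ▸ e2 ▸ rfl : U hF (fa g) (fb g) = U hF (fa g') (fb g')).trans (hab g').symm)))
  -- a Sylow subgroup has at most four elements
  obtain ⟨a₀, ha₀⟩ := exists_sigma_root hF b
  have ha0 : a₀ ≠ 0 := fun e => hb (by rw [← ha₀, e, zero_mul])
  have hcls : ∀ g : P, fa g = 0 ∨ fa g = a₀ := fun g => by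
    rcases hA g with h | h
    · rw [mul_eq_zero, pow_eq_zero_iff (by positivity), or_self] at h
      exact Or.inl h
    · right
      rw [← ha₀] at h
      by_contra hne
      refine hne ?_
      rw [← div_eq_one_iff_eq ha0]
      refine eq_one_of_sigma hF ?_
      rw [pow_succ', div_pow, div_mul_div_comm, div_eq_one_iff_eq (mul_ne_zero ha0 (pow_ne_zero _ ha0))]
      exact h
  have hfour : Nat.card P ≤ 4 := by
    haveI := Fintype.ofFinite P
    rw [Nat.card_eq_fintype_card, ← Finset.card_univ]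
    refine (Finset.card_le_mul_card_image (f := fa) Finset.univ 2 fun a _ => ?_).trans ?_
    · by_contra hlt
      obtain ⟨x, hx, y, hy, z, hz, hxy, hxz, hyz⟩ := Finset.two_lt_card.1 (Nat.not_le.1 hlt)
      simp only [Finset.mem_filter, Finset.mem_univ, true_and] at hx hy hz
      rcases hdiff x y (hx.trans hy.symm) with h | h
      · exact hxy (hinj _ _ (hx.trans hy.symm) (CharTwo.add_eq_zero.1 h))
      rcases hdiff x z (hx.trans hz.symm) with h' | h'
      · exact hxz (hinj _ _ (hx.trans hz.symm) (CharTwo.add_eq_zero.1 h'))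
      · exact hyz (hinj _ _ (hy.trans hz.symm) (add_left_cancel (h.trans h'.symm)))
    · have h2 : (Finset.univ.image fa).card ≤ 2 :=
        (Finset.card_le_card (t := {0, a₀}) fun a ha => by
          obtain ⟨g, -, rfl⟩ := Finset.mem_image.1 ha
          simp [hcls g]).trans Finset.card_le_two
      omega
  obtain ⟨j, hj⟩ := P.2.exists_card_eq
  have hj2 : j ≤ 2 := by
    by_contra h
    have : 2 ^ 3 ≤ 2 ^ j := Nat.pow_le_pow_right two_pos (by omega)
    omega
  have hcyc : IsCyclic P := by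
    interval_cases j
    · haveI : Subsingleton P := (Nat.card_eq_one_iff_unique.1 (by rw [hj]; rfl)).1
      infer_instance
    · exact isCyclic_of_prime_card (p := 2) (by rw [hj]; rfl)
    · -- some element has order four
      obtain ⟨g, hg4⟩ : ∃ g : P, fa g ≠ 0 := by
        by_contra hall
        push Not at hall
        haveI := Fintype.ofFinite P
        have h := Finset.card_le_card_of_injOn (t := ({0, b} : Finset F)) fb (s := (Finset.univ : Finset P))
          (fun g _ => by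
            have h : fb g ∈ center hF M := by
              show U hF 0 _ ∈ M
              rw [← hall g, ← hab g]
              exact (g : M).2
            rw [hV] at h
            simpa using h) (fun g _ g' _ e => hinj g g' ((hall g).trans (hall g').symm) e)
        have h2 := h.trans Finset.card_le_two
        rw [Finset.card_univ, ← Nat.card_eq_fintype_card, hj] at h2
        omega
      refine isCyclic_of_orderOf_eq_card g ?_
      rw [hj]
      haveI : Fact (Nat.Prime 2) := ⟨Nat.prime_two⟩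
      refine orderOf_eq_prime_pow (p := 2) (n := 1) (fun h => hg4 ?_)
        (orderOf_dvd_iff_pow_eq_one.1 (hj ▸ orderOf_dvd_natCard g))
      have h' := congrArg (fun x : P => ((x : M) : Sz F (2 ^ (m + 1)))) h
      simp only [SubgroupClass.coe_pow, OneMemClass.coe_one] at h'
      have h'' : U hF 0 (fa g * fa g ^ 2 ^ (m + 1)) = U hF 0 0 := by
        rw [U_zero, ← sq_U hF (fa g) (fb g), ← hab g]
        exact (pow_two _).symm.trans h'
      have h3 := (U_injective hF h'').2
      rwa [mul_eq_zero, pow_eq_zero_iff (by positivity), or_self] at h3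
  have hmin : (Nat.card M).minFac = 2 :=
    (Nat.minFac_eq_two_iff _).2 ((dvd_of_eq hz'.symm).trans (orderOf_dvd_natCard _))
  have hK := IsCyclic.isComplement' hmin hcyc
  set K := (MonoidHom.transferSylow P (hcyc.normalizer_le_centralizer hmin)).ker with hKdef
  haveI : Group.IsSolvable K := by
    have hodd : Odd (Nat.card (K.map M.subtype)) := by
      rw [Nat.card_congr (K.equivMapOfInjective M.subtype M.subtype_injective).toEquiv.symm,
        Nat.odd_iff]
      have h1 := hK.card_mul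
      have h3 := (P : Subgroup M).card_mul_index
      rw [← h1, mul_comm (Nat.card K)] at h3
      have h4 := Nat.eq_of_mul_eq_mul_left Nat.card_pos h3
      have h5 := P.not_dvd_index
      rw [h4] at h5
      omega
    haveI := solvable_of_odd hF hm _ hodd
    exact Group.isSolvable_of_isSolvable_injective
      (f := (K.equivMapOfInjective M.subtype M.subtype_injective).toMonoidHom)
      (K.equivMapOfInjective M.subtype M.subtype_injective).injective
  haveI : Group.IsSolvable P := Group.isSolvable_of_comm fun x y => by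
    letI := hcyc.commGroup
    exact mul_comm x y
  exact Group.isSolvable_of_ker_le_range K.subtype (MonoidHom.transferSylow P (hcyc.normalizer_le_centralizer hmin))
    (by rw [Subgroup.range_subtype])

include hF in
/-- `M` is transitive on the points of its orbit other than infinity. -/
theorem exists_borel_to (hm : 1 ≤ m) (hg : Good hF M) {n : ℕ} (hn : 2 ≤ n)
    (hcard : (center hF M).ncard = 2 ^ n) {y : Cfsg.suzukiOvoid F m} (hy : y ∈ orbit hF M) (hyi : y ≠ inf) :
    ∃ g ∈ M, toSL hF g • inf = (inf : Cfsg.suzukiOvoid F m) ∧ toSL hF g • Suzuki.zero = y := by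
  set r := (2 ^ n - 1).minFac
  have h4 : 4 ≤ 2 ^ n := (Nat.pow_le_pow_right two_pos hn : 2 ^ 2 ≤ 2 ^ n)
  have hr : r.Prime := Nat.minFac_prime (by omega)
  haveI := Fact.mk hr
  have hrd : r ∣ 2 ^ n - 1 := Nat.minFac_dvd _
  have hr2 : r ≠ 2 := fun e => by
    rw [e] at hrd
    have h2 : 2 ∣ 2 ^ n := dvd_pow_self 2 (by omega)
    omega
  have key : ∀ y ∈ orbit hF M, y ≠ (inf : Cfsg.suzukiOvoid F m) →
      ∃ g ∈ M, orderOf g = r ∧ toSL hF g • inf = (inf : Cfsg.suzukiOvoid F m) ∧ toSL hF g • y = y := by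
    intro y hy hyi
    let S : Subgroup (Sz F (2 ^ (m + 1))) := M ⊓ ((MulAction.stabilizer (Cfsg.Sz F m)
      (inf : Cfsg.suzukiOvoid F m)).comap (toSL hF) ⊓ (MulAction.stabilizer (Cfsg.Sz F m) y).comap (toSL hF))
    have hS : Nat.card S = 2 ^ n - 1 := by
      rw [← SetLike.coe_sort_coe, Nat.card_coe_set_eq, ← hcard, ← ncard_stab_pair hF hm hg hy hyi]
      rfl
    obtain ⟨⟨g, hgS⟩, hgo⟩ := exists_prime_orderOf_dvd_card' (G := S) r (hS ▸ hrd)
    rw [Subgroup.orderOf_mk] at hgo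
    exact ⟨g, hgS.1, hgo, hgS.2.1, hgS.2.2⟩
  obtain ⟨g₁, h1M, h1o, h1i, h10⟩ := key _ (zero_mem_orbit hF hg) inf_ne_zero.symm
  obtain ⟨g₂, h2M, h2o, h2i, h2y⟩ := key y hy hyi
  have hz : ∀ g (hgM : g ∈ M), orderOf g = r → ∃ P : Sylow r M, (⟨g, hgM⟩ : M) ∈ P := fun g hgM ho => by
    obtain ⟨P, hP⟩ := (IsPGroup.of_card (p := r) (n := 1)
      (by rw [Nat.card_zpowers, Subgroup.orderOf_mk, ho, pow_one]) :
        IsPGroup r (Subgroup.zpowers (⟨g, hgM⟩ : M))).exists_le_sylow
    exact ⟨P, hP (Subgroup.mem_zpowers _)⟩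
  obtain ⟨P₁, hP₁⟩ := hz g₁ h1M h1o
  obtain ⟨P₂, hP₂⟩ := hz g₂ h2M h2o
  obtain ⟨⟨h, hhM⟩, hh⟩ := MulAction.exists_smul_eq M P₂ P₁
  have hmem : (⟨h * g₂ * h⁻¹, mul_mem (mul_mem hhM h2M) (inv_mem hhM)⟩ : M) ∈ P₁ := by
    rw [← hh]
    exact ⟨⟨g₂, h2M⟩, hP₂, rfl⟩
  obtain ⟨Q, hQ⟩ := ((P₁ : Sylow r M).2.map M.subtype).exists_le_sylow
  haveI := sylow_cyclic hF hm hr2 Q
  have hin : h * g₂ * h⁻¹ ∈ Subgroup.zpowers g₁ := by
    have ha : g₁ ∈ Q := hQ ⟨_, hP₁, rfl⟩
    have hb : h * g₂ * h⁻¹ ∈ Q := hQ ⟨_, hmem, rfl⟩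
    have h3 := CfsgLib.Suzuki.mem_zpowers_of_pow_eq_one (u := (⟨g₁, ha⟩ : Q)) (v := ⟨_, hb⟩) (by
      apply Subtype.ext
      show (h * g₂ * h⁻¹) ^ orderOf (⟨g₁, ha⟩ : Q) = 1
      rw [Subgroup.orderOf_mk, h1o, conj_pow, ← h2o, pow_orderOf_eq_one]
      group)
    obtain ⟨i, hi⟩ := Subgroup.mem_zpowers_iff.1 h3
    exact Subgroup.mem_zpowers_iff.2 ⟨i, congrArg Subtype.val hi⟩
  have hne : h * g₂ * h⁻¹ ≠ 1 := fun e => by
    rw [conj_eq_one_iff] at e
    rw [e, orderOf_one] at h2o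
    exact hr.one_lt.ne h2o
  obtain ⟨i, hi⟩ := Subgroup.mem_zpowers_iff.1 hin
  have hfix : ∀ x : Cfsg.suzukiOvoid F m, toSL hF g₁ • x = x → toSL hF (h * g₂ * h⁻¹) • x = x :=
    fun x hx => by
      rw [← hi, map_zpow]
      exact zpow_mem (show toSL hF g₁ ∈ MulAction.stabilizer (Cfsg.Sz F m) x from hx) i
  have himg : ∀ x : Cfsg.suzukiOvoid F m, toSL hF g₂ • x = x →
      toSL hF (h * g₂ * h⁻¹) • toSL hF h • x = toSL hF h • x := fun x hx => by
    rw [map_mul, map_mul, map_inv, mul_smul, mul_smul, inv_smul_smul, hx]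
  have hinj : toSL hF h • (inf : Cfsg.suzukiOvoid F m) ≠ toSL hF h • y := fun e =>
    hyi (MulAction.injective _ e).symm
  have cA := ne_zero_fix hF hne (hfix _ h1i) (hfix _ h10) (himg _ h2i) inf_ne_zero
  have cB := ne_zero_fix hF hne (hfix _ h1i) (hfix _ h10) (himg _ h2y) inf_ne_zero
  rcases cA with eA | eA <;> rcases cB with eB | eB
  · exact absurd (eA.trans eB.symm) hinj
  · refine ⟨h⁻¹, inv_mem hhM, ?_, ?_⟩
    · rw [map_inv, inv_smul_eq_iff, eA]
    · rw [map_inv, inv_smul_eq_iff, eB]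
  · refine ⟨(W hF * h)⁻¹, inv_mem (mul_mem hg.2 hhM), ?_, ?_⟩
    · rw [map_inv, inv_smul_eq_iff, map_mul, mul_smul, eA, W_smul_zero]
    · rw [map_inv, inv_smul_eq_iff, map_mul, mul_smul, eB, W_smul_inf]
  · exact absurd (eA.trans eB.symm) hinj

end CfsgLib.Recognition.SzSub
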