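/-
Non-solvable subgroups of a Suzuki group are subfield subgroups.
-/
import Mathlib
import Cfsg.Agent.Lib.Recognition.Suzuki.SubStructure
import Cfsg.Agent.Lib.Recognition.Suzuki.SolubilizerFour

set_option autoImplicit false

namespace CfsgLib.Recognition.SzSub

open Matrix Cfsg.Lie CfsgLib.Spectrum CfsgLib.SuzukiLaws CfsgLib.Suzuki CfsgLib.Recognition.SzBorel
  CfsgLib.Recognition.SzNorm CfsgLib.Recognition.SzSolvable CfsgLib.Recognition.SzSol

variable {F : Type*} [Field F] [Fintype F] [CharP F 2] {m : ℕ}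
  (hF : Fintype.card F = 2 ^ (2 * m + 1))

/-- Membership in the subfield with `2 ^ n` elements. -/
def InK (n : ℕ) (x : F) : Prop := x ^ 2 ^ n = x

theorem InK.add {n : ℕ} {x y : F} (hx : InK n x) (hy : InK n y) : InK n (x + y) :=
  (add_pow_char_pow x y 2 n).trans (congrArg₂ (· + ·) hx hy)

theorem InK.mul {n : ℕ} {x y : F} (hx : InK n x) (hy : InK n y) : InK n (x * y) :=
  (mul_pow x y _).trans (congrArg₂ (· * ·) hx hy)

theorem InK.pow {n : ℕ} {x : F} (hx : InK n x) (i : ℕ) : InK n (x ^ i) := by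
  show (x ^ i) ^ 2 ^ n = x ^ i
  rw [← pow_mul, mul_comm, pow_mul, hx]

theorem InK.inv {n : ℕ} {x : F} (hx : InK n x) : InK n x⁻¹ := by
  show x⁻¹ ^ 2 ^ n = x⁻¹
  rw [inv_pow, hx]

theorem inK_zero (n : ℕ) : InK n (0 : F) := zero_pow (by positivity)

theorem inK_one (n : ℕ) : InK n (1 : F) := one_pow _

theorem InK.of_sq {n : ℕ} {x : F} (h : InK n (x ^ 2)) : InK n x := by
  have h' : (x ^ 2) ^ 2 ^ n = x ^ 2 := h
  rw [← pow_mul, mul_comm, pow_mul] at h'
  exact frobenius_inj F 2 h'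

include hF in
theorem InK.of_sigma_one {n : ℕ} {x : F} (h : InK n (x * x ^ 2 ^ (m + 1))) : InK n x := by
  by_cases hx : x = 0
  · exact hx ▸ inK_zero n
  refine sigma_root_inj hF hx ?_
  have h' : (x * x ^ 2 ^ (m + 1)) ^ 2 ^ n = x * x ^ 2 ^ (m + 1) := h
  rw [mul_pow, ← pow_mul x (2 ^ (m + 1)), mul_comm (2 ^ (m + 1)) (2 ^ n), pow_mul] at h'
  exact h'

include hF in
theorem InK.of_sigma_two {n : ℕ} {x : F} (hx : x ≠ 0) (h : InK n (x ^ (2 ^ (m + 1) + 2))) : InK n x := by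
  show x ^ 2 ^ n = x
  have h' : (x ^ (2 ^ (m + 1) + 2)) ^ 2 ^ n = x ^ (2 ^ (m + 1) + 2) := h
  rw [← pow_mul, mul_comm, pow_mul] at h'
  rw [← div_eq_one_iff_eq hx]
  refine eq_one_of_sigma_two hF ?_
  rw [div_pow, div_eq_one_iff_eq (pow_ne_zero _ hx), h']

include hF in
theorem InK.of_sigma {n : ℕ} {x : F} (h : InK n (x ^ 2 ^ (m + 1))) : InK n x := by
  have h' : (x ^ 2 ^ (m + 1)) ^ 2 ^ n = x ^ 2 ^ (m + 1) := h
  rw [← pow_mul, mul_comm, pow_mul] at h'
  exact (bijective_iterateFrobenius F 2 (m + 1)).1 (by simpa [iterateFrobenius_def] using h')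

theorem inK_units {n : ℕ} {s : Fˣ} : InK n (s : F) ↔ s ^ (2 ^ n - 1) = 1 := by
  obtain ⟨d, hd⟩ : ∃ d, 2 ^ n = d + 1 := ⟨_, (Nat.sub_add_cancel Nat.one_le_two_pow).symm⟩
  rw [InK, hd, Nat.add_sub_cancel, pow_succ, mul_eq_right₀ s.ne_zero, ← Units.val_pow_eq_pow_val,
    Units.val_eq_one]

/-- The subfield subgroup. -/
noncomputable def sub (n : ℕ) : Subgroup (Sz F (2 ^ (m + 1))) :=
  Subgroup.closure ({W hF} ∪ {g | ∃ a b : F, InK n a ∧ InK n b ∧ g = U hF a b} ∪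
    {g | ∃ s : Fˣ, InK n (s : F) ∧ g = T hF s})

theorem W_mem_sub (n : ℕ) : W hF ∈ sub hF n := Subgroup.subset_closure (Or.inl (Or.inl rfl))

theorem U_mem_sub {n : ℕ} {a b : F} (ha : InK n a) (hb : InK n b) : U hF a b ∈ sub hF n :=
  Subgroup.subset_closure (Or.inl (Or.inr ⟨a, b, ha, hb, rfl⟩))

theorem T_mem_sub {n : ℕ} {s : Fˣ} (hs : InK n (s : F)) : T hF s ∈ sub hF n :=
  Subgroup.subset_closure (Or.inr ⟨s, hs, rfl⟩)

include hF in
theorem W_U_smul_zero {b : F} (hb : b ≠ 0) :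
    toSL hF (W hF * U hF 0 b) • (Suzuki.zero : Cfsg.suzukiOvoid F m) =
      toSL hF (U hF (b / b ^ 2 ^ (m + 1)) (b / b ^ 2 ^ (m + 1) * (b / b ^ 2 ^ (m + 1)) ^ 2 ^ (m + 1))) •
        Suzuki.zero := by
  set x := b / b ^ 2 ^ (m + 1) with hx
  apply Subtype.ext
  rw [map_mul, mul_smul, U_smul_zero]
  show sl (W hF) • ((toSL hF (U hF 0 b) • (Suzuki.zero : Cfsg.suzukiOvoid F m)) :
    Cfsg.suzukiOvoid F m).val = _
  rw [U_smul_zero]
  have hv : ((sl (W hF) : Matrix.SpecialLinearGroup (Fin 4) F) : Matrix (Fin 4) (Fin 4) F) *ᵥ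
      ovVec m 0 (b + 0 * 0 ^ 2 ^ (m + 1)) ≠ 0 := by
    intro h
    have := congrFun h 0
    simp [sl, W, antiJUnit, antiJ, ovVec, Matrix.mulVec, dotProduct, Fin.sum_univ_four] at this
  rw [sl_smul_mk (sl (W hF)) _ hv, Projectivization.mk_eq_mk_iff']
  have hbs : b ^ 2 ^ (m + 1) ≠ 0 := pow_ne_zero _ hb
  refine ⟨b ^ 2 ^ (m + 1), funext fun i => ?_⟩
  have e1 : x ^ 2 ^ (m + 1) = b ^ 2 ^ (m + 1) / b ^ 2 := by
    rw [hx, div_pow, sigma_sq hF]
  have e2 : x ^ (2 ^ (m + 1) + 2) = (b ^ 2 ^ (m + 1))⁻¹ := by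
    rw [pow_add, e1, hx, div_pow]
    field_simp
  have h2 : x * x ^ 2 ^ (m + 1) + x * x ^ 2 ^ (m + 1) = 0 := CharTwo.add_self_eq_zero _
  fin_cases i <;>
    simp [sl, W, antiJUnit, antiJ, ovVec, Matrix.mulVec, dotProduct, Fin.sum_univ_four, h2, e2, zero_pow]
  all_goals (try rw [hx])
  all_goals field_simp

variable {M : Subgroup (Sz F (2 ^ (m + 1)))}

include hF in
theorem conj_center_mem {s : Fˣ} {a c d : F} (h : T hF s * U hF a c ∈ M) (hd : d ∈ center hF M) :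
    (s : F) ^ (2 ^ (m + 1) + 2) * d ∈ center hF M := by
  have h1 := M.mul_mem (M.mul_mem h hd) (M.inv_mem h)
  have e : T hF s * U hF a c * U hF 0 d * (T hF s * U hF a c)⁻¹ =
      U hF 0 ((s : F) ^ (2 ^ (m + 1) + 2) * d) := by
    have e1 : U hF a c * U hF 0 d = U hF 0 d * U hF a c := by
      rw [U_mul, U_mul, zero_pow (by positivity), mul_zero, zero_mul, add_comm 0 a, add_comm d c]
    calc T hF s * U hF a c * U hF 0 d * (T hF s * U hF a c)⁻¹
        = T hF s * (U hF a c * U hF 0 d) * (U hF a c)⁻¹ * (T hF s)⁻¹ := by group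
      _ = T hF s * U hF 0 d * (T hF s)⁻¹ := by rw [e1]; group
      _ = _ := by rw [T_conj_U, mul_zero]
  rw [e] at h1
  exact h1

include hF in
theorem eq_sub (hm : 1 ≤ m) (hg : Good hF M) {n : ℕ} (hn : 2 ≤ n) (hcard : (center hF M).ncard = 2 ^ n) :
    M = sub hF n := by
  classical
  haveI := Fintype.ofFinite Fˣ
  have h4 : 4 ≤ 2 ^ n := (Nat.pow_le_pow_right two_pos hn : 2 ^ 2 ≤ 2 ^ n)
  -- the torus part
  have hC : ∀ s : Fˣ, T hF s ∈ M ↔ InK n (s : F) := by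
    have hsub : (torusUnits hF M : Set Fˣ) ⊆ {s : Fˣ | s ^ (2 ^ n - 1) = 1} := fun s hs => by
      have h1 := Subgroup.orderOf_dvd_natCard (torusUnits hF M) hs
      rw [card_torusUnits hF hm hg, hcard] at h1
      exact orderOf_dvd_iff_pow_eq_one.1 h1
    have hle : {s : Fˣ | s ^ (2 ^ n - 1) = 1}.ncard ≤ 2 ^ n - 1 := by
      rw [Set.ncard_eq_toFinset_card']
      refine le_trans (le_of_eq ?_) (IsCyclic.card_pow_eq_one_le (α := Fˣ) (n := 2 ^ n - 1) (by omega))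
      congr 1
      ext s
      simp
    have heq := Set.eq_of_subset_of_ncard_le hsub
      (hle.trans_eq (by rw [← hcard, ← card_torusUnits hF hm hg, ← Nat.card_coe_set_eq]; rfl))
    intro s
    rw [inK_units, ← mem_torusUnits hF, ← SetLike.mem_coe, heq]
    rfl
  obtain ⟨⟨b₀, hb₀, hbM⟩, hW⟩ := id hg
  -- the centre is a multiple of the subfield
  have hcen : ∀ x : F, x ∈ center hF M ↔ InK n (x / b₀) := by
    have hfwd : ∀ s : Fˣ, InK n (s : F) → (s : F) ^ (2 ^ (m + 1) + 2) * b₀ ∈ center hF M := fun s hs =>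
      conj_center_mem hF (a := 0) (c := 0) (by rw [U_zero, mul_one]; exact (hC s).2 hs) hbM
    have himg : (fun s : Fˣ => (s : F) ^ (2 ^ (m + 1) + 2) * b₀) '' {s : Fˣ | T hF s ∈ M} =
        center hF M \ {0} := by
      refine Set.eq_of_subset_of_ncard_le ?_ ?_
      · rintro _ ⟨s, hs, rfl⟩
        exact ⟨hfwd s ((hC s).1 hs), mul_ne_zero (pow_ne_zero _ s.ne_zero) hb₀⟩
      · rw [Set.ncard_image_of_injective _ (lam_injective hF hb₀), ncard_torusSet_one hF hm hg,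
          Set.ncard_sdiff_singleton_of_mem (zero_mem_center hF M)]
    intro x
    by_cases hx : x = 0
    · subst hx
      simp [zero_mem_center hF M, inK_zero]
    constructor
    · intro h
      obtain ⟨s, hs, rfl⟩ : x ∈ (fun s : Fˣ => (s : F) ^ (2 ^ (m + 1) + 2) * b₀) '' {s : Fˣ | T hF s ∈ M} :=
        himg ▸ ⟨h, hx⟩
      rw [mul_div_assoc, div_self hb₀, mul_one]
      exact ((hC s).1 hs).pow _
    · intro h
      obtain ⟨u, hu⟩ : ∃ u : Fˣ, (u : F) ^ (2 ^ (m + 1) + 2) = x / b₀ := by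
        have hinj : Function.Injective fun u : Fˣ => u ^ (2 ^ (m + 1) + 2) := fun u v e =>
          lam_injective hF one_ne_zero (by simpa using congrArg Units.val e)
        obtain ⟨u, hu⟩ := Finite.injective_iff_surjective.1 hinj (Units.mk0 _ (div_ne_zero hx hb₀))
        exact ⟨u, by simpa using congrArg Units.val hu⟩
      have := hfwd u (InK.of_sigma_two hF u.ne_zero (hu.symm ▸ h))
      rwa [hu, div_mul_cancel₀ _ hb₀] at this
  -- a point of the orbit
  set y : Cfsg.suzukiOvoid F m := toSL hF (W hF * U hF 0 b₀) • Suzuki.zero with hy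
  have hyo : y ∈ orbit hF M :=
    ⟨W hF * U hF 0 b₀ * W hF, mul_mem (mul_mem hW hbM) hW, by rw [map_mul, mul_smul, W_smul_inf]⟩
  have hyi : y ≠ inf := fun e => by
    rw [hy, map_mul, mul_smul] at e
    have e' : toSL hF (U hF 0 b₀) • (Suzuki.zero : Cfsg.suzukiOvoid F m) = Suzuki.zero := by
      rw [← smul_W_W hF (toSL hF (U hF 0 b₀) • (Suzuki.zero : Cfsg.suzukiOvoid F m)), e, W_smul_inf]
    exact inf_ne_zero (center_fix hF hb₀ e').symm
  obtain ⟨g, hgM, hgi, hg0⟩ := exists_borel_to hF hm hg hn hcard hyo hyi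
  obtain ⟨s, a, c, rfl⟩ := (stab_inf hF g).1 hgi
  have hsK : InK n (s : F) := by
    have h := (hcen _).1 (conj_center_mem hF hgM hbM)
    rw [mul_div_assoc, div_self hb₀, mul_one] at h
    exact InK.of_sigma_two hF s.ne_zero h
  have hUM : U hF a c ∈ M := by
    have := mul_mem (inv_mem ((hC s).2 hsK)) hgM
    rwa [inv_mul_cancel_left] at this
  have hax : (s : F) ^ 2 ^ (m + 1) * a = b₀ / b₀ ^ 2 ^ (m + 1) := by
    rw [hy, W_U_smul_zero hF hb₀, T_mul_U, map_mul, mul_smul, T_smul_zero] at hg0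
    have hne : toSL hF (U hF ((s : F) ^ 2 ^ (m + 1) * a) ((s : F) ^ (2 ^ (m + 1) + 2) * c)) •
        (Suzuki.zero : Cfsg.suzukiOvoid F m) ≠ inf := fun e => inf_ne_zero
      (MulAction.injective _ ((U_smul_inf hF _ _).trans e.symm))
    obtain ⟨ab, -, hu⟩ := existsUnique_U hF hne
    exact (congrArg Prod.fst ((hu (_, _) rfl).trans (hu (_, _) hg0.symm).symm))
  have ha0 : a ≠ 0 := fun e => by
    rw [e, mul_zero] at hax
    exact div_ne_zero hb₀ (pow_ne_zero _ hb₀) hax.symm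
  have hb₀K : InK n b₀ := by
    have h1 : a * a ^ 2 ^ (m + 1) ∈ center hF M := by
      show U hF 0 _ ∈ M
      rw [← sq_U hF a c]
      exact mul_mem hUM hUM
    have h2 := (hcen _).1 h1
    have e : a * a ^ 2 ^ (m + 1) / b₀ * ((s : F) ^ 2 ^ (m + 1) * (s : F) ^ 2) = b₀⁻¹ ^ 2 := by
      have e3 := congrArg (fun x => x * x ^ 2 ^ (m + 1)) hax
      simp only [mul_pow, div_pow, sigma_sq hF] at e3
      have hbs : b₀ ^ 2 ^ (m + 1) ≠ 0 := pow_ne_zero _ hb₀
      field_simp at e3 ⊢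
      linear_combination e3
    have h3 : InK n (b₀⁻¹ ^ 2) := e ▸ h2.mul ((hsK.pow _).mul (hsK.pow _))
    simpa using (InK.of_sq h3).inv
  have hL : ∀ x : F, x ∈ center hF M ↔ InK n x := fun x => by
    rw [hcen]
    exact ⟨fun h => by simpa [div_mul_cancel₀ _ hb₀] using h.mul hb₀K, fun h => by
      rw [div_eq_mul_inv]; exact h.mul hb₀K.inv⟩
  have hfst : ∀ a c : F, U hF a c ∈ M → InK n a := fun a c h => InK.of_sigma_one hF <| (hL _).1 <| by
    show U hF 0 _ ∈ M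
    rw [← sq_U hF a c]
    exact mul_mem h h
  have hdiff : ∀ a x y : F, U hF a x ∈ M → U hF a y ∈ M → InK n (x + y) := fun a x y h h' => (hL _).1 <| by
    show U hF 0 _ ∈ M
    have h1 := mul_mem (inv_mem h) h'
    rw [U_inv, U_mul, CharTwo.add_self_eq_zero] at h1
    have e2 : x + a * a ^ 2 ^ (m + 1) + y + a * a ^ 2 ^ (m + 1) = x + y := by
      linear_combination (a * a ^ 2 ^ (m + 1)) * (CharTwo.two_eq_zero : (2 : F) = 0)
    rwa [e2] at h1
  have hσ : ∀ x : F, x ≠ 0 → InK n x → ∃ t : Fˣ, InK n (t : F) ∧ (t : F) ^ 2 ^ (m + 1) = x := fun x hx h => by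
    obtain ⟨t, ht⟩ := (bijective_iterateFrobenius F 2 (m + 1)).2 x
    rw [iterateFrobenius_def] at ht
    have ht0 : t ≠ 0 := fun e => hx (by rw [← ht, e, zero_pow (by positivity)])
    exact ⟨Units.mk0 t ht0, InK.of_sigma hF (show InK n (t ^ 2 ^ (m + 1)) from ht.symm ▸ h), ht⟩
  have hscale : ∀ t : Fˣ, InK n (t : F) → ∀ a c : F, U hF a c ∈ M →
      U hF ((t : F) ^ 2 ^ (m + 1) * a) ((t : F) ^ (2 ^ (m + 1) + 2) * c) ∈ M := fun t ht a c h => by
    rw [← T_conj_U]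
    exact mul_mem (mul_mem ((hC t).2 ht) h) (inv_mem ((hC t).2 ht))
  obtain ⟨c₁, hc₁⟩ : ∃ c₁, U hF 1 c₁ ∈ M := by
    obtain ⟨t, ht, hta⟩ := hσ a⁻¹ (inv_ne_zero ha0) (hfst a c hUM).inv
    have := hscale t ht a c hUM
    rw [hta, inv_mul_cancel₀ ha0] at this
    exact ⟨_, this⟩
  have hgen : ∀ x : F, x ≠ 0 → InK n x → U hF x (x * x ^ 2 ^ (m + 1) * c₁) ∈ M := fun x hx h => by
    obtain ⟨t, ht, htx⟩ := hσ x hx h
    have h1 := hscale t ht 1 c₁ hc₁
    rw [mul_one, htx, pow_add (t : F), htx, ← sigma_sq hF (t : F), htx] at h1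
    exact h1
  have hc₁K : InK n c₁ := by
    obtain ⟨t, htM, ht1⟩ : ∃ t : Fˣ, T hF t ∈ M ∧ t ≠ 1 := by
      by_contra hall
      push Not at hall
      have h1 : (torusUnits hF M) = ⊥ := (Subgroup.eq_bot_iff_forall _).2 fun t ht => hall t ht
      have h2 := card_torusUnits hF hm hg
      rw [h1, Subgroup.card_bot, hcard] at h2
      omega
    have ht := (hC t).1 htM
    have ht0 := t.ne_zero
    have ht1' : (1 : F) + t ≠ 0 := fun e => ht1 (Units.ext (CharTwo.add_eq_zero.1 e).symm)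
    have h1 := mul_mem hc₁ (hgen _ ht0 ht)
    rw [U_mul, one_mul] at h1
    have h2 := hdiff _ _ _ h1 (hgen _ ht1' ((inK_one n).add ht))
    have e : c₁ + (t : F) * (t : F) ^ 2 ^ (m + 1) * c₁ + (t : F) ^ 2 ^ (m + 1) +
        (1 + (t : F)) * (1 + (t : F)) ^ 2 ^ (m + 1) * c₁ =
          c₁ * ((t : F) + (t : F) ^ 2 ^ (m + 1)) + (t : F) ^ 2 ^ (m + 1) := by
      rw [add_pow_char_pow, one_pow]
      linear_combination (c₁ + c₁ * (t : F) * (t : F) ^ 2 ^ (m + 1)) * (CharTwo.two_eq_zero : (2 : F) = 0)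
    rw [e] at h2
    have hne : (t : F) + (t : F) ^ 2 ^ (m + 1) ≠ 0 := fun e' => by
      have e1 := (CharTwo.add_eq_zero.1 e').symm
      have e2 := sigma_sq hF (t : F)
      rw [e1, e1] at e2
      exact ht1 (Units.ext ((mul_eq_left₀ ht0).1 (by rw [← pow_two]; exact e2.symm)))
    have h3 := (h2.add (ht.pow (2 ^ (m + 1)))).mul (ht.add (ht.pow (2 ^ (m + 1)))).inv
    rwa [add_assoc, CharTwo.add_self_eq_zero, add_zero, mul_inv_cancel_right₀ hne] at h3
  have hU : ∀ a c : F, InK n a → InK n c → U hF a c ∈ M := fun a c ha hc => by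
    by_cases h0 : a = 0
    · subst h0
      exact (hL c).2 hc
    · have h1 := mul_mem (hgen a h0 ha)
        (show U hF 0 (a * a ^ 2 ^ (m + 1) * c₁ + c) ∈ M from (hL _).2 (((ha.mul (ha.pow _)).mul hc₁K).add hc))
      rwa [U_mul, add_zero, zero_pow (by positivity), mul_zero, add_zero, ← add_assoc,
        CharTwo.add_self_eq_zero, zero_add] at h1
  have hsnd : ∀ a c : F, U hF a c ∈ M → InK n c := fun a c h => by
    have h1 := hdiff a c 0 h (hU a 0 (hfst a c h) (inK_zero n))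
    rwa [add_zero] at h1
  have hborel : ∀ g ∈ M, toSL hF g • inf = (inf : Cfsg.suzukiOvoid F m) → g ∈ sub hF n := fun g hgM hgi => by
    obtain ⟨s', a', c', rfl⟩ := (stab_inf hF g).1 hgi
    have hs' : InK n (s' : F) := by
      have h := (hcen _).1 (conj_center_mem hF hgM hbM)
      rw [mul_div_assoc, div_self hb₀, mul_one] at h
      exact InK.of_sigma_two hF s'.ne_zero h
    have hu : U hF a' c' ∈ M := by
      have := mul_mem (inv_mem ((hC s').2 hs')) hgM
      rwa [inv_mul_cancel_left] at this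
    exact mul_mem (T_mem_sub hF hs') (U_mem_sub hF (hfst _ _ hu) (hsnd _ _ hu))
  refine le_antisymm (fun g hgM => ?_) ((Subgroup.closure_le _).2 ?_)
  · by_cases hgi : toSL hF g • inf = (inf : Cfsg.suzukiOvoid F m)
    · exact hborel g hgM hgi
    · obtain ⟨k, hkM, hki, hk0⟩ := exists_borel_to hF hm hg hn hcard ⟨g, hgM, rfl⟩ hgi
      have hrest : W hF * (k⁻¹ * g) ∈ sub hF n := hborel _ (mul_mem hW (mul_mem (inv_mem hkM) hgM))
        (by rw [map_mul, map_mul, map_inv, mul_smul, mul_smul, ← hk0, inv_smul_smul, W_smul_zero])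
      have e : g = k * (W hF * (W hF * (k⁻¹ * g))) := by
        rw [← mul_assoc (W hF), W_mul_W, one_mul, mul_inv_cancel_left]
      rw [e]
      exact mul_mem (hborel k hkM hki) (mul_mem (W_mem_sub hF n) hrest)
  · rintro g ((rfl | ⟨a', c', ha', hc', rfl⟩) | ⟨t, ht, rfl⟩)
    · exact hW
    · exact hU a' c' ha' hc'
    · exact (hC t).2 ht

include hF in
theorem inK_top (x : F) : InK (2 * m + 1) x := by
  rw [InK, ← hF, FiniteField.pow_card]

include hF in
theorem sub_top : sub hF (2 * m + 1) = ⊤ := by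
  rw [eq_top_iff]
  intro g _
  have hb : ∀ g, toSL hF g • inf = (inf : Cfsg.suzukiOvoid F m) → g ∈ sub hF (2 * m + 1) := fun g hg => by
    obtain ⟨s, a, c, rfl⟩ := (stab_inf hF g).1 hg
    exact mul_mem (T_mem_sub hF (inK_top hF _)) (U_mem_sub hF (inK_top hF _) (inK_top hF _))
  by_cases hgi : toSL hF g • inf = (inf : Cfsg.suzukiOvoid F m)
  · exact hb g hgi
  · obtain ⟨a, c, hac⟩ := exists_U_frame hF hgi
    have e : g = U hF a c * (W hF * (W hF * ((U hF a c)⁻¹ * g))) := by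
      rw [← mul_assoc (W hF), W_mul_W, one_mul, mul_inv_cancel_left]
    rw [e]
    refine mul_mem (U_mem_sub hF (inK_top hF _) (inK_top hF _)) (mul_mem (W_mem_sub hF _) (hb _ ?_))
    rw [map_mul, map_mul, map_inv, mul_smul, mul_smul, ← hac, inv_smul_smul, W_smul_zero]

include hF in
/-- A non-solvable subgroup is conjugate to a subfield subgroup. -/
theorem nonsolvable_form (hm : 1 ≤ m) (M : Subgroup (Sz F (2 ^ (m + 1)))) (hns : ¬ Group.IsSolvable M) :
    ∃ (g : Sz F (2 ^ (m + 1))) (k : ℕ), 1 ≤ k ∧ 2 * k + 1 ∣ 2 * m + 1 ∧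
      M.comap (MulAut.conj g).toMonoidHom = sub hF (2 * k + 1) := by
  obtain ⟨g, hg⟩ := exists_good hF hm M hns
  obtain ⟨n, hn1, hnd, hn⟩ := center_exp hF hm hg
  have hne : n ≠ 1 := by
    rintro rfl
    haveI := solvable_of_two hF hm hg (by rw [hn, pow_one])
    let e := (M.comap (MulAut.conj g).toMonoidHom).equivMapOfInjective (MulAut.conj g).toMonoidHom
      (MulAut.conj g).injective
    haveI := Group.isSolvable_of_surjective (f := e.toMonoidHom) e.surjective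
    rw [Subgroup.map_comap_eq_self_of_surjective (MulAut.conj g).surjective] at this
    exact hns this
  obtain ⟨k, rfl⟩ : Odd n := (odd_two_mul_add_one m).of_dvd_nat hnd
  exact ⟨g, k, by omega, hnd, eq_sub hF hm hg (by omega) hn⟩

end CfsgLib.Recognition.SzSub
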