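/-
The subfield subgroups are smaller Suzuki groups.
-/
import Mathlib
import Cfsg.Agent.Lib.Recognition.Suzuki.Subfield

set_option autoImplicit false

namespace CfsgLib.Recognition.SzSub

open Matrix Cfsg.Lie CfsgLib.Spectrum CfsgLib.SuzukiLaws CfsgLib.Suzuki

theorem finrank_of_card {L : Type*} [Field L] [Fintype L] [Algebra (ZMod 2) L] {e : ℕ}
    (h : Fintype.card L = 2 ^ e) : Module.finrank (ZMod 2) L = e := by
  haveI : Fact (Nat.Prime 2) := ⟨Nat.prime_two⟩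
  have h1 := Module.card_eq_pow_finrank (K := ZMod 2) (V := L)
  rw [h, ZMod.card] at h1
  exact (Nat.pow_right_injective le_rfl h1).symm

variable {F : Type*} [Field F] [Fintype F] [CharP F 2] {m : ℕ}
  (hF : Fintype.card F = 2 ^ (2 * m + 1))
  {K : Type*} [Field K] [Fintype K] [CharP K 2] {k : ℕ} (hK : Fintype.card K = 2 ^ (2 * k + 1))

include hF hK in
theorem exists_embedding (hdiv : 2 * k + 1 ∣ 2 * m + 1) : Nonempty (K →+* F) := by
  haveI : Fact (Nat.Prime 2) := ⟨Nat.prime_two⟩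
  letI := ZMod.algebra K 2
  letI := ZMod.algebra F 2
  obtain ⟨f⟩ := FiniteField.nonempty_algHom_of_finrank_dvd (F := ZMod 2) (K := K) (L := F)
    (by rw [finrank_of_card hK, finrank_of_card hF]; exact hdiv)
  exact ⟨f.toRingHom⟩

include hK in
theorem sigma_compat (hdiv : 2 * k + 1 ∣ 2 * m + 1) (x : K) : x ^ 2 ^ (m + 1) = x ^ 2 ^ (k + 1) := by
  obtain ⟨c, hc⟩ := hdiv
  obtain ⟨i, rfl⟩ : Odd c := Nat.Odd.of_mul_right (hc ▸ odd_two_mul_add_one m : Odd ((2 * k + 1) * c))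
  have hm : m + 1 = (2 * k + 1) * i + (k + 1) := by nlinarith
  have hfix : ∀ j, x ^ 2 ^ ((2 * k + 1) * j) = x := fun j => by
    induction j with
    | zero => rw [mul_zero, pow_zero, pow_one]
    | succ j ih => rw [Nat.mul_succ, pow_add 2, pow_mul, ih, ← hK, FiniteField.pow_card]
  rw [hm, pow_add 2, pow_mul, hfix]

/-- Applying a ring homomorphism to the entries. -/
noncomputable def mapSz (φ : K →+* F) : Sz K (2 ^ (k + 1)) →* GL (Fin 4) F :=
  (Matrix.GeneralLinearGroup.map (n := Fin 4) φ).comp (Sz K (2 ^ (k + 1))).subtype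

theorem mapSz_injective (φ : K →+* F) : Function.Injective (mapSz (k := k) φ) := fun g h e => by
  apply Subtype.ext
  apply Units.ext
  ext i j
  exact φ.injective (congrFun (congrFun (congrArg (fun x : GL (Fin 4) F => x.1) e) i) j)

include hF in
theorem mapSz_W (φ : K →+* F) : mapSz φ (W hK) = (W hF : Sz F (2 ^ (m + 1))).1 := by
  apply Units.ext
  ext i j
  fin_cases i <;> fin_cases j <;> simp [mapSz, W, antiJUnit, antiJ]

include hF in
theorem mapSz_U (hdiv : 2 * k + 1 ∣ 2 * m + 1) (φ : K →+* F) (a b : K) :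
    mapSz φ (U hK a b) = (U hF (φ a) (φ b) : Sz F (2 ^ (m + 1))).1 := by
  have h : ∀ x : K, (φ x) ^ 2 ^ (m + 1) = φ (x ^ 2 ^ (k + 1)) := fun x => by
    rw [← map_pow, sigma_compat hK hdiv]
  apply Units.ext
  ext i j
  fin_cases i <;> fin_cases j <;> simp [mapSz, U, uUnit_val, uMat, h]

include hF in
theorem mapSz_T (hdiv : 2 * k + 1 ∣ 2 * m + 1) (φ : K →+* F) (s : Kˣ) :
    mapSz φ (T hK s) = (T hF (Units.map (φ : K →* F) s) : Sz F (2 ^ (m + 1))).1 := by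
  have h : ∀ x : K, (φ x) ^ (2 ^ (m + 1) + 1) = φ (x ^ (2 ^ (k + 1) + 1)) := fun x => by
    rw [pow_succ (φ x), pow_succ x (2 ^ (k + 1)), map_mul, ← map_pow φ x, sigma_compat hK hdiv]
  apply Units.ext
  ext i j
  fin_cases i <;> fin_cases j <;> simp [mapSz, T, torus, h]

include hK in
theorem range_eq (φ : K →+* F) (x : F) : x ∈ Set.range φ ↔ InK (2 * k + 1) x := by
  classical
  have hsub : Set.range φ ⊆ {x : F | InK (2 * k + 1) x} := by
    rintro _ ⟨y, rfl⟩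
    show φ y ^ 2 ^ (2 * k + 1) = φ y
    rw [← map_pow, ← hK, FiniteField.pow_card]
  suffices Set.range φ = {x : F | InK (2 * k + 1) x} by rw [this]; rfl
  refine Set.eq_of_subset_of_ncard_le hsub ?_
  rw [Set.ncard_range_of_injective φ.injective, Nat.card_eq_fintype_card, hK]
  have h1 : 1 < 2 ^ (2 * k + 1) := Nat.one_lt_two_pow (by omega)
  rw [Set.ncard_eq_toFinset_card']
  refine le_trans (Finset.card_le_card (t := (Polynomial.X ^ (2 ^ (2 * k + 1)) - Polynomial.X :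
    Polynomial F).roots.toFinset) fun x hx => ?_) ?_
  · rw [Set.mem_toFinset] at hx
    rw [Multiset.mem_toFinset, Polynomial.mem_roots (FiniteField.X_pow_card_sub_X_ne_zero F h1)]
    simp [Polynomial.IsRoot, show x ^ 2 ^ (2 * k + 1) = x from hx]
  · refine (Multiset.toFinset_card_le _).trans ((Polynomial.card_roots' _).trans ?_)
    rw [FiniteField.X_pow_card_sub_X_natDegree_eq F h1]

include hF hK in
theorem mapSz_range (hdiv : 2 * k + 1 ∣ 2 * m + 1) (φ : K →+* F) :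
    (mapSz (k := k) φ).range = (sub hF (2 * k + 1)).map (Sz F (2 ^ (m + 1))).subtype := by
  have htop := sub_top hK
  refine le_antisymm ?_ ?_
  · rw [MonoidHom.range_eq_map, ← htop, Subgroup.map_le_iff_le_comap]
    refine (Subgroup.closure_le _).2 ?_
    rintro g ((rfl | ⟨a, b, -, -, rfl⟩) | ⟨s, -, rfl⟩)
    · exact ⟨W hF, W_mem_sub hF _, (mapSz_W hF hK φ).symm⟩
    · exact ⟨U hF (φ a) (φ b), U_mem_sub hF ((range_eq hK φ _).1 ⟨a, rfl⟩) ((range_eq hK φ _).1 ⟨b, rfl⟩),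
        (mapSz_U hF hK hdiv φ a b).symm⟩
    · exact ⟨T hF (Units.map (φ : K →* F) s), T_mem_sub hF ((range_eq hK φ _).1 ⟨s, rfl⟩), (mapSz_T hF hK hdiv φ s).symm⟩
  · rw [Subgroup.map_le_iff_le_comap]
    refine (Subgroup.closure_le _).2 ?_
    rintro g ((rfl | ⟨a, b, ha, hb, rfl⟩) | ⟨s, hs, rfl⟩)
    · exact ⟨W hK, mapSz_W hF hK φ⟩
    · obtain ⟨a, rfl⟩ := (range_eq hK φ _).2 ha
      obtain ⟨b, rfl⟩ := (range_eq hK φ _).2 hb
      exact ⟨U hK a b, mapSz_U hF hK hdiv φ a b⟩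
    · obtain ⟨x, hx⟩ := (range_eq hK φ _).2 hs
      have hx0 : x ≠ 0 := fun e => s.ne_zero (by rw [← hx, e, map_zero])
      refine ⟨T hK (Units.mk0 x hx0), ?_⟩
      rw [mapSz_T hF hK hdiv φ, show Units.map (φ : K →* F) (Units.mk0 x hx0) = s from Units.ext hx]
      rfl

include hF hK in
theorem nonempty_sub_equiv (hdiv : 2 * k + 1 ∣ 2 * m + 1) :
    Nonempty (sub hF (2 * k + 1) ≃* Sz K (2 ^ (k + 1))) := by
  obtain ⟨φ⟩ := exists_embedding hF hK hdiv
  exact ⟨((MonoidHom.ofInjective (mapSz_injective (k := k) φ)).trans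
    ((MulEquiv.subgroupCongr (mapSz_range hF hK hdiv φ)).trans
      ((sub hF (2 * k + 1)).equivMapOfInjective _ (Subgroup.subtype_injective _)).symm)).symm⟩

include hF hK in
theorem card_sub (hk : 1 ≤ k) (hdiv : 2 * k + 1 ∣ 2 * m + 1) :
    Nat.card (sub hF (2 * k + 1)) =
      (2 ^ (2 * k + 1)) ^ 2 * (2 ^ (2 * k + 1) - 1) * ((2 ^ (2 * k + 1)) ^ 2 + 1) := by
  obtain ⟨e⟩ := nonempty_sub_equiv hF hK hdiv
  rw [Nat.card_congr e.toEquiv, card_group hK hk]

theorem size_inj {a b : ℕ}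
    (h : (2 ^ a) ^ 2 * (2 ^ a - 1) * ((2 ^ a) ^ 2 + 1) = (2 ^ b) ^ 2 * (2 ^ b - 1) * ((2 ^ b) ^ 2 + 1))
    (ha : 0 < a) (hb : 0 < b) : a = b := by
  have key : ∀ {x y : ℕ}, 0 < x → x < y →
      (2 ^ x) ^ 2 * (2 ^ x - 1) * ((2 ^ x) ^ 2 + 1) < (2 ^ y) ^ 2 * (2 ^ y - 1) * ((2 ^ y) ^ 2 + 1) := by
    intro x y hx hxy
    have h1 : 2 ^ x < 2 ^ y := Nat.pow_lt_pow_right (by omega) hxy
    have h2 : 2 ≤ 2 ^ x := Nat.le_self_pow hx.ne' 2
    have h3 : (2 ^ x) ^ 2 < (2 ^ y) ^ 2 := Nat.pow_lt_pow_left h1 (by omega)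
    exact Nat.mul_lt_mul'' (Nat.mul_lt_mul'' h3 (by omega)) (by omega)
  rcases lt_trichotomy a b with h' | h' | h'
  · exact absurd h (key ha h').ne
  · exact h'
  · exact absurd h.symm (key hb h').ne

end CfsgLib.Recognition.SzSub
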