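/-
The subgroups of a Suzuki group.
-/
import Mathlib
import Cfsg.Agent.Lib.Recognition.Suzuki.SubfieldIso

set_option autoImplicit false

namespace CfsgLib.Recognition.SzSub

open Matrix Cfsg.Lie CfsgLib.Spectrum CfsgLib.SuzukiLaws CfsgLib.Suzuki CfsgLib.Recognition.SzBorel
  CfsgLib.Recognition.SzNorm CfsgLib.Recognition.SzSolvable

variable {F : Type*} [Field F] [Fintype F] [CharP F 2] {m : ℕ}
  (hF : Fintype.card F = 2 ^ (2 * m + 1))

include hF in
/-- The two-point stabiliser as a subgroup. -/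
theorem exists_pair_torus (hm : 1 ≤ m) {a b : Cfsg.suzukiOvoid F m} (hab : a ≠ b) :
    ∃ U : Subgroup (Sz F (2 ^ (m + 1))), IsCyclic U ∧ Nat.card U = Fintype.card F - 1 ∧
      ∀ g, g ∈ U ↔ toSL hF g • a = a ∧ toSL hF g • b = b := by
  obtain ⟨k, k1, k2⟩ := exists_smul_pair hF hab
  let f : Fˣ →* Sz F (2 ^ (m + 1)) :=
    (MulAut.conj k).toMonoidHom.comp (MonoidHom.mk' (T hF) fun s t => (T_mul hF s t).symm)
  have hinj : Function.Injective f := (MulAut.conj k).injective.comp (T_injective hF)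
  have hiff : ∀ g, g ∈ f.range ↔ toSL hF g • a = a ∧ toSL hF g • b = b := fun g => by
    constructor
    · rintro ⟨s, rfl⟩
      rw [← k1, ← k2]
      refine ⟨(conj_fix hF _).1 ?_, (conj_fix hF _).1 ?_⟩ <;>
        show toSL hF (k⁻¹ * (k * T hF s * k⁻¹) * k) • _ = _ <;>
        rw [show k⁻¹ * (k * T hF s * k⁻¹) * k = T hF s by group]
      exacts [T_smul_inf hF s, T_smul_zero hF s]
    · rintro ⟨g1, g2⟩
      obtain ⟨s, hs⟩ := (stab_two hF (k⁻¹ * g * k)).1
        ⟨(conj_fix hF _).2 (by rw [k1]; exact g1), (conj_fix hF _).2 (by rw [k2]; exact g2)⟩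
      refine ⟨s, ?_⟩
      show k * T hF s * k⁻¹ = g
      rw [← hs]; group
  refine ⟨f.range, isCyclic_of_surjective _ (MonoidHom.rangeRestrict_surjective f), ?_, hiff⟩
  rw [Nat.card_congr (MonoidHom.ofInjective hinj).toEquiv.symm, Nat.card_units, Nat.card_eq_fintype_card]

include hF in
/-- A subgroup normalises a Sylow 2-subgroup, normalises a torus, or contains no proper solvable
restriction: it is conjugate to a subfield subgroup. -/
theorem subgroup_cases (hm : 1 ≤ m) (M : Subgroup (Sz F (2 ^ (m + 1)))) :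
    (∃ P : Sylow 2 (Sz F (2 ^ (m + 1))), M ≤ Subgroup.normalizer ((P : Subgroup (Sz F (2 ^ (m + 1)))) : Set (Sz F (2 ^ (m + 1))))) ∨
    (∃ U : Subgroup (Sz F (2 ^ (m + 1))), IsCyclic U ∧
      Nat.card U ∈ ({2 ^ (2 * m + 1) - 1, 2 ^ (2 * m + 1) + 2 ^ (m + 1) + 1, 2 ^ (2 * m + 1) - 2 ^ (m + 1) + 1} : Set ℕ) ∧
      M ≤ Subgroup.normalizer (U : Set (Sz F (2 ^ (m + 1))))) ∨
    ∃ (g : Sz F (2 ^ (m + 1))) (k : ℕ), 1 ≤ k ∧ 2 * k + 1 ∣ 2 * m + 1 ∧
      M = (sub hF (2 * k + 1)).map (MulAut.conj g).toMonoidHom := by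
  by_cases hs : Group.IsSolvable M
  swap
  · obtain ⟨g, k, hk, hd, e⟩ := nonsolvable_form hF hm M hs
    refine Or.inr (Or.inr ⟨g, k, hk, hd, ?_⟩)
    rw [← e, Subgroup.map_comap_eq_self_of_surjective (MulAut.conj g).surjective]
  by_cases hM : M = ⊥
  · exact Or.inl ⟨default, hM ▸ bot_le⟩
  haveI := hs
  haveI : Fact (Nat.Prime 2) := ⟨Nat.prime_two⟩
  rcases cases hF hm M hM with ⟨p, hp⟩ | ⟨a, b, hab, hp⟩ | ⟨h, hh, hle⟩
  · obtain ⟨k, hk⟩ := exists_smul_inf hF p
    refine Or.inl ⟨Sylow.mapSurjective (f := (MulAut.conj k).toMonoidHom) (MulAut.conj k).surjective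
      (sylow hF hm), fun g hg => ?_⟩
    show g ∈ Subgroup.normalizer (((unip hF).map (MulAut.conj k).toMonoidHom : Subgroup (Sz F (2 ^ (m + 1)))) :
      Set (Sz F (2 ^ (m + 1))))
    rw [← Subgroup.map_equiv_normalizer_eq (unip hF) (MulAut.conj k),
      Subgroup.mem_map_equiv, MulAut.conj_symm_apply, normalizer_unip]
    exact (conj_fix hF inf).2 (by rw [hk]; exact hp g hg)
  · obtain ⟨U, hc, hcard, hiff⟩ := exists_pair_torus hF hm hab
    refine Or.inr (Or.inl ⟨U, hc, by rw [hcard, hF]; exact Or.inl rfl, fun g hg => ?_⟩)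
    rw [Subgroup.mem_normalizer_iff]
    intro u
    rw [hiff, hiff]
    have hc' : ∀ r : Cfsg.suzukiOvoid F m, toSL hF (g * u * g⁻¹) • toSL hF g • r = toSL hF g • r ↔
        toSL hF u • r = r := fun r => by
      rw [← conj_fix hF r, show g⁻¹ * (g * u * g⁻¹) * g = u by group]
    rw [← hc' a, ← hc' b]
    rcases hp g hg with ⟨e1, e2⟩ | ⟨e1, e2⟩ <;> rw [e1, e2]
    exact and_comm
  · refine Or.inr (Or.inl ⟨tor h, (SzPartition.centralizer_card hF hm hh).2.1, ?_, hle⟩)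
    rcases (SzPartition.centralizer_card hF hm hh).1 with e | e
    · exact Or.inr (Or.inl e)
    · exact Or.inr (Or.inr e)

include hF in
/-- The subfield subgroup is not solvable. -/
theorem not_solvable_of_equiv {K : Type*} [Field K] [Fintype K] [CharP K 2] {k : ℕ}
    (hK : Fintype.card K = 2 ^ (2 * k + 1)) (hk : 1 ≤ k) {S : Subgroup (Sz F (2 ^ (m + 1)))}
    (e : S ≃* Sz K (2 ^ (k + 1))) : ¬ Group.IsSolvable S := fun hs => by
  haveI := Group.isSolvable_of_surjective (f := e.toMonoidHom) e.surjective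
  haveI : Nontrivial (Sz K (2 ^ (k + 1))) := ⟨⟨U hK 0 1, 1, center_ne_one hK one_ne_zero⟩⟩
  exact absurd (perfect hK hk) (Group.IsSolvable.commutator_lt_top_of_nontrivial _).ne

include hF in
theorem exists_conj_sub (hm : 1 ≤ m) {K : Type*} [Field K] [Fintype K] [CharP K 2] {k : ℕ}
    (hK : Fintype.card K = 2 ^ (2 * k + 1)) (hk : 1 ≤ k) {S : Subgroup (Sz F (2 ^ (m + 1)))}
    (e : S ≃* Sz K (2 ^ (k + 1))) :
    ∃ g : Sz F (2 ^ (m + 1)), S = (sub hF (2 * k + 1)).map (MulAut.conj g).toMonoidHom := by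
  haveI : Fact (Nat.Prime 2) := ⟨Nat.prime_two⟩
  obtain ⟨g, j, hj, hd, he⟩ := nonsolvable_form hF hm S (not_solvable_of_equiv hF hK hk e)
  haveI : Fintype (GaloisField 2 (2 * j + 1)) := Fintype.ofFinite _
  have hJ : Fintype.card (GaloisField 2 (2 * j + 1)) = 2 ^ (2 * j + 1) := by
    rw [← Nat.card_eq_fintype_card, GaloisField.card 2 _ (by omega)]
  have hcard := card_sub hF hJ hj hd
  have hS : S = (sub hF (2 * j + 1)).map (MulAut.conj g).toMonoidHom := by
    rw [← he, Subgroup.map_comap_eq_self_of_surjective (MulAut.conj g).surjective]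
  rw [← SzPartition.card_map_conj g, ← hS, Nat.card_congr e.toEquiv, card_group hK hk] at hcard
  have := size_inj hcard (by omega) (by omega)
  exact ⟨g, this ▸ hS⟩

end CfsgLib.Recognition.SzSub
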