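/-
Subgroups of a Suzuki group without fixed points are small.
-/
import Mathlib
import Cfsg.Agent.Lib.Recognition.Suzuki.Subgroups

set_option autoImplicit false

namespace CfsgLib.Recognition.SzBinary

open Matrix Cfsg.Lie CfsgLib.Spectrum CfsgLib.SuzukiLaws CfsgLib.Suzuki CfsgLib.Recognition.SzBorel
  CfsgLib.Recognition.SzNorm CfsgLib.Recognition.SzSolvable

variable {F : Type*} [Field F] [Fintype F] [CharP F 2] {m : ℕ}
  (hF : Fintype.card F = 2 ^ (2 * m + 1))

include hF in
/-- A proper subgroup without fixed points has order less than `q²`, not divisible by `q`. -/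
theorem small (hm : 1 ≤ m) (M : Subgroup (Sz F (2 ^ (m + 1)))) (hM : M ≠ ⊤)
    (hfix : ∀ p : Cfsg.suzukiOvoid F m, ∃ g ∈ M, toSL hF g • p ≠ p) :
    Nat.card M < Fintype.card F ^ 2 ∧ ¬ Fintype.card F ∣ Nat.card M := by
  have h8 : 2 ^ 3 ≤ 2 ^ (2 * m + 1) := Nat.pow_le_pow_right two_pos (by omega)
  by_cases hs : Group.IsSolvable M
  swap
  · obtain ⟨g, k, hk, hdiv, e⟩ := SzSub.nonsolvable_form hF hm M hs
    haveI : Fact (Nat.Prime 2) := ⟨Nat.prime_two⟩
    haveI : Fintype (GaloisField 2 (2 * k + 1)) := Fintype.ofFinite _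
    have hK : Fintype.card (GaloisField 2 (2 * k + 1)) = 2 ^ (2 * k + 1) := by
      rw [← Nat.card_eq_fintype_card, GaloisField.card 2 _ (by omega)]
    have hcard : Nat.card M = Nat.card (SzSub.sub hF (2 * k + 1)) := by
      rw [← e, ← SzPartition.card_map_conj g (M.comap (MulAut.conj g).toMonoidHom),
        Subgroup.map_comap_eq_self_of_surjective (MulAut.conj g).surjective]
    rw [SzSub.card_sub hF hK hk hdiv] at hcard
    obtain ⟨c, hc⟩ := hdiv
    obtain ⟨i, rfl⟩ : Odd c := Nat.Odd.of_mul_right (hc ▸ odd_two_mul_add_one m : Odd ((2 * k + 1) * c))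
    have hi : 1 ≤ i := by
      by_contra h0
      obtain rfl : i = 0 := by omega
      obtain rfl : k = m := by omega
      refine hM ?_
      rw [← Subgroup.map_comap_eq_self_of_surjective (f := (MulAut.conj g).toMonoidHom) (MulAut.conj g).surjective M, e,
        SzSub.sub_top hF, Subgroup.map_top_of_surjective _ (MulAut.conj g).surjective]
    have h3 : 3 * (2 * k + 1) ≤ 2 * m + 1 := by
      rw [hc, mul_comm 3]; exact Nat.mul_le_mul_left _ (by omega)
    set Q := 2 ^ (2 * k + 1) with hQ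
    have hQ2 : 2 ≤ Q := Nat.le_self_pow (by omega) 2
    constructor
    · have h1 : (Q - 1) * (Q ^ 2 + 1) < Q ^ 3 + Q := by
        obtain ⟨r, hr⟩ : ∃ r, Q = r + 1 := ⟨Q - 1, by omega⟩
        rw [hr, Nat.add_sub_cancel]
        nlinarith
      have h2 : Q ^ 2 * (Q ^ 3 + Q) ≤ Q ^ 6 := by
        have : Q ^ 3 + Q ≤ Q ^ 4 := by nlinarith [Nat.pow_le_pow_left hQ2 3]
        calc Q ^ 2 * (Q ^ 3 + Q) ≤ Q ^ 2 * Q ^ 4 := Nat.mul_le_mul_left _ this
          _ = Q ^ 6 := by ring
      have h5 : Q ^ 6 ≤ Fintype.card F ^ 2 := by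
        rw [hF, hQ, ← pow_mul, ← pow_mul]
        exact Nat.pow_le_pow_right two_pos (by omega)
      rw [hcard, mul_assoc]
      exact lt_of_lt_of_le (Nat.mul_lt_mul_of_pos_left h1 (by positivity)) (h2.trans h5)
    · intro hd
      rw [hcard, hF, mul_assoc] at hd
      have hodd : Odd ((Q - 1) * (Q ^ 2 + 1)) := by
        have h2 : 2 ∣ Q := dvd_pow_self 2 (by omega)
        have h2' : 2 ∣ Q ^ 2 := dvd_pow h2 (by omega)
        refine Nat.odd_mul.2 ⟨Nat.odd_iff.2 (by omega), Nat.odd_iff.2 (by omega)⟩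
      have h6 := (hodd.coprime_two_left.pow_left (2 * m + 1)).dvd_of_dvd_mul_right hd
      rw [hQ, ← pow_mul, Nat.pow_dvd_pow_iff_le_right one_lt_two] at h6
      omega
  by_cases hb : M = ⊥
  · obtain ⟨g, hg, hne⟩ := hfix inf
    rw [hb, Subgroup.mem_bot] at hg
    rw [hg, map_one, one_smul] at hne
    exact absurd rfl hne
  haveI := hs
  rcases cases hF hm M hb with ⟨p, hp⟩ | ⟨a, b, hab, hp⟩ | ⟨h, hh, hle⟩
  · obtain ⟨g, hg, hne⟩ := hfix p
    exact absurd (hp g hg) hne
  · obtain ⟨U, -, hUc, hU⟩ := SzSub.exists_pair_torus hF hm hab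
    have hbound : Nat.card M ≤ 2 * (Fintype.card F - 1) := by
      obtain ⟨w, hw⟩ : ∃ w, ∀ g ∈ M, g ∈ U ∨ w * g ∈ U := by
        by_cases hex : ∃ w ∈ M, toSL hF w • a = b ∧ toSL hF w • b = a
        · obtain ⟨w, -, w1, w2⟩ := hex
          refine ⟨w, fun g hg => (hp g hg).imp (hU g).2 fun h => (hU _).2 ⟨?_, ?_⟩⟩
          · rw [map_mul, mul_smul, h.1, w2]
          · rw [map_mul, mul_smul, h.2, w1]
        · exact ⟨1, fun g hg => Or.inl ((hU g).2 ((hp g hg).resolve_right fun h => hex ⟨g, hg, h⟩))⟩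
      have hsub : (M : Set (Sz F (2 ^ (m + 1)))) ⊆ (U : Set _) ∪ (fun g => w⁻¹ * g) '' (U : Set _) := fun g hg => by
        rcases hw g hg with h | h
        · exact Or.inl h
        · exact Or.inr ⟨w * g, h, inv_mul_cancel_left w g⟩
      have h1 := (Set.ncard_le_ncard hsub).trans ((Set.ncard_union_le _ _).trans
        (Nat.add_le_add_left (Set.ncard_image_le (s := (U : Set (Sz F (2 ^ (m + 1)))))) _))
      rw [← Nat.card_coe_set_eq, ← Nat.card_coe_set_eq, SetLike.coe_sort_coe, SetLike.coe_sort_coe, hUc] at h1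
      omega
    refine ⟨hbound.trans_lt ?_, fun hd => ?_⟩
    · obtain ⟨q, hq⟩ : ∃ q, Fintype.card F = q + 1 := ⟨_, (Nat.sub_add_cancel Fintype.card_pos).symm⟩
      rw [hq, Nat.add_sub_cancel]; nlinarith
    · haveI : Fact (Nat.Prime 2) := ⟨Nat.prime_two⟩
      rw [hF] at hd
      obtain ⟨P, hP⟩ := Sylow.exists_subgroup_card_pow_prime (G := M) 2 hd
      have hinj : Nat.card P ≤ 2 := by
        have hdisj : ∀ g : P, ((g : M) : Sz F (2 ^ (m + 1))) ∈ U → g = 1 := fun g hg => by
          have h1 : orderOf g ∣ 2 ^ (2 * m + 1) := hP ▸ orderOf_dvd_natCard g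
          have h2 : orderOf g ∣ Fintype.card F - 1 := by
            rw [← Subgroup.orderOf_coe g, ← Subgroup.orderOf_coe (g : M), ← hUc]
            exact Subgroup.orderOf_dvd_natCard U hg
          have hodd : Odd (Fintype.card F - 1) := by
            rw [hF, Nat.odd_iff]
            have : 2 ∣ 2 ^ (2 * m + 1) := dvd_pow_self 2 (by omega)
            omega
          exact orderOf_eq_one_iff.1 (Nat.eq_one_of_dvd_coprimes (hodd.coprime_two_left.pow_left _) h1 h2)
        haveI := Fintype.ofFinite P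
        rw [Nat.card_eq_fintype_card, ← Finset.card_univ]
        by_contra hlt
        obtain ⟨x, -, y, -, z, -, hxy, hxz, hyz⟩ := Finset.two_lt_card.1 (Nat.not_le.1 hlt)
        have key : ∀ u v : P, u ≠ 1 → v ≠ 1 → u = v := fun u v hu hv => by
          have hs' : ∀ u : P, u ≠ 1 → toSL hF ((u : M) : Sz F (2 ^ (m + 1))) • a = b ∧
              toSL hF ((u : M) : Sz F (2 ^ (m + 1))) • b = a := fun u hu =>
            (hp _ (u : M).2).resolve_left fun h => hu (hdisj u ((hU _).2 h))
          have h := hdisj (u * v) ((hU _).2 ⟨by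
            rw [Subgroup.coe_mul, Subgroup.coe_mul, map_mul, mul_smul, (hs' v hv).1, (hs' u hu).2],
            by rw [Subgroup.coe_mul, Subgroup.coe_mul, map_mul, mul_smul, (hs' v hv).2, (hs' u hu).1]⟩)
          have h' := hdisj (v * v) ((hU _).2 ⟨by
            rw [Subgroup.coe_mul, Subgroup.coe_mul, map_mul, mul_smul, (hs' v hv).1, (hs' v hv).2],
            by rw [Subgroup.coe_mul, Subgroup.coe_mul, map_mul, mul_smul, (hs' v hv).2, (hs' v hv).1]⟩)
          exact mul_right_cancel (h.trans h'.symm)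
        rcases eq_or_ne x 1 with rfl | hx1
        · exact hyz (key y z (Ne.symm hxy) (Ne.symm hxz))
        rcases eq_or_ne y 1 with rfl | hy1
        · exact hxz (key x z hx1 (Ne.symm hyz))
        exact hxy (key x y hx1 hy1)
      rw [hP] at hinj
      omega
  · have hN : Nat.card M ∣ 4 * Nat.card (tor h) := card_norm hF hm hh ▸ Subgroup.card_dvd_of_le hle
    refine ⟨(Nat.le_of_dvd (Nat.mul_pos (by norm_num) Nat.card_pos) hN).trans_lt ?_, fun hd => ?_⟩
    · have hr : 2 * 2 ^ (m + 1) ≤ 2 ^ (2 * m + 1) := by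
        rw [← pow_succ']
        exact Nat.pow_le_pow_right two_pos (by omega)
      rw [hF]
      rcases (SzPartition.centralizer_card hF hm hh).1 with e | e <;> rw [tor, e]
      · nlinarith
      · have : 2 ^ (2 * m + 1) - 2 ^ (m + 1) + 1 ≤ 2 ^ (2 * m + 1) + 2 ^ (m + 1) + 1 := by omega
        nlinarith
    · rw [hF] at hd
      have h8' : 2 ^ 3 ∣ 4 * Nat.card (tor h) := ((Nat.pow_dvd_pow 2 (by omega : 3 ≤ 2 * m + 1)).trans hd).trans hN
      have hodd := odd_card_tor hF hm hh
      rw [Nat.odd_iff] at hodd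
      omega

end CfsgLib.Recognition.SzBinary
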