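/-
Consequences of binarity for the action on the cosets of a subgroup.
-/
import Mathlib

set_option autoImplicit false

namespace CfsgLib.Recognition.SzBinary

variable {G : Type*} [Group G]

/-- The action on the cosets is binary. -/
def Binary (H : Subgroup G) : Prop :=
  ∀ (n : ℕ) (I J : Fin n → G ⧸ H), 2 ≤ n →
    (∀ i j : Fin n, i ≠ j → ∃ g : G, g • I i = J i ∧ g • I j = J j) → ∃ g : G, ∀ i, g • I i = J i

/-- The intersection of the conjugates given by a set of elements. -/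
def inter (H : Subgroup G) (S : Set G) : Subgroup G := ⨅ g ∈ S, H.map (MulAut.conj g).toMonoidHom

theorem mem_inter {H : Subgroup G} {S : Set G} {x : G} :
    x ∈ inter H S ↔ ∀ g ∈ S, g⁻¹ * x * g ∈ H := by
  simp only [inter, Subgroup.mem_iInf, Subgroup.mem_map_equiv, MulAut.conj_symm_apply]

theorem smul_mk_eq {H : Subgroup G} (x y g : G) :
    g • (x : G ⧸ H) = (y : G ⧸ H) ↔ y⁻¹ * g * x ∈ H := by
  rw [show g • (x : G ⧸ H) = ((g * x : G) : G ⧸ H) from rfl, eq_comm, QuotientGroup.eq, mul_assoc]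

theorem binary_mul [Finite G] {H : Subgroup G} (hb : Binary H) {SA SB SC : Set G} (hA : SA.Nonempty)
    (hB : SB.Nonempty) {a b : G} (ha : a ∈ inter H SA) (hbm : b ∈ inter H SB)
    (hc : b⁻¹ * a ∈ inter H SC) :
    ∃ y, y ∈ inter H SA ∧ y ∈ inter H SB ∧ y⁻¹ * a ∈ inter H SC := by
  classical
  set e := (Finite.equivFin (↥SA ⊕ ↥SB ⊕ ↥SC)).symm
  let P : ↥SA ⊕ ↥SB ⊕ ↥SC → G := Sum.elim (fun g => g.1) (Sum.elim (fun g => g.1) fun g => g.1)
  let Q : ↥SA ⊕ ↥SB ⊕ ↥SC → G := Sum.elim (fun g => g.1) (Sum.elim (fun g => g.1) fun g => a * g.1)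
  have hn : 2 ≤ Nat.card (↥SA ⊕ ↥SB ⊕ ↥SC) := by
    rw [Nat.card_sum, Nat.card_sum]
    haveI := hA.to_subtype
    haveI := hB.to_subtype
    have h1 : 0 < Nat.card SA := Nat.card_pos
    have h2 : 0 < Nat.card SB := Nat.card_pos
    omega
  have h0 : ∀ g : G, g⁻¹ * 1 * g ∈ H := fun g => by rw [mul_one, inv_mul_cancel]; exact one_mem H
  have h0' : ∀ g : G, (a * g)⁻¹ * a * g ∈ H := fun g => by
    rw [show (a * g)⁻¹ * a * g = 1 by group]; exact one_mem H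
  have h0'' : ∀ g ∈ SA, g⁻¹ * a * g ∈ H := mem_inter.1 ha
  have hb' : ∀ g ∈ SB, g⁻¹ * b * g ∈ H := mem_inter.1 hbm
  have hc' : ∀ g ∈ SC, (a * g)⁻¹ * b * g ∈ H := fun g hg => by
    have h := H.inv_mem (mem_inter.1 hc g hg)
    rwa [show (g⁻¹ * (b⁻¹ * a) * g)⁻¹ = (a * g)⁻¹ * b * g by group] at h
  obtain ⟨y, hy⟩ := hb _ (fun i => (P (e i) : G ⧸ H)) (fun i => (Q (e i) : G ⧸ H)) hn (fun i j _ => by
    simp only [smul_mk_eq]
    rcases e i with gi | gi | gi <;> rcases e j with gj | gj | gj <;>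
      simp only [P, Q, Sum.elim_inl, Sum.elim_inr]
    · exact ⟨1, h0 _, h0 _⟩
    · exact ⟨1, h0 _, h0 _⟩
    · exact ⟨a, h0'' _ gi.2, h0' _⟩
    · exact ⟨1, h0 _, h0 _⟩
    · exact ⟨1, h0 _, h0 _⟩
    · exact ⟨b, hb' _ gi.2, hc' _ gj.2⟩
    · exact ⟨a, h0' _, h0'' _ gj.2⟩
    · exact ⟨b, hc' _ gi.2, hb' _ gj.2⟩
    · exact ⟨a, h0' _, h0' _⟩)
  have hy' : ∀ s : ↥SA ⊕ ↥SB ⊕ ↥SC, (Q s)⁻¹ * y * P s ∈ H := fun s => by
    have h := hy (e.symm s)
    simp only [Equiv.apply_symm_apply] at h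
    exact (smul_mk_eq _ _ _).1 h
  refine ⟨y, mem_inter.2 fun g hg => ?_, mem_inter.2 fun g hg => ?_, mem_inter.2 fun g hg => ?_⟩
  · exact hy' (Sum.inl ⟨g, hg⟩)
  · exact hy' (Sum.inr (Sum.inl ⟨g, hg⟩))
  · have h : (a * g)⁻¹ * y * g ∈ H := hy' (Sum.inr (Sum.inr ⟨g, hg⟩))
    have h2 := H.inv_mem h
    rwa [show ((a * g)⁻¹ * y * g)⁻¹ = g⁻¹ * (y⁻¹ * a) * g by group] at h2

/-- In a binary action of a group of order prime to three no three points form a directed cycle. -/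
theorem three_cycle [Finite G] {H : Subgroup G} (hb : Binary H) (h3 : ¬ 3 ∣ Nat.card G) {x y z g₁ g₂ g₃ : G}
    (e1 : g₁ • (x : G ⧸ H) = y) (e1' : g₁ • (y : G ⧸ H) = z)
    (e2 : g₂ • (y : G ⧸ H) = z) (e2' : g₂ • (z : G ⧸ H) = x)
    (e3 : g₃ • (x : G ⧸ H) = y) (e3' : g₃ • (z : G ⧸ H) = x) : (x : G ⧸ H) = y := by
  obtain ⟨g, hg⟩ := hb 3 ![(x : G ⧸ H), (y : G ⧸ H), (z : G ⧸ H)] ![(y : G ⧸ H), (z : G ⧸ H), (x : G ⧸ H)]
    (by omega) (fun i j hij => by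
      fin_cases i <;> fin_cases j <;> simp at hij ⊢
      · exact ⟨g₁, e1, e1'⟩
      · exact ⟨g₃, e3, e3'⟩
      · exact ⟨g₁, e1', e1⟩
      · exact ⟨g₂, e2, e2'⟩
      · exact ⟨g₃, e3', e3⟩
      · exact ⟨g₂, e2', e2⟩)
  have hx : g • (x : G ⧸ H) = y := by simpa using hg 0
  have hy : g • (y : G ⧸ H) = z := by simpa using hg 1
  have hz : g • (z : G ⧸ H) = x := by simpa using hg 2
  have hcube : g ^ 3 ∈ MulAction.stabilizer G (x : G ⧸ H) := by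
    rw [MulAction.mem_stabilizer_iff, pow_succ g 2, pow_two g, mul_smul, mul_smul, hx, hy, hz]
  have hcop : (Nat.card G).Coprime 3 := (Nat.Coprime.symm ((Nat.prime_three.coprime_iff_not_dvd).2 h3))
  have hmem : g ∈ MulAction.stabilizer G (x : G ⧸ H) := by
    obtain ⟨j, hj⟩ := exists_pow_eq_self_of_coprime (G := G) (n := 3) (x := g)
      (Nat.Coprime.coprime_dvd_left (dvd_refl _) (hcop.symm.coprime_dvd_right (orderOf_dvd_natCard g)))
    rw [← hj]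
    exact pow_mem hcube j
  rw [MulAction.mem_stabilizer_iff] at hmem
  exact hmem.symm.trans hx

end CfsgLib.Recognition.SzBinary
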