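/-
Two non-commuting conjugates of an odd element with quotient conjugate to its inverse.
-/
import Mathlib
import Cfsg.Agent.Lib.Recognition.Suzuki.SubCount
import Cfsg.Agent.Lib.Recognition.Suzuki.BinaryAction

set_option autoImplicit false

namespace CfsgLib.Recognition.SzBinary

open Matrix Cfsg.Lie CfsgLib.Spectrum CfsgLib.SuzukiLaws CfsgLib.Suzuki CfsgLib.Recognition.SzBorel
  CfsgLib.Recognition.SzNorm CfsgLib.Recognition.SzSolvable CfsgLib.Recognition.SzSol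

variable {F : Type*} [Field F] [Fintype F] [CharP F 2] {m : ℕ}
  (hF : Fintype.card F = 2 ^ (2 * m + 1))

include hF in
theorem exists_inverting (hm : 1 ≤ m) {x : Sz F (2 ^ (m + 1))} (hx : x ≠ 1) (hodd : Odd (orderOf x)) :
    ∃ z : Sz F (2 ^ (m + 1)), z * z = 1 ∧ z ≠ 1 ∧ z * x * z = x⁻¹ := by
  rcases fpf_or_torus hF hodd hx with hf | ⟨k, s, -, hk⟩
  · haveI : Fact (Nat.Prime 2) := ⟨Nat.prime_two⟩
    obtain ⟨⟨z, hzN⟩, hz⟩ := exists_prime_orderOf_dvd_card' (G := SzNorm.norm x) 2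
      (by rw [card_norm hF hm hf]; exact Dvd.dvd.mul_right (by norm_num) _)
    rw [Subgroup.orderOf_mk] at hz
    have h2 : z * z = 1 := (pow_two z).symm.trans (orderOf_dvd_iff_pow_eq_one.1 (dvd_of_eq hz))
    have h1 : z ≠ 1 := fun e => by rw [e, orderOf_one] at hz; omega
    have h := (inverts hF hm hf hzN (not_mem_tor_of_sq hF hm hf h2 h1) (h2 ▸ one_mem _)).2 x (self_mem_tor x)
    rw [inv_eq_of_mul_eq_one_right h2] at h
    exact ⟨z, h2, h1, h⟩
  · refine ⟨k * W hF * k⁻¹, ?_, fun e => ?_, ?_⟩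
    · rw [show k * W hF * k⁻¹ * (k * W hF * k⁻¹) = k * (W hF * W hF) * k⁻¹ by group, W_mul_W]
      group
    · rw [conj_eq_one_iff] at e
      have h := congrArg (fun g => toSL hF g • (inf : Cfsg.suzukiOvoid F m)) e
      simp only [W_smul_inf, map_one, one_smul] at h
      exact inf_ne_zero h.symm
    · have hTi : (T hF s)⁻¹ = T hF s⁻¹ :=
        inv_eq_of_mul_eq_one_right (by rw [T_mul, mul_inv_cancel, T_one])
      calc k * W hF * k⁻¹ * x * (k * W hF * k⁻¹) = k * (W hF * (k⁻¹ * x * k) * W hF) * k⁻¹ := by group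
        _ = k * (T hF s)⁻¹ * k⁻¹ := by rw [hk, W_mul_T, hTi]
        _ = x⁻¹ := by rw [← hk]; group

/-- The involution at the point zero with parameter `e`. -/
noncomputable def opp (e : F) : Sz F (2 ^ (m + 1)) := W hF * U hF 0 e * W hF

include hF in
theorem exists_lam {b : F} (hb : b ≠ 0) : ∃ s : Fˣ, (s : F) ^ (2 ^ (m + 1) + 2) * b = 1 := by
  obtain ⟨s, hs⟩ := Finite.injective_iff_surjective.1
    (fun u v (e : u ^ (2 ^ (m + 1) + 2) = v ^ (2 ^ (m + 1) + 2)) => Units.ext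
      ((div_eq_one_iff_eq v.ne_zero).1 (eq_one_of_sigma_two hF (by
        rw [div_pow, div_eq_one_iff_eq (pow_ne_zero _ v.ne_zero), ← Units.val_pow_eq_pow_val,
          ← Units.val_pow_eq_pow_val, e])))) (Units.mk0 b hb)⁻¹
  refine ⟨s, ?_⟩
  rw [← Units.val_pow_eq_pow_val, show s ^ (2 ^ (m + 1) + 2) = (Units.mk0 b hb)⁻¹ from hs]
  simp [hb]

include hF in
theorem opp_conj (s : Fˣ) (c : F) : T hF s * opp hF c * (T hF s)⁻¹ =
    opp hF (((s⁻¹ : Fˣ) : F) ^ (2 ^ (m + 1) + 2) * c) := by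
  have hTi : (T hF s)⁻¹ = T hF s⁻¹ := inv_eq_of_mul_eq_one_right (by rw [T_mul, mul_inv_cancel, T_one])
  have hTi' : (T hF s⁻¹)⁻¹ = T hF s := by rw [← hTi, inv_inv]
  have h1 : T hF s * W hF = W hF * T hF s⁻¹ := by
    rw [← W_mul_T, ← mul_assoc, ← mul_assoc, W_mul_W, one_mul]
  calc T hF s * opp hF c * (T hF s)⁻¹ = (T hF s * W hF) * U hF 0 c * (W hF * (T hF s)⁻¹) := by
        rw [opp]; group
    _ = (W hF * T hF s⁻¹) * U hF 0 c * ((T hF s⁻¹)⁻¹ * W hF) := by rw [hTi, hTi', h1]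
    _ = W hF * (T hF s⁻¹ * U hF 0 c * (T hF s⁻¹)⁻¹) * W hF := by group
    _ = _ := by rw [T_conj_U, mul_zero, opp]

include hF in
theorem exists_frame_prod (hm : 1 ≤ m) {x : Sz F (2 ^ (m + 1))} (hx : x ≠ 1) (hodd : Odd (orderOf x)) :
    ∃ (k : Sz F (2 ^ (m + 1))) (e : F), e ≠ 0 ∧ k⁻¹ * x * k = U hF 0 1 * opp hF e := by
  obtain ⟨z, hz2, hz1, hzx⟩ := exists_inverting hF hm hx hodd
  obtain ⟨p, hp⟩ := SzSub.inv1_of_sq hF hm hz2 hz1
  have hw2 : z * x * (z * x) = 1 := by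
    rw [← mul_assoc, hzx, inv_mul_cancel]
  have hx2 : x * x ≠ 1 := fun e => by
    have h1 : orderOf x ∣ 2 := orderOf_dvd_of_pow_eq_one (by rw [pow_two, e])
    rcases (Nat.dvd_prime Nat.prime_two).1 h1 with h | h
    · exact hx (orderOf_eq_one_iff.1 h)
    · rw [h] at hodd; exact absurd hodd (by decide)
  have hw1 : z * x ≠ 1 := fun e => hx2 (by
    rw [show x = z from ((inv_eq_of_mul_eq_one_right e).symm.trans (inv_eq_of_mul_eq_one_right hz2)), hz2])
  obtain ⟨r, hr⟩ := SzSub.inv1_of_sq hF hm hw2 hw1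
  have hne : p ≠ r := by
    rintro rfl
    have hc : Commute z (z * x) := by
      obtain ⟨k, hk⟩ := exists_smul_inf hF p
      obtain ⟨b, -, hb⟩ := eq_center_of_fix hF hm (w := k⁻¹ * z * k)
        (by rw [show k⁻¹ * z * k * (k⁻¹ * z * k) = k⁻¹ * (z * z) * k by group, hz2]; group)
        (fun e => hz1 (by rw [show z = k * (k⁻¹ * z * k) * k⁻¹ by group, e]; group))
        ((conj_fix hF _).2 (by rw [hk]; exact fix_p hF hp))
      obtain ⟨c, -, hc⟩ := eq_center_of_fix hF hm (w := k⁻¹ * (z * x) * k)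
        (by rw [show k⁻¹ * (z * x) * k * (k⁻¹ * (z * x) * k) = k⁻¹ * (z * x * (z * x)) * k by group, hw2]; group)
        (fun e => hw1 (by rw [show z * x = k * (k⁻¹ * (z * x) * k) * k⁻¹ by group, e]; group))
        ((conj_fix hF _).2 (by rw [hk]; exact fix_p hF hr))
      calc z * (z * x) = k * ((k⁻¹ * z * k) * (k⁻¹ * (z * x) * k)) * k⁻¹ := by group
        _ = k * ((k⁻¹ * (z * x) * k) * (k⁻¹ * z * k)) * k⁻¹ := by
            rw [hb, hc, U_mul, U_mul, zero_pow (by positivity), mul_zero, add_comm b c]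
        _ = z * x * z := by group
    apply hx2
    have h1 : x = x⁻¹ := by
      rw [← hzx]
      calc x = z * (z * x) := by rw [← mul_assoc, hz2, one_mul]
        _ = z * x * z := hc.eq
    nth_rw 2 [h1]
    exact mul_inv_cancel x
  obtain ⟨k, k1, k2⟩ := exists_smul_pair hF hne
  obtain ⟨b, hb, e1⟩ := eq_center_of_fix hF hm (w := k⁻¹ * z * k)
    (by rw [show k⁻¹ * z * k * (k⁻¹ * z * k) = k⁻¹ * (z * z) * k by group, hz2]; group)
    (fun e => hz1 (by rw [show z = k * (k⁻¹ * z * k) * k⁻¹ by group, e]; group))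
    ((conj_fix hF _).2 (by rw [k1]; exact fix_p hF hp))
  obtain ⟨c, hc, e2⟩ := eq_center_of_fix hF hm (w := (k * W hF)⁻¹ * (z * x) * (k * W hF))
    (by rw [show (k * W hF)⁻¹ * (z * x) * (k * W hF) * ((k * W hF)⁻¹ * (z * x) * (k * W hF)) =
      (k * W hF)⁻¹ * (z * x * (z * x)) * (k * W hF) by group, hw2]; group)
    (fun e => hw1 (by
      rw [show z * x = (k * W hF) * ((k * W hF)⁻¹ * (z * x) * (k * W hF)) * (k * W hF)⁻¹ by group, e]; group))
    ((conj_fix hF _).2 (by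
      rw [show toSL hF (k * W hF) • (inf : Cfsg.suzukiOvoid F m) = r by rw [map_mul, mul_smul, W_smul_inf, k2]]
      exact fix_p hF hr))
  have hWi : (W hF)⁻¹ = W hF := inv_eq_of_mul_eq_one_right (W_mul_W hF)
  have hprod : k⁻¹ * x * k = U hF 0 b * opp hF c := by
    rw [← e1, opp, ← e2, _root_.mul_inv_rev, hWi]
    calc k⁻¹ * x * k = k⁻¹ * (z * z) * x * k := by rw [hz2, mul_one]
      _ = k⁻¹ * z * k * (k⁻¹ * (z * x) * k) := by group
      _ = k⁻¹ * z * k * ((W hF * W hF) * (k⁻¹ * (z * x) * k) * (W hF * W hF)) := by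
          rw [W_mul_W, one_mul, mul_one]
      _ = _ := by simp only [mul_assoc]
  obtain ⟨s, hs⟩ := exists_lam hF hb
  have hTi : (T hF s)⁻¹ = T hF s⁻¹ := inv_eq_of_mul_eq_one_right (by rw [T_mul, mul_inv_cancel, T_one])
  refine ⟨k * (T hF s)⁻¹, ((s⁻¹ : Fˣ) : F) ^ (2 ^ (m + 1) + 2) * c,
    mul_ne_zero (pow_ne_zero _ (Units.ne_zero _)) hc, ?_⟩
  calc (k * (T hF s)⁻¹)⁻¹ * x * (k * (T hF s)⁻¹) = T hF s * (k⁻¹ * x * k) * (T hF s)⁻¹ := by group
    _ = (T hF s * U hF 0 b * (T hF s)⁻¹) * (T hF s * opp hF c * (T hF s)⁻¹) := by rw [hprod]; group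
    _ = _ := by rw [T_conj_U, mul_zero, hs, opp_conj hF s c]

/-- The corner entry. -/
def corner (u : F × F) : F := u.1 * u.2 + u.1 * u.1 * u.1 ^ 2 ^ (m + 1) + u.2 ^ 2 ^ (m + 1)

include hF in
theorem corner_scale (s : Fˣ) (a c : F) :
    corner (m := m) ((s : F) ^ 2 ^ (m + 1) * a, (s : F) ^ (2 ^ (m + 1) + 2) * c) =
      ((s : F) ^ (2 ^ (m + 1) + 1)) ^ 2 * corner (m := m) (a, c) := by
  have e1 : ((s : F) ^ 2 ^ (m + 1) * a) ^ 2 ^ (m + 1) = (s : F) ^ 2 * a ^ 2 ^ (m + 1) := by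
    rw [mul_pow, sigma_sq hF]
  have e2 : ((s : F) ^ 2) ^ 2 ^ (m + 1) = ((s : F) ^ 2 ^ (m + 1)) ^ 2 := by
    rw [← pow_mul, mul_comm, pow_mul]
  have e3 : ((s : F) ^ (2 ^ (m + 1) + 2) * c) ^ 2 ^ (m + 1) =
      (s : F) ^ 2 * ((s : F) ^ 2 ^ (m + 1)) ^ 2 * c ^ 2 ^ (m + 1) := by
    rw [mul_pow, pow_add (s : F), mul_pow, sigma_sq hF, e2]
  simp only [corner]
  rw [e1, e3, pow_add (s : F), pow_add (s : F), pow_one]
  ring

include hF in
theorem entry_eq_corner (a c : F) :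
    (W hF * U hF a c * W hF : Sz F (2 ^ (m + 1))).1.1 3 0 = corner (m := m) (a, c) := by
  simp [W, U, antiJUnit, antiJ, uUnit_val, uMat, Matrix.mul_apply, Fin.sum_univ_four, corner]

include hF in
theorem corner_ne_zero {a c : F} (h : (a, c) ≠ 0) : corner (m := m) (a, c) ≠ 0 := by
  intro h0
  set g := W hF * U hF a c * W hF with hg
  have h30 : g.1.1 3 0 = 0 := by rw [hg, entry_eq_corner hF, h0]
  obtain ⟨h20, h10⟩ := (col_zero hF g.2).1 h30
  have hfix : toSL hF g • inf = (inf : Cfsg.suzukiOvoid F m) := by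
    refine Subtype.ext ((toSL_smul_inf hF g).trans ?_)
    show _ = Projectivization.mk F _ _
    rw [Projectivization.mk_eq_mk_iff']
    refine ⟨g.1.1 0 0, funext fun i => ?_⟩
    fin_cases i <;> simp [h30, h20, h10]
  rw [hg, map_mul, map_mul, mul_smul, mul_smul, W_smul_inf] at hfix
  have h1 : toSL hF (U hF a c) • (Suzuki.zero : Cfsg.suzukiOvoid F m) = Suzuki.zero := by
    rw [← smul_W_W hF (toSL hF (U hF a c) • (Suzuki.zero : Cfsg.suzukiOvoid F m)), hfix, W_smul_inf]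
  obtain ⟨ab, -, hu⟩ := existsUnique_U hF (Ne.symm inf_ne_zero)
  exact h ((hu (a, c) h1).trans (hu (0, 0) (show toSL hF (U hF 0 0) • _ = _ by rw [U_zero, map_one, one_smul])).symm)

include hF in
theorem ncard_corner {b : F} (hb : b ≠ 0) :
    {u : F × F | u ≠ 0 ∧ corner (m := m) u = b}.ncard = Fintype.card F + 1 := by
  have hle : ∀ b c : F, b ≠ 0 → c ≠ 0 → {u : F × F | u ≠ 0 ∧ corner (m := m) u = b}.ncard ≤
      {u : F × F | u ≠ 0 ∧ corner (m := m) u = c}.ncard := by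
    intro b c hb hc
    obtain ⟨s, hs⟩ : ∃ s : Fˣ, ((s : F) ^ (2 ^ (m + 1) + 1)) ^ 2 * b = c := by
      have hinj : Function.Injective fun s : Fˣ => (s ^ (2 ^ (m + 1) + 1)) ^ 2 := fun u v e => by
        have e' := congrArg Units.val e
        simp only [Units.val_pow_eq_pow_val] at e'
        refine Units.ext ((div_eq_one_iff_eq v.ne_zero).1 (eq_one_of_sigma hF ?_))
        rw [div_pow, div_eq_one_iff_eq (pow_ne_zero _ v.ne_zero)]
        exact frobenius_inj F 2 e'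
      obtain ⟨s, hs⟩ := Finite.injective_iff_surjective.1 hinj (Units.mk0 c hc / Units.mk0 b hb)
      refine ⟨s, ?_⟩
      have e' := congrArg Units.val hs
      simp only [Units.val_pow_eq_pow_val, Units.val_div_eq_div_val, Units.val_mk0] at e'
      rw [e', div_mul_cancel₀ _ hb]
    refine Set.ncard_le_ncard_of_injOn
      (fun u => ((s : F) ^ 2 ^ (m + 1) * u.1, (s : F) ^ (2 ^ (m + 1) + 2) * u.2))
      (fun u hu => ⟨fun e => hu.1 ?_, ?_⟩) (fun u _ v _ e => ?_)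
    · simp only [Prod.mk_eq_zero, mul_eq_zero, pow_ne_zero _ s.ne_zero, false_or] at e
      exact Prod.ext e.1 e.2
    · rw [corner_scale hF, hu.2, hs]
    · simp only [Prod.mk.injEq] at e
      exact Prod.ext (mul_left_cancel₀ (pow_ne_zero _ s.ne_zero) e.1)
        (mul_left_cancel₀ (pow_ne_zero _ s.ne_zero) e.2)
  have h := ncard_mul ({(0 : F × F)}ᶜ) ({(0 : F)}ᶜ) (fun u c => corner (m := m) u = c) (k := 1)
    (n := {u : F × F | u ≠ 0 ∧ corner (m := m) u = b}.ncard) (fun u hu => ?_)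
    (fun c hc => le_antisymm (hle c b hc hb) (hle b c hb hc))
  · rw [Set.ncard_compl, Set.ncard_singleton, Set.ncard_compl, Set.ncard_singleton, Nat.card_prod,
      Nat.card_eq_fintype_card, mul_one] at h
    obtain ⟨q, hq⟩ : ∃ q, Fintype.card F = q + 2 :=
      ⟨Fintype.card F - 2, by have := Fintype.one_lt_card (α := F); omega⟩
    rw [hq, show q + 2 - 1 = q + 1 by omega, show (q + 2) * (q + 2) = (q + 1) * (q + 3) + 1 by ring,
      Nat.add_sub_cancel] at h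
    rw [hq]
    exact (Nat.eq_of_mul_eq_mul_left (by omega) h).symm
  · rw [Set.ncard_eq_one]
    refine ⟨corner (m := m) u, Set.ext fun c => ⟨fun h => h.2.symm, fun h => ?_⟩⟩
    subst h
    exact ⟨corner_ne_zero hF hu, rfl⟩

include hF in
theorem opp_conj_opp {a c : F} {t : Fˣ} {e : F} (hu : (a, c) ≠ 0)
    (ht : corner (m := m) (a, c) = (t : F) ^ (2 ^ (m + 1) + 1))
    (he : (t : F) ^ (2 ^ (m + 1) + 2) * e = 1) :
    ∃ k, k⁻¹ * (opp hF e * (U hF a c * opp hF e * (U hF a c)⁻¹)) * k = U hF 0 1 * opp hF e := by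
  set g := W hF * U hF a c * W hF with hg
  have hgi : toSL hF g • (inf : Cfsg.suzukiOvoid F m) ≠ inf := fun h => by
    refine corner_ne_zero hF hu ?_
    rw [← entry_eq_corner hF]
    obtain ⟨d, hd⟩ := (Projectivization.mk_eq_mk_iff' F _ _ _ _).1
      ((toSL_smul_inf hF g).symm.trans (congrArg Subtype.val h))
    simpa [hg] using (congrFun hd 3).symm
  obtain ⟨x, y, hxy⟩ := SzSub.exists_U_frame hF hgi
  obtain ⟨t', a', c', hb⟩ := (stab_inf hF (W hF * ((U hF x y)⁻¹ * g))).1 (by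
    rw [map_mul, map_mul, map_inv, mul_smul, mul_smul, ← hxy, inv_smul_smul, W_smul_zero])
  have hgd : g = U hF x y * (W hF * (T hF t' * U hF a' c')) := by
    rw [← hb, ← mul_assoc (W hF), W_mul_W, one_mul, mul_inv_cancel_left]
  have htt : t' = t := by
    have h30 : g.1.1 3 0 = (t' : F) ^ (2 ^ (m + 1) + 1) := by
      rw [hgd]
      simp [W, T, U, torus, antiJUnit, antiJ, uUnit_val, uMat, Matrix.mul_apply, Matrix.vecMul, dotProduct, Matrix.diagonal_apply, Fin.sum_univ_four]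
    rw [hg, entry_eq_corner hF, ht] at h30
    refine Units.ext ((div_eq_one_iff_eq t.ne_zero).1 (eq_one_of_sigma hF ?_))
    rw [div_pow, div_eq_one_iff_eq (pow_ne_zero _ t.ne_zero), h30]
  rw [htt] at hgd
  have hWi : (W hF)⁻¹ = W hF := inv_eq_of_mul_eq_one_right (W_mul_W hF)
  have hc1 : ∀ d : F, U hF a' c' * U hF 0 d * (U hF a' c')⁻¹ = U hF 0 d := fun d => by
    rw [mul_inv_eq_iff_eq_mul, U_mul, U_mul, zero_pow (by positivity), mul_zero, zero_mul, add_comm 0 a',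
      add_comm d c']
  have hc2 : U hF x y * U hF 0 e * (U hF x y)⁻¹ = U hF 0 e := by
    rw [mul_inv_eq_iff_eq_mul, U_mul, U_mul, zero_pow (by positivity), mul_zero, zero_mul, add_comm 0 x,
      add_comm e y]
  have h1 : g * U hF 0 e * g⁻¹ = U hF x y * opp hF 1 * (U hF x y)⁻¹ := by
    calc g * U hF 0 e * g⁻¹
        = U hF x y * (W hF * (T hF t * (U hF a' c' * U hF 0 e * (U hF a' c')⁻¹) * (T hF t)⁻¹) * W hF) *
            (U hF x y)⁻¹ := by
          rw [hgd]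
          simp only [_root_.mul_inv_rev, hWi, mul_assoc]
      _ = _ := by rw [hc1, T_conj_U, mul_zero, he, opp]
  have h2 : W hF * (opp hF e * (U hF a c * opp hF e * (U hF a c)⁻¹)) * W hF =
      U hF x y * (U hF 0 e * opp hF 1) * (U hF x y)⁻¹ := by
    have e1 : W hF * (opp hF e * (U hF a c * opp hF e * (U hF a c)⁻¹)) * W hF =
        U hF 0 e * (g * U hF 0 e * g⁻¹) := by
      rw [hg]
      simp only [opp, _root_.mul_inv_rev, hWi, mul_assoc]
      rw [← mul_assoc (W hF) (W hF), W_mul_W, one_mul]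
    rw [e1, h1]
    calc U hF 0 e * (U hF x y * opp hF 1 * (U hF x y)⁻¹)
        = (U hF x y * U hF 0 e * (U hF x y)⁻¹) * (U hF x y * opp hF 1 * (U hF x y)⁻¹) := by rw [hc2]
      _ = _ := by group
  obtain ⟨s, hs⟩ := exists_lam hF (left_ne_zero_of_mul_eq_one (b := (t : F) ^ (2 ^ (m + 1) + 2))
    (a := e) (by rw [mul_comm, he]))
  refine ⟨W hF * (U hF x y * (T hF s)⁻¹), ?_⟩
  have hsinv : ((s⁻¹ : Fˣ) : F) ^ (2 ^ (m + 1) + 2) = e := by
    rw [Units.val_inv_eq_inv_val, inv_pow]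
    exact inv_eq_of_mul_eq_one_right hs
  calc _ = T hF s * ((U hF x y)⁻¹ * (W hF * (opp hF e * (U hF a c * opp hF e * (U hF a c)⁻¹)) * W hF) *
        U hF x y) * (T hF s)⁻¹ := by
        rw [_root_.mul_inv_rev, _root_.mul_inv_rev, inv_inv, hWi]; simp only [mul_assoc]
    _ = (T hF s * U hF 0 e * (T hF s)⁻¹) * (T hF s * opp hF 1 * (T hF s)⁻¹) := by rw [h2]; group
    _ = _ := by rw [T_conj_U, mul_zero, hs, opp_conj hF, mul_one, hsinv]

include hF in
/-- The centraliser of an element of odd order is abelian. -/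
theorem odd_centralizer_comm (hm : 1 ≤ m) {y : Sz F (2 ^ (m + 1))} (hy : y ≠ 1) (hodd : Odd (orderOf y))
    {a b : Sz F (2 ^ (m + 1))} (ha : Commute a y) (hb : Commute b y) : Commute a b := by
  rcases fpf_or_torus hF hodd hy with hf | ⟨k, s, hs, hk⟩
  · exact commute_tor hF hm hf (Subgroup.mem_centralizer_singleton_iff.2 ha.eq)
      (Subgroup.mem_centralizer_singleton_iff.2 hb.eq)
  · have hconj : ∀ c, Commute c y → ∃ t, k⁻¹ * c * k = T hF t := fun c hc => commute_T hF hs (by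
      rw [← hk]
      show k⁻¹ * c * k * (k⁻¹ * y * k) = k⁻¹ * y * k * (k⁻¹ * c * k)
      calc k⁻¹ * c * k * (k⁻¹ * y * k) = k⁻¹ * (c * y) * k := by group
        _ = k⁻¹ * (y * c) * k := by rw [hc.eq]
        _ = _ := by group)
    obtain ⟨t, ht⟩ := hconj a ha
    obtain ⟨u, hu⟩ := hconj b hb
    show a * b = b * a
    calc a * b = k * ((k⁻¹ * a * k) * (k⁻¹ * b * k)) * k⁻¹ := by group
      _ = k * ((k⁻¹ * b * k) * (k⁻¹ * a * k)) * k⁻¹ := by rw [ht, hu, T_mul, T_mul, mul_comm t]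
      _ = b * a := by group

include hF in
theorem ncard_commute_le (hm : 1 ≤ m) {e : F} (he : e ≠ 0) (hodd : Odd (orderOf (U hF 0 1 * opp hF e)))
    (hne : U hF 0 1 * opp hF e ≠ 1) :
    {u : F × F | Commute (U hF u.1 u.2 * (U hF 0 1 * opp hF e) * (U hF u.1 u.2)⁻¹)
      (U hF 0 1 * opp hF e)}.ncard ≤ 4 := by
  set c₀ := U hF 0 1 * opp hF e with hc₀
  have hU : Function.Injective fun u : F × F => U hF u.1 u.2 := fun u v h =>
    Prod.ext (U_injective hF h).1 (U_injective hF h).2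
  by_cases hf : Fpf hF c₀
  · haveI : Fact (Nat.Prime 2) := ⟨Nat.prime_two⟩
    set K := unip hF ⊓ SzNorm.norm c₀ with hK
    have hle : Nat.card K ≤ 4 := by
      have h1 : Nat.card K ∣ Fintype.card F ^ 2 := by
        rw [← card_unip hF]
        exact Subgroup.card_dvd_of_le inf_le_left
      have h2 : Nat.card K ∣ 4 * Nat.card (tor c₀) := by
        rw [← card_norm hF hm hf]
        exact Subgroup.card_dvd_of_le inf_le_right
      rw [hF, ← pow_mul] at h1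
      obtain ⟨j, -, hj⟩ := (Nat.dvd_prime_pow Nat.prime_two).1 h1
      rw [hj] at h2 ⊢
      exact Nat.le_of_dvd (by norm_num) (((odd_card_tor hF hm hf).coprime_two_left.pow_left j).dvd_of_dvd_mul_right h2)
    refine le_trans ?_ hle
    rw [← Set.ncard_image_of_injective _ hU, ← SetLike.coe_sort_coe K, Nat.card_coe_set_eq]
    refine Set.ncard_le_ncard ?_
    rintro _ ⟨u, hu, rfl⟩
    exact ⟨⟨_, _, rfl⟩, (SzSol.mem_norm_iff hF hm hf).2 hu⟩
  · obtain ⟨P, R, hPR, hP, hR⟩ := two_fix_of_odd hF hodd hne hf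
    have hPi : P ≠ inf := by
      rintro rfl
      rw [hc₀, map_mul, mul_smul] at hP
      have h1 : toSL hF (opp hF e) • (inf : Cfsg.suzukiOvoid F m) = inf :=
        MulAction.injective (toSL hF (U hF 0 1)) (hP.trans (U_smul_inf hF 0 1).symm)
      rw [opp, map_mul, map_mul, mul_smul, mul_smul, W_smul_inf] at h1
      have h2 : toSL hF (U hF 0 e) • (Suzuki.zero : Cfsg.suzukiOvoid F m) = Suzuki.zero := by
        rw [← smul_W_W hF (toSL hF (U hF 0 e) • (Suzuki.zero : Cfsg.suzukiOvoid F m)), h1, W_smul_inf]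
      exact inf_ne_zero (center_fix hF he h2).symm
    obtain ⟨a₀, b₀, hab⟩ := SzSub.exists_U_frame hF hPi
    have hinj : ∀ u v : F × F, toSL hF (U hF u.1 u.2) • P = toSL hF (U hF v.1 v.2) • P → u = v := by
      intro u v h
      rw [← hab, smul_smul, smul_smul, ← map_mul, ← map_mul, U_mul, U_mul] at h
      have hne' : toSL hF (U hF (v.1 + a₀) (v.2 + b₀ + v.1 * a₀ ^ 2 ^ (m + 1))) •
          (Suzuki.zero : Cfsg.suzukiOvoid F m) ≠ inf := fun e => inf_ne_zero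
        (MulAction.injective _ ((U_smul_inf hF _ _).trans e.symm))
      obtain ⟨ab, -, hun⟩ := existsUnique_U hF hne'
      have h' := (hun (_, _) h).trans (hun (_, _) rfl).symm
      simp only [Prod.mk.injEq, add_left_inj] at h'
      obtain ⟨h1, h2⟩ := h'
      rw [h1, add_left_inj, add_left_inj] at h2
      exact Prod.ext h1 h2
    refine le_trans (Set.ncard_le_ncard_of_injOn (t := ({P, R} : Set (Cfsg.suzukiOvoid F m)))
      (fun u => toSL hF (U hF u.1 u.2) • P) (fun u hu => ?_) (fun u _ v _ h => hinj u v h)) ?_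
    · have h1 : toSL hF (U hF u.1 u.2 * c₀ * (U hF u.1 u.2)⁻¹) • toSL hF (U hF u.1 u.2) • P =
          toSL hF (U hF u.1 u.2) • P := (conj_fix hF P).1 (by
        rw [show (U hF u.1 u.2)⁻¹ * (U hF u.1 u.2 * c₀ * (U hF u.1 u.2)⁻¹) * U hF u.1 u.2 = c₀ by group]
        exact hP)
      have h2 := fix_of_commute hF (w := U hF u.1 u.2 * c₀ * (U hF u.1 u.2)⁻¹)
        (fun h => hne (conj_eq_one_iff.1 h)) (show Commute c₀ _ from hu.symm) h1
      exact ne_zero_fix hF hne hP hR h2 hPR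
    · rw [Set.ncard_pair hPR]
      omega

include hF in
/-- An element of odd order, a conjugate not commuting with it, and a quotient conjugate to the inverse. -/
theorem exists_triangle (hm : 1 ≤ m) {x : Sz F (2 ^ (m + 1))} (hx : x ≠ 1) (hodd : Odd (orderOf x)) :
    ∃ g k : Sz F (2 ^ (m + 1)), ¬ Commute x (g * x * g⁻¹) ∧ (g * x * g⁻¹)⁻¹ * x = k * x⁻¹ * k⁻¹ := by
  obtain ⟨k₀, e, he, hk₀⟩ := exists_frame_prod hF hm hx hodd
  obtain ⟨t, ht⟩ := exists_lam hF he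
  set c₀ := U hF 0 1 * opp hF e with hc₀
  have hodd' : Odd (orderOf c₀) := by
    have h : MulAut.conj k₀⁻¹ x = c₀ := by rw [← hk₀, MulAut.conj_apply, inv_inv]
    rw [← h]
    exact (MulEquiv.orderOf_eq (MulAut.conj k₀⁻¹) x).symm ▸ hodd
  have hne : c₀ ≠ 1 := fun h => hx (by
    rw [show x = k₀ * (k₀⁻¹ * x * k₀) * k₀⁻¹ by group, hk₀, h]; group)
  obtain ⟨⟨a, c⟩, ⟨hu0, hu⟩, hnc⟩ : ∃ u ∈ {u : F × F | u ≠ 0 ∧ corner (m := m) u = (t : F) ^ (2 ^ (m + 1) + 1)},
      u ∉ {u : F × F | Commute (U hF u.1 u.2 * c₀ * (U hF u.1 u.2)⁻¹) c₀} := by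
    refine Set.exists_mem_notMem_of_ncard_lt_ncard ((ncard_commute_le hF hm he hodd' hne).trans_lt ?_)
    rw [ncard_corner hF (pow_ne_zero _ t.ne_zero), hF]
    have : 2 ^ 3 ≤ 2 ^ (2 * m + 1) := Nat.pow_le_pow_right two_pos (by omega)
    omega
  obtain ⟨k₁, hk₁⟩ := opp_conj_opp hF hu0 hu ht
  set u := U hF a c with hudef
  have hxc : x = k₀ * c₀ * k₀⁻¹ := by rw [← hk₀]; group
  have h01 : u * U hF 0 1 * u⁻¹ = U hF 0 1 := by
    rw [hudef, mul_inv_eq_iff_eq_mul, U_mul, U_mul, zero_pow (by positivity), mul_zero, zero_mul,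
      add_comm 0 a, add_comm 1 c]
  have ho : ∀ d, (opp hF d)⁻¹ = opp hF d := fun d => inv_eq_of_mul_eq_one_right (by
    have h2 : W hF * U hF 0 d * (W hF * W hF) * U hF 0 d * W hF = 1 := by
      rw [W_mul_W, mul_one, mul_assoc _ (U hF 0 d) (U hF 0 d), center_sq, mul_one, W_mul_W]
    rw [opp]
    simpa only [mul_assoc] using h2)
  set z₃ := u * opp hF e * u⁻¹ with hz₃
  have hb : u * c₀ * u⁻¹ = U hF 0 1 * z₃ := by
    calc u * c₀ * u⁻¹ = (u * U hF 0 1 * u⁻¹) * (u * opp hF e * u⁻¹) := by rw [hc₀]; group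
      _ = _ := by rw [h01]
  refine ⟨k₀ * u * k₀⁻¹, k₀ * k₁ * k₀⁻¹, fun h => hnc ?_, ?_⟩
  · have h' := (h.map (MulAut.conj k₀⁻¹).toMonoidHom).symm
    simp only [MulEquiv.coe_toMonoidHom, MulAut.conj_apply, inv_inv] at h'
    rwa [show k₀⁻¹ * x * k₀ = c₀ from hk₀,
      show k₀⁻¹ * (k₀ * u * k₀⁻¹ * x * (k₀ * u * k₀⁻¹)⁻¹) * k₀ = u * c₀ * u⁻¹ by rw [← hk₀]; group] at h'
  · have hquot : (u * c₀ * u⁻¹)⁻¹ * c₀ = k₁ * c₀⁻¹ * k₁⁻¹ := by
      have h3 : z₃⁻¹ = z₃ := by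
        rw [hz₃, _root_.mul_inv_rev, _root_.mul_inv_rev, inv_inv, ho, mul_assoc]
      have h4 : k₁ * c₀⁻¹ * k₁⁻¹ = (opp hF e * z₃)⁻¹ := by
        rw [hc₀, ← hk₁, hz₃]; group
      rw [hb, _root_.mul_inv_rev, h3, h4, _root_.mul_inv_rev, h3, ho, hc₀]
      calc z₃ * (U hF 0 1)⁻¹ * (U hF 0 1 * opp hF e) = z₃ * opp hF e := by group
        _ = _ := rfl
    calc (k₀ * u * k₀⁻¹ * x * (k₀ * u * k₀⁻¹)⁻¹)⁻¹ * x = k₀ * ((u * c₀ * u⁻¹)⁻¹ * c₀) * k₀⁻¹ := by
          rw [hxc]; group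
      _ = _ := by rw [hquot, hxc]; group

include hF in
theorem comm_of_odd (hm : 1 ≤ m) {M : Subgroup (Sz F (2 ^ (m + 1)))} (hodd : Odd (Nat.card M)) :
    ∀ a ∈ M, ∀ b ∈ M, Commute a b := by
  intro a ha b hb
  by_cases ha1 : a = 1
  · exact ha1 ▸ Commute.one_left b
  have hoe : ∀ g ∈ M, Odd (orderOf g) := fun g hg => hodd.of_dvd_nat (Subgroup.orderOf_dvd_natCard M hg)
  haveI := SzSub.solvable_of_odd hF hm M hodd
  have hfix2 : ∀ {p r : Cfsg.suzukiOvoid F m}, p ≠ r → (∀ g ∈ M, toSL hF g • p = p ∧ toSL hF g • r = r) →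
      Commute a b := fun {p r} hpr h => by
    obtain ⟨k, k1, k2⟩ := exists_smul_pair hF hpr
    have hc : ∀ g ∈ M, ∃ s, k⁻¹ * g * k = T hF s := fun g hg => (stab_two hF _).1
      ⟨(conj_fix hF _).2 (by rw [k1]; exact (h g hg).1), (conj_fix hF _).2 (by rw [k2]; exact (h g hg).2)⟩
    obtain ⟨t, ht⟩ := hc a ha
    obtain ⟨u, hu⟩ := hc b hb
    show a * b = b * a
    calc a * b = k * ((k⁻¹ * a * k) * (k⁻¹ * b * k)) * k⁻¹ := by group
      _ = k * ((k⁻¹ * b * k) * (k⁻¹ * a * k)) * k⁻¹ := by rw [ht, hu, T_mul, T_mul, mul_comm t]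
      _ = b * a := by group
  rcases cases hF hm M (fun e => ha1 (Subgroup.mem_bot.1 (e ▸ ha))) with ⟨p, hp⟩ | ⟨p, r, hpr, hp⟩ | ⟨h, hh, hle⟩
  · obtain ⟨k, hk⟩ := exists_smul_inf hF p
    have hb' : ∀ g ∈ M, ∃ s c d, k⁻¹ * g * k = T hF s * U hF c d := fun g hg => (stab_inf hF _).1
      ((conj_fix hF inf).2 (by rw [hk]; exact hp g hg))
    obtain ⟨s, c, d, e1⟩ := hb' a ha
    obtain ⟨t, c', d', e2⟩ := hb' b hb
    set w := a * b * a⁻¹ * b⁻¹ with hw
    have hwM : w ∈ M := mul_mem (mul_mem (mul_mem ha hb) (inv_mem ha)) (inv_mem hb)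
    have hN : ∀ s : Fˣ, ∀ u ∈ unip hF, T hF s * u * (T hF s)⁻¹ ∈ unip hF := by
      rintro s _ ⟨c, d, rfl⟩
      rw [T_conj_U]; exact ⟨_, _, rfl⟩
    have hu : k⁻¹ * w * k ∈ unip hF := by
      have h1 : k⁻¹ * w * k = (T hF s * U hF c d) * (T hF t * U hF c' d') * (T hF s * U hF c d)⁻¹ *
          (T hF t * U hF c' d')⁻¹ := by rw [← e1, ← e2, hw]; group
      rw [h1]
      have h2 : (T hF s * U hF c d) * (T hF t * U hF c' d') * (T hF s * U hF c d)⁻¹ * (T hF t * U hF c' d')⁻¹ =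
          (T hF s * U hF c d * (T hF s)⁻¹) * (T hF (s * t) * (U hF c' d' * (U hF c d)⁻¹) * (T hF (s * t))⁻¹) *
            (T hF t * (U hF c' d')⁻¹ * (T hF t)⁻¹) := by
        have h3 : (T hF s)⁻¹ * (T hF t)⁻¹ = (T hF t)⁻¹ * (T hF s)⁻¹ := by
          rw [← _root_.mul_inv_rev, ← _root_.mul_inv_rev, T_mul, T_mul, mul_comm t]
        have h4 : T hF (s * t) = T hF s * T hF t := (T_mul hF s t).symm
        rw [h4]
        calc _ = T hF s * U hF c d * T hF t * U hF c' d' * (U hF c d)⁻¹ * ((T hF s)⁻¹ * (U hF c' d')⁻¹ * (T hF t)⁻¹) := by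
              group
          _ = _ := by
              have h5 : (T hF t)⁻¹ * (T hF s)⁻¹ * T hF t = (T hF s)⁻¹ := by
                rw [← h3]; group
              calc _ = T hF s * U hF c d * T hF t * U hF c' d' * (U hF c d)⁻¹ *
                    (((T hF t)⁻¹ * (T hF s)⁻¹ * T hF t) * (U hF c' d')⁻¹ * (T hF t)⁻¹) := by rw [h5]
                _ = _ := by group
      rw [h2]
      exact mul_mem (mul_mem (hN s _ ⟨c, d, rfl⟩) (hN _ _ (mul_mem ⟨c', d', rfl⟩ (inv_mem ⟨c, d, rfl⟩))))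
        (hN t _ (inv_mem ⟨c', d', rfl⟩))
    have h1 : orderOf (k⁻¹ * w * k) = orderOf w := by
      rw [show k⁻¹ * w * k = MulAut.conj k⁻¹ w by rw [MulAut.conj_apply, inv_inv]]
      exact MulEquiv.orderOf_eq _ w
    have h2 : orderOf w ∣ Fintype.card F ^ 2 := by
      rw [← card_unip hF, ← h1]
      exact Subgroup.orderOf_dvd_natCard _ hu
    rw [hF, ← pow_mul] at h2
    have h3 : w = 1 := orderOf_eq_one_iff.1 (Nat.eq_one_of_dvd_coprimes
      ((hoe w hwM).coprime_two_right.pow_right ((2 * m + 1) * 2)) dvd_rfl h2)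
    show a * b = b * a
    rw [show a * b = w * (b * a) by rw [hw]; group, h3, one_mul]
  · refine hfix2 hpr fun g hg => (hp g hg).resolve_right fun hs => ?_
    have h1 : orderOf g ∣ 2 := orderOf_dvd_of_pow_eq_one (by rw [pow_two, swap_sq hF hpr hs.1 hs.2])
    rcases (Nat.dvd_prime Nat.prime_two).1 h1 with h | h
    · rw [orderOf_eq_one_iff.1 h, map_one, one_smul] at hs
      exact hpr hs.1
    · have := hoe g hg; rw [h] at this; exact absurd this (by decide)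
  · exact commute_tor hF hm hh (mem_tor_of_odd hF hm hh (hle ha) (hoe a ha))
      (mem_tor_of_odd hF hm hh (hle hb) (hoe b hb))

include hF in
/-- A binary action has point stabilisers of even order. -/
theorem two_dvd_of_binary (hm : 1 ≤ m) {H : Subgroup (Sz F (2 ^ (m + 1)))} (hb : Binary H) (hH : H ≠ ⊥) :
    2 ∣ Nat.card H := by
  by_contra h2
  have hodd : Odd (Nat.card H) := Nat.odd_iff.2 (by omega)
  have hcomm := comm_of_odd hF hm hodd
  obtain ⟨x, hxH, hx⟩ := H.bot_or_exists_ne_one.resolve_left hH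
  have hxo : Odd (orderOf x) := hodd.of_dvd_nat (Subgroup.orderOf_dvd_natCard H hxH)
  obtain ⟨g, k, hnc, hk⟩ := exists_triangle hF hm hx hxo
  obtain ⟨y, hyA, hyB, hyC⟩ := binary_mul hb (SA := {1}) (SB := {g}) (SC := {k}) ⟨1, rfl⟩ ⟨g, rfl⟩
    (a := x) (b := g * x * g⁻¹)
    (mem_inter.2 fun g' hg' => by obtain rfl := hg'; rw [inv_one, one_mul, mul_one]; exact hxH)
    (mem_inter.2 fun g' hg' => by
      obtain rfl := hg'
      rw [show g'⁻¹ * (g' * x * g'⁻¹) * g' = x by group]; exact hxH)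
    (mem_inter.2 fun g' hg' => by
      obtain rfl := hg'
      rw [hk, show g'⁻¹ * (g' * x⁻¹ * g'⁻¹) * g' = x⁻¹ by group]; exact inv_mem hxH)
  have hyA' : y ∈ H := by simpa using mem_inter.1 hyA 1 rfl
  by_cases hy1 : y = 1
  · subst hy1
    have h1 := mem_inter.1 hyC k rfl
    rw [inv_one, one_mul] at h1
    have h3 : k⁻¹ * ((g * x * g⁻¹)⁻¹ * x) * k ∈ H := by
      rw [hk, show k⁻¹ * (k * x⁻¹ * k⁻¹) * k = x⁻¹ by group]; exact inv_mem hxH
    have h4 := (hcomm _ h1 _ h3).map (MulAut.conj k).toMonoidHom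
    simp only [MulEquiv.coe_toMonoidHom, MulAut.conj_apply] at h4
    rw [show k * (k⁻¹ * x * k) * k⁻¹ = x by group,
      show k * (k⁻¹ * ((g * x * g⁻¹)⁻¹ * x) * k) * k⁻¹ = (g * x * g⁻¹)⁻¹ * x by group] at h4
    apply hnc
    have h5 := (h4.mul_right (Commute.refl x).inv_right).inv_right
    rwa [mul_inv_cancel_right, inv_inv] at h5
  · refine hnc (odd_centralizer_comm hF hm hy1 (hodd.of_dvd_nat (Subgroup.orderOf_dvd_natCard H hyA'))
      (hcomm x hxH y hyA') ?_)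
    have h4 := (hcomm x hxH (g⁻¹ * y * g) (mem_inter.1 hyB g rfl)).map (MulAut.conj g).toMonoidHom
    simp only [MulEquiv.coe_toMonoidHom, MulAut.conj_apply] at h4
    rwa [show g * (g⁻¹ * y * g) * g⁻¹ = y by group] at h4

end CfsgLib.Recognition.SzBinary
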