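/-
Binary coset actions of a Suzuki group with point stabilisers of even order.
-/
import Mathlib
import Cfsg.Agent.Lib.Recognition.Suzuki.Triangle
import Cfsg.Agent.Lib.Recognition.Suzuki.Small

set_option autoImplicit false

namespace CfsgLib.Recognition.SzBinary

open Matrix Cfsg.Lie CfsgLib.Spectrum CfsgLib.SuzukiLaws CfsgLib.Suzuki CfsgLib.Recognition.SzBorel
  CfsgLib.Recognition.SzNorm CfsgLib.Recognition.SzSolvable CfsgLib.Recognition.SzSol

variable {F : Type*} [Field F] [Fintype F] [CharP F 2] {m : ℕ}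
  (hF : Fintype.card F = 2 ^ (2 * m + 1)) {H : Subgroup (Sz F (2 ^ (m + 1)))}

include hF in
theorem T_inv (s : Fˣ) : (T hF s)⁻¹ = T hF s⁻¹ :=
  inv_eq_of_mul_eq_one_right (by rw [T_mul, mul_inv_cancel, T_one])

include hF in
theorem conj_to_center (hm : 1 ≤ m) {w : Sz F (2 ^ (m + 1))} (h2 : w * w = 1) (h1 : w ≠ 1) {b : F} (hb : b ≠ 0) :
    ∃ k, k⁻¹ * w * k = U hF 0 b := by
  obtain ⟨k, c, hc, hk⟩ := exists_conj_involution hF hm
    (orderOf_eq_prime (show w ^ 2 = 1 by rw [pow_two, h2]) h1 : orderOf w = 2)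
  obtain ⟨s, hs⟩ := exists_lam hF (div_ne_zero hc hb)
  refine ⟨k * (T hF s)⁻¹, ?_⟩
  have e : (s : F) ^ (2 ^ (m + 1) + 2) * c = b := by
    field_simp at hs
    exact hs
  calc (k * (T hF s)⁻¹)⁻¹ * w * (k * (T hF s)⁻¹) = T hF s * (k⁻¹ * w * k) * (T hF s)⁻¹ := by group
    _ = _ := by rw [hk, T_conj_U, mul_zero, e]

/-- The conjugators putting a central involution into the subgroup. -/
def hullSet (H : Subgroup (Sz F (2 ^ (m + 1)))) (b : F) : Set (Sz F (2 ^ (m + 1))) :=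
  {g | g⁻¹ * U hF 0 b * g ∈ H}

/-- The intersection of the conjugates containing a central involution. -/
def hull (H : Subgroup (Sz F (2 ^ (m + 1)))) (b : F) : Subgroup (Sz F (2 ^ (m + 1))) :=
  inter H (hullSet hF H b)

theorem mem_hull_self (b : F) : U hF 0 b ∈ hull hF H b := mem_inter.2 fun _ hg => hg

include hF in
theorem hullSet_nonempty (hm : 1 ≤ m) (h2 : 2 ∣ Nat.card H) {b : F} (hb : b ≠ 0) :
    (hullSet hF H b).Nonempty := by
  haveI : Fact (Nat.Prime 2) := ⟨Nat.prime_two⟩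
  obtain ⟨⟨w, hwH⟩, hw⟩ := exists_prime_orderOf_dvd_card' (G := H) 2 h2
  rw [Subgroup.orderOf_mk] at hw
  obtain ⟨k, hk⟩ := conj_to_center hF hm ((pow_two w).symm.trans (orderOf_dvd_iff_pow_eq_one.1 (dvd_of_eq hw)))
    (fun e => by rw [e, orderOf_one] at hw; omega) hb
  exact ⟨k⁻¹, show k⁻¹⁻¹ * U hF 0 b * k⁻¹ ∈ H by rw [← hk, inv_inv]; group; exact hwH⟩

include hF in
theorem hull_conj {k : Sz F (2 ^ (m + 1))} {b c : F} (hk : k * U hF 0 b * k⁻¹ = U hF 0 c) :
    hull hF H c = (hull hF H b).map (MulAut.conj k).toMonoidHom := by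
  ext x
  rw [Subgroup.mem_map_equiv, MulAut.conj_symm_apply, hull, hull, mem_inter, mem_inter]
  constructor
  · intro h g hg
    have h' := h (k * g) (show (k * g)⁻¹ * U hF 0 c * (k * g) ∈ H by
      rw [← hk, show (k * g)⁻¹ * (k * U hF 0 b * k⁻¹) * (k * g) = g⁻¹ * U hF 0 b * g by group]; exact hg)
    rwa [show (k * g)⁻¹ * x * (k * g) = g⁻¹ * (k⁻¹ * x * k) * g by group] at h'
  · intro h g hg
    have h' := h (k⁻¹ * g) (show (k⁻¹ * g)⁻¹ * U hF 0 b * (k⁻¹ * g) ∈ H by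
      rw [show (k⁻¹ * g)⁻¹ * U hF 0 b * (k⁻¹ * g) = g⁻¹ * (k * U hF 0 b * k⁻¹) * g by group, hk]; exact hg)
    rwa [show (k⁻¹ * g)⁻¹ * (k⁻¹ * x * k) * (k⁻¹ * g) = g⁻¹ * x * g by group] at h'

include hF in
theorem U_comm_center (a c b : F) : U hF a c * U hF 0 b * (U hF a c)⁻¹ = U hF 0 b := by
  rw [mul_inv_eq_iff_eq_mul, U_mul, U_mul, zero_pow (by positivity), mul_zero, zero_mul, add_comm 0 a,
    add_comm b c]

include hF in
theorem hull_unip {b : F} {u x : Sz F (2 ^ (m + 1))} (hu : u ∈ unip hF) (hx : x ∈ hull hF H b) :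
    u * x * u⁻¹ ∈ hull hF H b := by
  obtain ⟨a, c, rfl⟩ := hu
  rw [hull_conj hF (H := H) (U_comm_center hF a c b)]
  exact ⟨x, hx, rfl⟩

include hF in
theorem hull_le_borel (hm : 1 ≤ m) (hH : H ≠ ⊤) (h2 : 2 ∣ Nat.card H) {b : F} (hb : b ≠ 0) :
    hull hF H b ≤ borel hF := by
  obtain ⟨g, hg⟩ := hullSet_nonempty hF hm h2 hb
  have hne : hull hF H b ≠ ⊤ := fun e => hH (eq_top_iff.2 fun x _ => by
    have h := mem_inter.1 (show g * x * g⁻¹ ∈ hull hF H b by rw [e]; trivial) g hg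
    rwa [show g⁻¹ * (g * x * g⁻¹) * g = x by group] at h)
  obtain ⟨p, hp⟩ : ∃ p : Cfsg.suzukiOvoid F m, ∀ x ∈ hull hF H b, toSL hF x • p = p := by
    by_contra hall
    push Not at hall
    obtain ⟨hsmall, -⟩ := small hF hm _ hne hall
    obtain ⟨x, hx, hxi⟩ := hall inf
    -- the involution at the image of infinity
    set w := x * U hF 0 b * x⁻¹ with hw
    have hwm : w ∈ hull hF H b := mul_mem (mul_mem hx (mem_hull_self hF b)) (inv_mem hx)
    have hwfix : ∀ r : Cfsg.suzukiOvoid F m, toSL hF w • r = r → r = toSL hF x • inf := fun r hr => by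
      have h1 : toSL hF (x⁻¹ * w * x) • (toSL hF x)⁻¹ • r = (toSL hF x)⁻¹ • r :=
        (conj_fix hF _).2 (by rw [smul_inv_smul]; exact hr)
      rw [hw, show x⁻¹ * (x * U hF 0 b * x⁻¹) * x = U hF 0 b by group] at h1
      rw [← center_fix hF hb h1, smul_inv_smul]
    have hinj : Set.InjOn (fun u => u * w * u⁻¹) (unip hF : Set (Sz F (2 ^ (m + 1)))) := by
      rintro _ ⟨a, c, rfl⟩ _ ⟨a', c', rfl⟩ e
      have h1 : toSL hF w • toSL hF x • inf = (toSL hF x • inf : Cfsg.suzukiOvoid F m) := by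
        refine (conj_fix hF inf).1 ?_
        rw [hw, show x⁻¹ * (x * U hF 0 b * x⁻¹) * x = U hF 0 b by group]
        exact U_smul_inf hF 0 b
      have h2 : toSL hF (U hF a c * w * (U hF a c)⁻¹) • toSL hF (U hF a c) • toSL hF x • inf =
          (toSL hF (U hF a c) • toSL hF x • inf : Cfsg.suzukiOvoid F m) := (conj_fix hF _).1 (by
        rw [show (U hF a c)⁻¹ * (U hF a c * w * (U hF a c)⁻¹) * U hF a c = w by group]; exact h1)
      simp only at e
      rw [e] at h2
      have h3 := hwfix _ (show toSL hF w • (toSL hF (U hF a' c'))⁻¹ • toSL hF (U hF a c) • toSL hF x • inf =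
          ((toSL hF (U hF a' c'))⁻¹ • toSL hF (U hF a c) • toSL hF x • inf : Cfsg.suzukiOvoid F m) by
        rw [eq_inv_smul_iff]
        rw [map_mul, map_mul, map_inv, mul_smul, mul_smul] at h2
        exact h2)
      rw [inv_smul_eq_iff] at h3
      obtain ⟨a₀, c₀, h0⟩ := SzSub.exists_U_frame hF hxi
      rw [← h0, smul_smul, smul_smul, ← map_mul, ← map_mul, U_mul, U_mul] at h3
      have hne' : toSL hF (U hF (a' + a₀) (c' + c₀ + a' * a₀ ^ 2 ^ (m + 1))) •
          (Suzuki.zero : Cfsg.suzukiOvoid F m) ≠ inf := fun e => inf_ne_zero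
        (MulAction.injective _ ((U_smul_inf hF _ _).trans e.symm))
      obtain ⟨ab, -, hun⟩ := existsUnique_U hF hne'
      have h4 := (hun (_, _) h3).trans (hun (_, _) rfl).symm
      simp only [Prod.mk.injEq, add_left_inj] at h4
      obtain ⟨h5, h6⟩ := h4
      subst h5
      rw [add_left_inj, add_left_inj] at h6
      rw [h6]
    have hle := Set.ncard_le_ncard_of_injOn (t := (hull hF H b : Set (Sz F (2 ^ (m + 1)))))
      (fun u => u * w * u⁻¹) (fun u hu => hull_unip hF hu hwm) hinj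
    rw [← Nat.card_coe_set_eq, ← Nat.card_coe_set_eq, SetLike.coe_sort_coe, SetLike.coe_sort_coe, card_unip] at hle
    omega
  have hpi : p = inf := center_fix hF hb (hp _ (mem_hull_self hF b))
  subst hpi
  exact fun x hx => hp x hx

theorem hull_mono {x y : F} (h : U hF 0 y ∈ hull hF H x) : hull hF H y ≤ hull hF H x := by
  intro z hz
  rw [hull, mem_inter] at h hz ⊢
  exact fun g hg => hz g (h g hg)

include hF in
theorem hull_eq (hm : 1 ≤ m) (hb2 : Binary H) (hH : H ≠ ⊤) (h2 : 2 ∣ Nat.card H) {b c : F} (hb : b ≠ 0)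
    (hc : c ≠ 0) : U hF 0 c ∈ hull hF H b := by
  by_cases hbc : c = b
  · rw [hbc]
    exact mem_hull_self hF b
  have heq : ∀ {x y : F}, x ≠ 0 → y ≠ 0 → U hF 0 y ∈ hull hF H x → hull hF H y = hull hF H x := by
    intro x y hx hy h
    refine Subgroup.eq_of_le_of_card_ge (hull_mono hF h) ?_
    obtain ⟨s, hs⟩ := exists_lam hF (div_ne_zero hy hx)
    have e : T hF s * U hF 0 y * (T hF s)⁻¹ = U hF 0 x := by
      rw [T_conj_U, mul_zero]
      congr 1
      field_simp at hs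
      exact hs
    rw [hull_conj hF (H := H) e, SzPartition.card_map_conj]
  by_contra hcb
  have hbc0 : b + c ≠ 0 := fun e => hbc (CharTwo.add_eq_zero.1 e).symm
  have hcm : U hF 0 c ∈ hull hF H c := mem_hull_self hF c
  have hsep : hull hF H b ≠ hull hF H c := fun e => hcb (by rw [e]; exact hcm)
  obtain ⟨y, hyB, hyC, hyD⟩ := binary_mul hb2 (hullSet_nonempty hF hm h2 hb) (hullSet_nonempty hF hm h2 hc)
    (SC := hullSet hF H (b + c)) (mem_hull_self hF b) (mem_hull_self hF c)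
    (show (U hF 0 c)⁻¹ * U hF 0 b ∈ hull hF H (b + c) by
      have e : (U hF 0 c)⁻¹ * U hF 0 b = U hF 0 (b + c) := by
        rw [inv_mul_eq_iff_eq_mul, U_mul, add_zero, zero_mul, add_zero, ← add_assoc, add_comm c b, add_assoc,
          CharTwo.add_self_eq_zero, add_zero]
      rw [e]; exact mem_hull_self hF _)
  set D := hull hF H b ⊓ hull hF H c with hD
  have hyDm : y ∈ D := ⟨hyB, hyC⟩
  have hodd : Odd (orderOf y) := by
    by_contra hev
    rw [Nat.not_odd_iff_even] at hev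
    have hw := orderOf_pow_orderOf_div (orderOf_pos y).ne' hev.two_dvd
    set w := y ^ (orderOf y / 2)
    have hwD : w ∈ D := pow_mem hyDm _
    obtain ⟨d, hd, hwd⟩ := eq_center_of_fix hF hm
      (w := w) ((pow_two w).symm.trans (orderOf_dvd_iff_pow_eq_one.1 (dvd_of_eq hw)))
      (fun e => by rw [e, orderOf_one] at hw; omega) (hull_le_borel hF hm hH h2 hb hwD.1)
    rw [hwd] at hwD
    exact hsep ((heq hb hd hwD.1).symm.trans (heq hc hd hwD.2))
  have hy1 : y = 1 := by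
    by_contra hy1
    have hcomm : Commute (U hF 0 1) y := by
      set d := U hF 0 1 * y * (U hF 0 1)⁻¹ * y⁻¹ with hd
      have hdD : d ∈ D := mul_mem
        ⟨hull_unip hF ⟨0, 1, rfl⟩ hyB, hull_unip hF ⟨0, 1, rfl⟩ hyC⟩ (inv_mem hyDm)
      obtain ⟨e, he⟩ := exists_conj_center hF (inv_mem (hull_le_borel hF hm hH h2 hb hyB)) 1
      rw [inv_inv] at he
      have hi : (U hF 0 1)⁻¹ = U hF 0 1 := inv_eq_of_mul_eq_one_right (center_sq hF 1)
      have hdc : d = U hF 0 (1 + e) := by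
        calc d = U hF 0 1 * (y * U hF 0 1 * y⁻¹) := by rw [hd, hi]; group
          _ = _ := by rw [he, U_mul, add_zero, zero_mul, add_zero]
      by_cases h1e : 1 + e = 0
      · rw [hdc, h1e, U_zero] at hd
        show U hF 0 1 * y = y * U hF 0 1
        calc U hF 0 1 * y = U hF 0 1 * y * (U hF 0 1)⁻¹ * y⁻¹ * (y * U hF 0 1) := by group
          _ = y * U hF 0 1 := by rw [← hd, one_mul]
      · exfalso
        rw [hdc] at hdD
        exact hsep ((heq hb h1e hdD.1).symm.trans (heq hc h1e hdD.2))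
    have h' := odd_of_commute hF hm hodd hy1 hcomm
    have ho : orderOf (U hF 0 (1 : F)) = 2 := orderOf_eq_prime
      (show U hF 0 (1 : F) ^ 2 = 1 by rw [pow_two, center_sq]) (center_ne_one hF one_ne_zero)
    rw [ho] at h'
    exact absurd h' (by decide)
  subst hy1
  rw [inv_one, one_mul] at hyD
  have e1 := heq hbc0 hb (show U hF 0 b ∈ hull hF H (b + c) from hyD)
  refine hcb ?_
  rw [e1]
  have h := mul_mem (show U hF 0 b ∈ hull hF H (b + c) from hyD) (mem_hull_self hF (H := H) (b + c))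
  rwa [U_mul, add_zero, zero_mul, add_zero, ← add_assoc, CharTwo.add_self_eq_zero, zero_add] at h

include hF in
theorem binary_map (hb : Binary H) (k : Sz F (2 ^ (m + 1))) : Binary (H.map (MulAut.conj k).toMonoidHom) := by
  have hmem : ∀ x, x ∈ H.map (MulAut.conj k).toMonoidHom ↔ k⁻¹ * x * k ∈ H := fun x => by
    rw [Subgroup.mem_map_equiv, MulAut.conj_symm_apply]
  intro n I J hn hpair
  obtain ⟨g, hg⟩ := hb n (fun i => ((I i).out * k : Sz F (2 ^ (m + 1))))
    (fun i => ((J i).out * k : Sz F (2 ^ (m + 1)))) hn fun i j hij => by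
    obtain ⟨g, hgi, hgj⟩ := hpair i j hij
    rw [← QuotientGroup.out_eq' (I i), ← QuotientGroup.out_eq' (J i), smul_mk_eq, hmem] at hgi
    rw [← QuotientGroup.out_eq' (I j), ← QuotientGroup.out_eq' (J j), smul_mk_eq, hmem] at hgj
    refine ⟨g, (smul_mk_eq _ _ _).2 ?_, (smul_mk_eq _ _ _).2 ?_⟩
    · rwa [show ((J i).out * k)⁻¹ * g * ((I i).out * k) = k⁻¹ * ((J i).out⁻¹ * g * (I i).out) * k by group]
    · rwa [show ((J j).out * k)⁻¹ * g * ((I j).out * k) = k⁻¹ * ((J j).out⁻¹ * g * (I j).out) * k by group]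
  refine ⟨g, fun i => ?_⟩
  rw [← QuotientGroup.out_eq' (I i), ← QuotientGroup.out_eq' (J i), smul_mk_eq, hmem]
  have h := (smul_mk_eq _ _ _).1 (hg i)
  rwa [show ((J i).out * k)⁻¹ * g * ((I i).out * k) = k⁻¹ * ((J i).out⁻¹ * g * (I i).out) * k by group] at h

include hF in
theorem center_le (hm : 1 ≤ m) (hb2 : Binary H) (hH : H ≠ ⊤) (h2 : 2 ∣ Nat.card H) {g : Sz F (2 ^ (m + 1))}
    {b : F} (hb : b ≠ 0) (hg : g⁻¹ * U hF 0 b * g ∈ H) (c : F) : g⁻¹ * U hF 0 c * g ∈ H := by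
  by_cases hc : c = 0
  · rw [hc, U_zero, mul_one, inv_mul_cancel]; exact one_mem H
  · exact mem_inter.1 (hull_eq hF hm hb2 hH h2 hb hc) g hg

include hF in
theorem card_map_center : ∀ k : Sz F (2 ^ (m + 1)), ∀ H : Subgroup (Sz F (2 ^ (m + 1))),
    (∀ c : F, U hF 0 c ∈ H) → Fintype.card F ∣ Nat.card H := fun _ H hH => by
  let f : Multiplicative F →* H := MonoidHom.mk' (fun c => ⟨U hF 0 c.toAdd, hH _⟩) fun x y => Subtype.ext (by
    show U hF 0 (x.toAdd + y.toAdd) = U hF 0 x.toAdd * U hF 0 y.toAdd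
    rw [U_mul, add_zero, zero_mul, add_zero])
  have hinj : Function.Injective f := fun x y e =>
    (U_injective hF (congrArg Subtype.val e)).2
  have h := Subgroup.card_subgroup_dvd_card f.range
  rwa [← Nat.card_congr (MonoidHom.ofInjective hinj).toEquiv, Nat.card_congr Multiplicative.toAdd,
    Nat.card_eq_fintype_card] at h

include hF in
/-- The stabiliser fixes a point. -/
theorem exists_fix (hm : 1 ≤ m) (hb2 : Binary H) (hH : H ≠ ⊤) (h2 : 2 ∣ Nat.card H) :
    ∃ k : Sz F (2 ^ (m + 1)), (∀ c : F, k⁻¹ * U hF 0 c * k ∈ H) ∧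
      H.map (MulAut.conj k).toMonoidHom ≤ borel hF := by
  obtain ⟨k, hk⟩ := hullSet_nonempty hF hm h2 (one_ne_zero (α := F))
  have hall : ∀ c : F, k⁻¹ * U hF 0 c * k ∈ H := center_le hF hm hb2 hH h2 one_ne_zero hk
  refine ⟨k, hall, ?_⟩
  set H' := H.map (MulAut.conj k).toMonoidHom with hH'
  have hmem : ∀ c : F, U hF 0 c ∈ H' := fun c => by
    rw [hH', Subgroup.mem_map_equiv, MulAut.conj_symm_apply]
    exact hall c
  have hne : H' ≠ ⊤ := fun e => hH (by
    rw [← Subgroup.map_top_of_surjective (MulAut.conj k).toMonoidHom (MulAut.conj k).surjective] at e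
    exact Subgroup.map_injective (MulAut.conj k).injective e)
  by_contra hle
  have hnofix : ∀ p : Cfsg.suzukiOvoid F m, ∃ g ∈ H', toSL hF g • p ≠ p := fun p => by
    by_contra hall'
    push Not at hall'
    have : p = inf := center_fix hF one_ne_zero (hall' _ (hmem 1))
    subst this
    exact hle fun g hg => hall' g hg
  exact (small hF hm H' hne hnofix).2 (card_map_center hF k H' hmem)

include hF in
theorem W_U01_W : W hF * U hF 0 1 * W hF = U hF 1 1 * W hF * U hF 1 0 := by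
  refine Subtype.ext (Units.ext ?_)
  have h2 : (2 : F) = 0 := CharTwo.two_eq_zero
  have e1 : (1 : F) + 1 = 0 := CharTwo.add_self_eq_zero 1
  ext i j
  fin_cases i <;> fin_cases j <;>
    simp [W, U, antiJUnit, antiJ, uUnit_val, uMat, Matrix.mul_apply, Fin.sum_univ_four, e1] <;>
    (try linear_combination h2) <;> (try linear_combination -h2)

include hF in
/-- No element of order four fixes a coset. -/
theorem no_four (hm : 1 ≤ m) (hb2 : Binary H) (hle : H ≤ borel hF) (hcen : ∀ c : F, U hF 0 c ∈ H) {a c : F}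
    (h : U hF a c ∈ H) : a = 0 := by
  by_contra ha
  obtain ⟨s, hs⟩ := (bijective_iterateFrobenius F 2 (m + 1)).2 a⁻¹
  rw [iterateFrobenius_def] at hs
  have hs0 : s ≠ 0 := fun e => ha (by rw [e, zero_pow (by positivity)] at hs; exact inv_eq_zero.1 hs.symm)
  set t := Units.mk0 s hs0
  set H' := H.map (MulAut.conj (T hF t)).toMonoidHom with hH'
  have hle' : H' ≤ borel hF := by
    rintro _ ⟨x, hx, rfl⟩
    exact mul_mem (mul_mem (T_smul_inf hF t) (hle hx)) (inv_mem (T_smul_inf hF t))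
  have hU1 : ∀ d : F, U hF 1 d ∈ H' := fun d => by
    rw [hH', Subgroup.mem_map_equiv, MulAut.conj_symm_apply]
    obtain ⟨d', hd'⟩ : ∃ d', T hF t * U hF a d' * (T hF t)⁻¹ = U hF 1 d := by
      refine ⟨((t⁻¹ : Fˣ) : F) ^ (2 ^ (m + 1) + 2) * d, ?_⟩
      rw [T_conj_U, ← mul_assoc, ← mul_pow, ← Units.val_mul, mul_inv_cancel, Units.val_one, one_pow, one_mul,
        show (t : F) ^ 2 ^ (m + 1) * a = 1 by rw [show (t : F) ^ 2 ^ (m + 1) = a⁻¹ from hs, inv_mul_cancel₀ ha]]
    rw [← hd', show (T hF t)⁻¹ * (T hF t * U hF a d' * (T hF t)⁻¹) * T hF t = U hF a d' by group]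
    have h1 := mul_mem h (hcen (c + d'))
    rwa [U_mul, add_zero, zero_pow (by positivity), mul_zero, add_zero, ← add_assoc, CharTwo.add_self_eq_zero,
      zero_add] at h1
  have h01 : U hF 0 1 ∈ H' := by
    have h1 := mul_mem (hU1 0) (hU1 0)
    rwa [sq_U, one_pow, mul_one] at h1
  have hbin := binary_map hF hb2 (T hF t)
  have h3 : ¬ 3 ∣ Nat.card (Sz F (2 ^ (m + 1))) := by
    rw [card_group hF hm]
    have hmod : 2 ^ (2 * m + 1) % 3 = 2 := by
      rw [pow_succ, pow_mul, Nat.mul_mod, Nat.pow_mod]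
      norm_num
    generalize 2 ^ (2 * m + 1) = q at hmod
    intro hd
    rw [Nat.dvd_iff_mod_eq_zero] at hd
    obtain ⟨r, rfl⟩ : ∃ r, q = 3 * r + 2 := ⟨q / 3, by omega⟩
    rw [show 3 * r + 2 - 1 = 3 * r + 1 by omega] at hd
    simp [Nat.mul_mod, Nat.add_mod, Nat.pow_mod] at hd
  have key := W_U01_W hF
  set g₁ := W hF * U hF 0 1 with hg1
  set g₃ := (U hF 1 1 * W hF)⁻¹ with hg3
  have hx2 : ((U hF 1 1 * W hF : Sz F (2 ^ (m + 1))) : Sz F (2 ^ (m + 1)) ⧸ H') = (W hF * U hF 0 1 * W hF : Sz F (2 ^ (m + 1))) := by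
    rw [QuotientGroup.eq, key, ← mul_assoc, inv_mul_cancel, one_mul]
    exact hU1 0
  have a1 : g₁ • ((1 : Sz F (2 ^ (m + 1))) : _ ⧸ H') = ((W hF : Sz F (2 ^ (m + 1))) : _ ⧸ H') := by
    rw [smul_mk_eq, mul_one, hg1, ← mul_assoc, inv_mul_cancel, one_mul]; exact h01
  have a2 : g₁ • ((W hF : Sz F (2 ^ (m + 1))) : _ ⧸ H') = ((U hF 1 1 * W hF : Sz F (2 ^ (m + 1))) : _ ⧸ H') := by
    rw [hx2, smul_mk_eq, hg1, mul_assoc, inv_mul_cancel]; exact one_mem H'
  have a3 : g₃ • ((U hF 1 1 * W hF : Sz F (2 ^ (m + 1))) : _ ⧸ H') = ((1 : Sz F (2 ^ (m + 1))) : _ ⧸ H') := by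
    rw [smul_mk_eq, inv_one, one_mul, hg3, inv_mul_cancel]; exact one_mem H'
  have a4 : g₃ • ((1 : Sz F (2 ^ (m + 1))) : _ ⧸ H') = ((W hF : Sz F (2 ^ (m + 1))) : _ ⧸ H') := by
    rw [smul_mk_eq, mul_one, hg3, _root_.mul_inv_rev, ← mul_assoc,
      inv_eq_of_mul_eq_one_right (W_mul_W hF), W_mul_W, one_mul]
    exact inv_mem (hU1 1)
  have hcyc := three_cycle hbin h3 (g₁ := g₁) (g₂ := g₃⁻¹ * g₁⁻¹) (g₃ := g₃) a1 a2
    (by rw [mul_smul, inv_smul_eq_iff.2 a1.symm, inv_smul_eq_iff.2 a3.symm])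
    (by rw [mul_smul, inv_smul_eq_iff.2 a2.symm, inv_smul_eq_iff.2 a4.symm])
    a4 a3
  rw [QuotientGroup.eq, inv_one, one_mul] at hcyc
  exact inf_ne_zero ((W_smul_inf hF).symm.trans (hle' hcyc)).symm

include hF in
/-- The conjugate at infinity is the centre of the unipotent radical. -/
theorem eq_center (hm : 1 ≤ m) (hb2 : Binary H) (hH : H ≠ ⊤) (hle : H ≤ borel hF)
    (hcen : ∀ c : F, U hF 0 c ∈ H) : ∀ x ∈ H, ∃ c, x = U hF 0 c := by
  have h2 : 2 ∣ Nat.card H := by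
    have ho : orderOf (U hF 0 (1 : F)) = 2 := orderOf_eq_prime
      (show U hF 0 (1 : F) ^ 2 = 1 by rw [pow_two, center_sq]) (center_ne_one hF one_ne_zero)
    exact (dvd_of_eq ho.symm).trans (Subgroup.orderOf_dvd_natCard H (hcen 1))
  intro x hx
  obtain ⟨s, a, c, rfl⟩ := (stab_inf hF x).1 (hle hx)
  by_cases hs : s = 1
  · subst hs
    rw [T_one, one_mul] at hx ⊢
    obtain rfl := no_four hF hm hb2 hle hcen hx
    exact ⟨c, rfl⟩
  exfalso
  -- move the torus element to the torus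
  obtain ⟨u, hu, e⟩ : ∃ u ∈ unip hF, u * (T hF s * U hF a c) * u⁻¹ = T hF s := by
    have hne : T hF s * U hF a c ≠ 1 := fun e => hs (by
      have h := TU_injective hF (e.trans (by rw [T_one, U_zero, one_mul]) : T hF s * U hF a c = T hF 1 * U hF 0 0)
      exact h.1)
    have hnu : T hF s * U hF a c ∉ unip hF := by
      rintro ⟨a', c', e⟩
      exact hs (TU_injective hF (e.trans (by rw [T_one, one_mul]) : T hF s * U hF a c = T hF 1 * U hF a' c')).1
    obtain ⟨q, hq, hqi⟩ : ∃ q : Cfsg.suzukiOvoid F m, toSL hF (T hF s * U hF a c) • q = q ∧ q ≠ inf := by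
      by_contra hall
      push Not at hall
      exact hnu (mem_unip_of_fix hF (hle hx) hall)
    obtain ⟨a', c', hq'⟩ := SzSub.exists_U_frame hF hqi
    obtain ⟨t, ht⟩ := (stab_two hF ((U hF a' c')⁻¹ * (T hF s * U hF a c) * U hF a' c')).1
      ⟨(conj_fix hF _).2 (by rw [U_smul_inf]; exact hle hx), (conj_fix hF _).2 (by rw [hq']; exact hq)⟩
    have hts : t = s := by
      have h1 : T hF s * U hF a c * U hF a' c' = U hF a' c' * T hF t := by rw [← ht]; group
      rw [mul_assoc, U_mul] at h1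
      have h2 : U hF a' c' * T hF t = T hF t * U hF (((t⁻¹ : Fˣ) : F) ^ 2 ^ (m + 1) * a')
          (((t⁻¹ : Fˣ) : F) ^ (2 ^ (m + 1) + 2) * c') := by
        rw [T_mul_U, ← mul_assoc, ← mul_assoc, ← mul_pow, ← mul_pow, ← Units.val_mul, mul_inv_cancel,
          Units.val_one, one_pow, one_pow, one_mul, one_mul]
      rw [h2] at h1
      exact (TU_injective hF h1).1.symm
    exact ⟨(U hF a' c')⁻¹, inv_mem ⟨a', c', rfl⟩, by rw [inv_inv, ht, hts]⟩
  obtain ⟨a', c', rfl⟩ := hu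
  set H' := H.map (MulAut.conj (U hF a' c')).toMonoidHom with hH'
  have hTH : T hF s ∈ H' := ⟨_, hx, e⟩
  have hle' : H' ≤ borel hF := by
    rintro _ ⟨y, hy, rfl⟩
    exact mul_mem (mul_mem (U_smul_inf hF a' c') (hle hy)) (inv_mem (U_smul_inf hF a' c'))
  have hcen' : ∀ d : F, U hF 0 d ∈ H' := fun d => ⟨_, hcen d, U_comm_center hF a' c' d⟩
  have hb' : Binary H' := binary_map hF hb2 _
  have h2' : 2 ∣ Nat.card H' := by rw [hH', SzPartition.card_map_conj]; exact h2
  have hne' : H' ≠ ⊤ := fun e => hH (by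
    rw [hH', ← Subgroup.map_top_of_surjective (MulAut.conj (U hF a' c')).toMonoidHom
      (MulAut.conj (U hF a' c')).surjective] at e
    exact Subgroup.map_injective (MulAut.conj (U hF a' c')).injective e)
  have hfour : ∀ a c, U hF a c ∈ H' → a = 0 := fun a c => no_four hF hm hb' hle' hcen'
  -- the hull consists of involutions
  have hhull : ∀ b : F, b ≠ 0 → ∀ y ∈ hull hF H' b, ∃ d, y = U hF 0 d := by
    intro b hb y hy
    obtain ⟨r, α, γ, rfl⟩ := (stab_inf hF y).1 (hull_le_borel hF hm hne' h2' hb hy)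
    have hsub : ∀ z ∈ hull hF H' b, z ∈ H' := fun z hz => by
      have h := mem_inter.1 hz 1 (show (1 : Sz F (2 ^ (m + 1)))⁻¹ * U hF 0 b * 1 ∈ H' by
        rw [inv_one, one_mul, mul_one]; exact hcen' b)
      rwa [inv_one, one_mul, mul_one] at h
    by_cases hr : r = 1
    · subst hr
      rw [T_one, one_mul] at hy ⊢
      obtain rfl := hfour _ _ (hsub _ hy)
      exact ⟨γ, rfl⟩
    exfalso
    have h1 := hsub _ (mul_mem (hull_unip hF (u := U hF 1 0) ⟨1, 0, rfl⟩ hy) (inv_mem hy))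
    have hr' : (r : F) ^ 2 ^ (m + 1) ≠ 1 := fun e => hr (Units.ext
      ((bijective_iterateFrobenius F 2 (m + 1)).1 (by simp only [iterateFrobenius_def, Units.val_one, one_pow, e])))
    obtain ⟨d, hd⟩ : ∃ d, T hF r * U hF α γ * (U hF 1 0)⁻¹ * (T hF r * U hF α γ)⁻¹ =
        U hF ((r : F) ^ 2 ^ (m + 1)) d := by
      rw [show T hF r * U hF α γ * (U hF 1 0)⁻¹ * (T hF r * U hF α γ)⁻¹ =
        T hF r * (U hF α γ * (U hF 1 0)⁻¹ * (U hF α γ)⁻¹) * (T hF r)⁻¹ by group,
        U_inv hF 1 0, U_inv hF α γ, U_mul, U_mul, T_conj_U,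
        show α + 1 + α = 1 by rw [add_comm α 1, add_assoc, CharTwo.add_self_eq_zero, add_zero], mul_one]
      exact ⟨_, rfl⟩
    rw [show U hF 1 0 * (T hF r * U hF α γ) * (U hF 1 0)⁻¹ * (T hF r * U hF α γ)⁻¹ =
      U hF 1 0 * (T hF r * U hF α γ * (U hF 1 0)⁻¹ * (T hF r * U hF α γ)⁻¹) by group, hd, U_mul] at h1
    exact hr' (CharTwo.add_eq_zero.1 (hfour _ _ h1)).symm
  -- two involutions with quotient the torus element
  obtain ⟨k, hk⟩ := conj_to_center hF hm (w := W hF) (W_mul_W hF)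
    (fun e => inf_ne_zero (by
      have h := congrArg (fun g => toSL hF g • (inf : Cfsg.suzukiOvoid F m)) e
      simp only [W_smul_inf, map_one, one_smul] at h
      exact h.symm)) (one_ne_zero (α := F))
  set w := W hF * (T hF s)⁻¹ with hw
  have hw2 : w * w = 1 := by
    rw [hw, T_inv hF, ← mul_assoc, W_mul_T, T_mul, inv_mul_cancel, T_one]
  have hw1 : w ≠ 1 := fun e => inf_ne_zero (by
    have h := congrArg (fun g => toSL hF g • (inf : Cfsg.suzukiOvoid F m)) e
    rw [hw] at h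
    simp only [T_inv hF, map_mul, mul_smul, T_smul_inf, W_smul_inf, map_one, one_smul] at h
    exact h.symm)
  obtain ⟨k', hk'⟩ := conj_to_center hF hm hw2 hw1 (one_ne_zero (α := F))
  -- the hulls of the two involutions
  have hmemS : ∀ {k₁ v : Sz F (2 ^ (m + 1))}, k₁⁻¹ * v * k₁ = U hF 0 1 →
      v ∈ inter H' ((fun g => k₁ * g) '' hullSet hF H' 1) := fun {k₁ v} h => mem_inter.2 (by
    rintro _ ⟨g, hg, rfl⟩
    rw [show (k₁ * g)⁻¹ * v * (k₁ * g) = g⁻¹ * (k₁⁻¹ * v * k₁) * g by group, h]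
    exact hg)
  have hback : ∀ {k₁ y : Sz F (2 ^ (m + 1))}, y ∈ inter H' ((fun g => k₁ * g) '' hullSet hF H' 1) →
      k₁⁻¹ * y * k₁ ∈ hull hF H' 1 := fun {k₁ y} h => mem_inter.2 fun g hg => by
    have := mem_inter.1 h (k₁ * g) ⟨g, hg, rfl⟩
    rwa [show (k₁ * g)⁻¹ * y * (k₁ * g) = g⁻¹ * (k₁⁻¹ * y * k₁) * g by group] at this
  obtain ⟨y, hyA, hyB, hyC⟩ := binary_mul hb' ((hullSet_nonempty hF hm h2' one_ne_zero).image (fun g => k * g))
    ((hullSet_nonempty hF hm h2' one_ne_zero).image (fun g => k' * g)) (SC := {(1 : Sz F (2 ^ (m + 1)))})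
    (hmemS hk) (hmemS hk') (mem_inter.2 fun g hg => by
      obtain rfl := hg
      rw [inv_one, one_mul, mul_one, hw, _root_.mul_inv_rev, inv_inv, inv_mul_cancel_right]
      exact hTH)
  obtain ⟨d, hd⟩ := hhull 1 one_ne_zero _ (hback hyA)
  obtain ⟨d', hd'⟩ := hhull 1 one_ne_zero _ (hback hyB)
  have hd0 : d = 0 := by
    by_contra hd0
    -- a common fixed point of the two involutions
    have f1 : toSL hF y • toSL hF k • inf = (toSL hF k • inf : Cfsg.suzukiOvoid F m) :=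
      (conj_fix hF inf).1 (by rw [hd]; exact U_smul_inf hF 0 d)
    have f2 : toSL hF y • toSL hF k' • inf = (toSL hF k' • inf : Cfsg.suzukiOvoid F m) :=
      (conj_fix hF inf).1 (by rw [hd']; exact U_smul_inf hF 0 d')
    have heq : (toSL hF k • inf : Cfsg.suzukiOvoid F m) = toSL hF k' • inf := by
      have h1 : toSL hF (k⁻¹ * y * k) • (toSL hF k)⁻¹ • toSL hF k' • inf =
          ((toSL hF k)⁻¹ • toSL hF k' • inf : Cfsg.suzukiOvoid F m) :=
        (conj_fix hF _).2 (by rw [smul_inv_smul]; exact f2)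
      rw [hd] at h1
      have h3 := center_fix hF hd0 h1
      rw [inv_smul_eq_iff] at h3
      exact h3.symm
    have g1 : toSL hF (W hF) • toSL hF k • inf = (toSL hF k • inf : Cfsg.suzukiOvoid F m) :=
      (conj_fix hF inf).1 (by rw [hk]; exact U_smul_inf hF 0 1)
    have g2 : toSL hF w • toSL hF k • inf = (toSL hF k • inf : Cfsg.suzukiOvoid F m) := by
      rw [heq]; exact (conj_fix hF inf).1 (by rw [hk']; exact U_smul_inf hF 0 1)
    have g3 : toSL hF (T hF s) • toSL hF k • inf = (toSL hF k • inf : Cfsg.suzukiOvoid F m) := by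
      rw [hw, map_mul, mul_smul, map_inv] at g2
      have h4 := MulAction.injective (toSL hF (W hF)) (g2.trans g1.symm)
      rw [inv_smul_eq_iff] at h4
      exact h4.symm
    rcases T_two_fix hF hs g3 with e | e <;> rw [e] at g1
    · rw [W_smul_inf] at g1; exact inf_ne_zero g1.symm
    · rw [W_smul_zero] at g1; exact inf_ne_zero g1
  have hy1 : y = 1 := by
    rw [show y = k * (k⁻¹ * y * k) * k⁻¹ by group, hd, hd0, U_zero]; group
  rw [hy1] at hyC
  have h1 := mem_inter.1 hyC 1 rfl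
  rw [inv_one, one_mul, one_mul, mul_one] at h1
  exact inf_ne_zero ((W_smul_inf hF).symm.trans (hle' h1)).symm

end CfsgLib.Recognition.SzBinary
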