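/-
The outer automorphism group of a Suzuki group.
-/
import Mathlib
import Cfsg.Prelude.Def_KGroupFacts
import Cfsg.Agent.Lib.Recognition.Suzuki.BinaryEven

set_option autoImplicit false

namespace CfsgLib.Recognition.SzAut

open Matrix Cfsg.Lie CfsgLib.Spectrum CfsgLib.SuzukiLaws CfsgLib.Suzuki CfsgLib.Recognition.SzBorel
  CfsgLib.Recognition.SzSolvable CfsgLib.Recognition.SzSub

variable {F : Type*} [Field F] [Fintype F] [CharP F 2] {m : ℕ}
  (hF : Fintype.card F = 2 ^ (2 * m + 1))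

include hF in
theorem mapSz_range_top (φ : F ≃+* F) : (mapSz (k := m) (φ : F →+* F)).range = Sz F (2 ^ (m + 1)) := by
  rw [mapSz_range hF hF dvd_rfl, sub_top hF, ← MonoidHom.range_eq_map, Subgroup.range_subtype]

/-- The field automorphisms as group automorphisms. -/
noncomputable def fieldAut (φ : F ≃+* F) : MulAut (Sz F (2 ^ (m + 1))) :=
  (MonoidHom.ofInjective (mapSz_injective (k := m) (φ : F →+* F))).trans
    (MulEquiv.subgroupCongr (mapSz_range_top hF φ))

theorem fieldAut_val (φ : F ≃+* F) (g : Sz F (2 ^ (m + 1))) :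
    (fieldAut hF φ g).1 = mapSz (k := m) (φ : F →+* F) g := rfl

theorem fieldAut_U (φ : F ≃+* F) (a b : F) : fieldAut hF φ (U hF a b) = U hF (φ a) (φ b) :=
  Subtype.ext (mapSz_U hF hF dvd_rfl (φ : F →+* F) a b)

theorem fieldAut_T (φ : F ≃+* F) (s : Fˣ) :
    fieldAut hF φ (T hF s) = T hF (Units.map ((φ : F →+* F) : F →* F) s) :=
  Subtype.ext (mapSz_T hF hF dvd_rfl (φ : F →+* F) s)

theorem fieldAut_W (φ : F ≃+* F) : fieldAut hF φ (W hF) = W hF :=
  Subtype.ext (mapSz_W hF hF (φ : F →+* F))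

theorem fieldAut_mul (φ ψ : F ≃+* F) : fieldAut hF (φ * ψ) = fieldAut hF φ * fieldAut hF ψ := by
  apply MulEquiv.ext
  intro g
  apply Subtype.ext
  apply Units.ext
  ext i j
  rfl

/-- The field automorphisms form a homomorphism. -/
noncomputable def fieldHom : (F ≃+* F) →* MulAut (Sz F (2 ^ (m + 1))) :=
  MonoidHom.mk' (fieldAut hF) (fieldAut_mul hF)

include hF in
theorem T_comm_eq {h : Sz F (2 ^ (m + 1))} {a c : F} {r : Fˣ} (hr : r ≠ 1) (e : h = U hF a c)
    (hc : Commute h (T hF r)) : a = 0 ∧ c = 0 := by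
  obtain ⟨t, ht⟩ := commute_T hF hr hc
  have h' := TU_injective hF (show T hF 1 * U hF a c = T hF t * U hF 0 0 by
    rw [T_one, one_mul, U_zero, mul_one, ← e, ht])
  exact ⟨h'.2.1, h'.2.2⟩

include hF in
theorem exists_ne_one (hm : 1 ≤ m) : ∃ r : Fˣ, r ≠ 1 := by
  obtain ⟨s, hs⟩ := exists_sigma_ne hF hm
  exact ⟨s, fun e => hs (by rw [e, Units.val_one, one_pow])⟩

include hF in
/-- Up to an inner automorphism an automorphism normalises the unipotent radical and the torus. -/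
theorem exists_normal_form (hm : 1 ≤ m) (α : MulAut (Sz F (2 ^ (m + 1)))) :
    ∃ g : Sz F (2 ^ (m + 1)),
      (∀ u ∈ unip hF, (MulAut.conj g * α) u ∈ unip hF) ∧
      (∀ s : Fˣ, ∃ t : Fˣ, (MulAut.conj g * α) (T hF s) = T hF t) := by
  haveI : Fact (Nat.Prime 2) := ⟨Nat.prime_two⟩
  obtain ⟨g₁, hg₁⟩ := MulAction.exists_smul_eq (Sz F (2 ^ (m + 1)))
    (Sylow.mapSurjective (f := α.toMonoidHom) α.surjective (sylow hF hm)) (sylow hF hm)
  set β := MulAut.conj g₁ * α with hβ
  have hu : ∀ u ∈ unip hF, β u ∈ unip hF := fun u hu => by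
    have h : β u ∈ ((g₁ • Sylow.mapSurjective (f := α.toMonoidHom) α.surjective (sylow hF hm) :
        Sylow 2 (Sz F (2 ^ (m + 1)))) : Subgroup (Sz F (2 ^ (m + 1)))) := ⟨α u, ⟨u, hu, rfl⟩, rfl⟩
    rwa [hg₁] at h
  have hmap : (unip hF).map β.toMonoidHom = unip hF := by
    refine Subgroup.eq_of_le_of_card_ge (fun x hx => ?_) ?_
    · obtain ⟨u, hu', rfl⟩ := hx
      exact hu u hu'
    · rw [Nat.card_congr ((unip hF).equivMapOfInjective β.toMonoidHom β.injective).toEquiv]
  have hborel : ∀ x, toSL hF x • inf = (inf : Cfsg.suzukiOvoid F m) →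
      toSL hF (β x) • inf = (inf : Cfsg.suzukiOvoid F m) := fun x hx => by
    rw [← normalizer_unip hF, ← hmap, ← Subgroup.map_equiv_normalizer_eq (unip hF) β]
    exact ⟨x, (normalizer_unip hF x).2 hx, rfl⟩
  obtain ⟨r, hr⟩ := exists_ne_one hF hm
  have hne : β (T hF r) ≠ 1 := fun e => hr (T_injective hF
    ((β.map_eq_one_iff.1 e).trans (T_one hF).symm))
  obtain ⟨p, hp, hpi⟩ : ∃ p : Cfsg.suzukiOvoid F m, toSL hF (β (T hF r)) • p = p ∧ p ≠ inf := by
    by_contra hall
    push Not at hall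
    have h1 : β (T hF r) ∈ unip hF := mem_unip_of_fix hF (hborel _ (T_smul_inf hF r)) hall
    rw [← hmap] at h1
    obtain ⟨u, ⟨a, c, rfl⟩, e⟩ := h1
    have h2 := TU_injective hF (show T hF r * U hF 0 0 = T hF 1 * U hF a c by
      rw [U_zero, mul_one, T_one, one_mul]; exact (β.injective e).symm)
    exact hr h2.1
  obtain ⟨a, c, hac⟩ := exists_U_frame hF hpi
  refine ⟨(U hF a c)⁻¹ * g₁, fun u hu' => ?_, fun s => ?_⟩
  · rw [map_mul, mul_assoc, ← hβ]
    show MulAut.conj (U hF a c)⁻¹ (β u) ∈ unip hF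
    rw [MulAut.conj_apply, inv_inv]
    exact mul_mem (mul_mem (inv_mem ⟨a, c, rfl⟩) (hu u hu')) ⟨a, c, rfl⟩
  · rw [map_mul, mul_assoc, ← hβ]
    show ∃ t, MulAut.conj (U hF a c)⁻¹ (β (T hF s)) = T hF t
    rw [MulAut.conj_apply, inv_inv]
    refine (stab_two hF _).1 ⟨(conj_fix hF inf).2 ?_, (conj_fix hF _).2 ?_⟩
    · rw [U_smul_inf]; exact hborel _ (T_smul_inf hF s)
    · rw [hac]
      refine fix_of_commute hF hne ?_ hp
      show β (T hF s) * β (T hF r) = β (T hF r) * β (T hF s)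
      rw [← map_mul, ← map_mul, T_mul, T_mul, mul_comm s]

include hF in
/-- Every automorphism is a field automorphism times an inner one. -/
theorem exists_fieldAut (hm : 1 ≤ m) (α : MulAut (Sz F (2 ^ (m + 1)))) :
    ∃ (g : Sz F (2 ^ (m + 1))) (φ : F ≃+* F), MulAut.conj g * α = fieldAut hF φ := by
  obtain ⟨g₀, hU₀, hT₀⟩ := exists_normal_form hF hm α
  set β₀ := MulAut.conj g₀ * α with hβ₀
  have hmapU : (unip hF).map β₀.toMonoidHom = unip hF := by
    refine Subgroup.eq_of_le_of_card_ge (fun x hx => ?_) ?_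
    · obtain ⟨u, hu', rfl⟩ := hx
      exact hU₀ u hu'
    · rw [Nat.card_congr ((unip hF).equivMapOfInjective β₀.toMonoidHom β₀.injective).toEquiv]
  have hZ : ∀ b, ∃ d, β₀ (U hF 0 b) = U hF 0 d := fun b => by
    obtain ⟨a, d, e⟩ := hU₀ (U hF 0 b) ⟨0, b, rfl⟩
    refine ⟨d, ?_⟩
    have hcen : (⟨U hF a d, a, d, rfl⟩ : unip hF) ∈ Subgroup.center (unip hF) :=
      Subgroup.mem_center_iff.2 fun y => Subtype.ext (by
        have hy : y.1 ∈ (unip hF).map β₀.toMonoidHom := by rw [hmapU]; exact y.2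
        obtain ⟨y', hy', ey⟩ := hy
        have h := congrArg Subtype.val
          (Subgroup.mem_center_iff.1 ((unip_center_iff hF hm 0 b).2 rfl) ⟨y', hy'⟩)
        show y.1 * U hF a d = U hF a d * y.1
        rw [← ey, ← e]
        exact (map_mul β₀ _ _).symm.trans ((congrArg β₀ h).trans (map_mul β₀ _ _)))
    rw [e, (unip_center_iff hF hm a d).1 hcen]
  choose f₀ hf₀ using hZ
  have hf₀ne : f₀ 1 ≠ 0 := fun e => center_ne_one hF (one_ne_zero (α := F))
    (β₀.injective (by rw [hf₀, e, map_one, U_zero]))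
  obtain ⟨r, hr⟩ := SzBinary.exists_lam hF hf₀ne
  -- normalise
  set g := T hF r * g₀ with hg
  set β := MulAut.conj g * α with hβ
  have hβ' : ∀ x, β x = T hF r * β₀ x * (T hF r)⁻¹ := fun x => by
    rw [hβ, hg, map_mul, mul_assoc, ← hβ₀]; rfl
  have hU : ∀ a c, ∃ a' c', β (U hF a c) = U hF a' c' := fun a c => by
    obtain ⟨a', c', e⟩ := hU₀ (U hF a c) ⟨a, c, rfl⟩
    exact ⟨_, _, by rw [hβ', e, T_conj_U]⟩
  choose g₁ h₁ hgh using hU
  have hTex : ∀ s, ∃ t, β (T hF s) = T hF t := fun s => by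
    obtain ⟨t, ht⟩ := hT₀ s
    exact ⟨t, by rw [hβ', ht, T_mul, mul_inv_eq_iff_eq_mul, T_mul, mul_comm]⟩
  choose τ hτ using hTex
  set f := fun b => (r : F) ^ (2 ^ (m + 1) + 2) * f₀ b with hfdef
  have hf : ∀ b, β (U hF 0 b) = U hF 0 (f b) := fun b => by rw [hβ', hf₀, T_conj_U, mul_zero]
  have hf1 : f 1 = 1 := hr
  have hfadd : ∀ x y, f (x + y) = f x + f y := fun x y => by
    have e := map_mul β (U hF 0 x) (U hF 0 y)
    rw [U_mul, add_zero, zero_mul, add_zero, hf, hf, hf, U_mul, add_zero, zero_mul, add_zero] at e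
    exact (U_injective hF e).2
  have hfinj : Function.Injective f := fun x y e =>
    (U_injective hF (β.injective (by rw [hf, hf, e]) : U hF 0 x = U hF 0 y)).2
  have hscale : ∀ (s : Fˣ) b, f ((s : F) ^ (2 ^ (m + 1) + 2) * b) = (τ s : F) ^ (2 ^ (m + 1) + 2) * f b := by
    intro s b
    have e : β (T hF s * U hF 0 b * (T hF s)⁻¹) = T hF (τ s) * U hF 0 (f b) * (T hF (τ s))⁻¹ := by
      rw [map_mul, map_mul, map_inv, hτ, hf]
    rw [T_conj_U, mul_zero, hf, T_conj_U, mul_zero] at e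
    exact (U_injective hF e).2
  have hfmul : ∀ x y, f (x * y) = f x * f y := by
    intro x y
    have hf0 : f 0 = 0 := by
      have h := hfadd 0 0
      rw [add_zero, CharTwo.add_self_eq_zero] at h
      exact h
    by_cases hx : x = 0
    · rw [hx, zero_mul, hf0, zero_mul]
    obtain ⟨s, hs⟩ := SzBinary.exists_lam hF (inv_ne_zero hx)
    rw [mul_inv_eq_one₀ hx] at hs
    rw [← hs, hscale]
    have h1 := hscale s 1
    rw [mul_one, hf1, mul_one] at h1
    rw [h1]
  let φ : F ≃+* F :=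
    { Equiv.ofBijective f (Finite.injective_iff_bijective.1 hfinj) with
      map_mul' := hfmul
      map_add' := hfadd }
  refine ⟨g, φ, ?_⟩
  rw [← hβ]
  set γ := (fieldAut hF φ)⁻¹ * β with hγ
  suffices γ = 1 by rwa [hγ, inv_mul_eq_one, eq_comm] at this
  have hφ : ∀ x, φ x = f x := fun x => rfl
  have hφs : ∀ x, φ (φ.symm x) = x := φ.apply_symm_apply
  have hγap : ∀ x y, β x = fieldAut hF φ y → γ x = y := fun x y e => by
    show (fieldAut hF φ)⁻¹ (β x) = y
    rw [e, MulAut.inv_apply_self]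
  have hγZ : ∀ b, γ (U hF 0 b) = U hF 0 b := fun b => hγap _ _ (by
    rw [hf, fieldAut_U, map_zero, hφ])
  have hγT : ∀ s, γ (T hF s) = T hF s := fun s => hγap _ _ (by
    rw [hτ, fieldAut_T]
    congr 1
    refine Units.ext ((div_eq_one_iff_eq (Units.ne_zero _)).1 (eq_one_of_sigma_two hF ?_))
    have h1 := hscale s 1
    rw [mul_one, hf1, mul_one] at h1
    rw [div_pow, div_eq_one_iff_eq (pow_ne_zero _ (Units.ne_zero _)), ← h1]
    exact map_pow φ (s : F) _)
  have hγU : ∀ a c, ∃ a' c', γ (U hF a c) = U hF a' c' := fun a c =>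
    ⟨φ.symm (g₁ a c), φ.symm (h₁ a c), hγap _ _ (by rw [hgh, fieldAut_U, hφs, hφs])⟩
  choose ga gc hga using hγU
  set A := fun a => ga a 0 with hA
  set D := fun a => gc a 0 with hD
  have hAD : ∀ a c, γ (U hF a c) = U hF (A a) (D a + c) := fun a c => by
    have e : U hF a c = U hF a 0 * U hF 0 c := by
      rw [U_mul, add_zero, zero_add, zero_pow (by positivity), mul_zero, add_zero]
    rw [e, map_mul, hga, hγZ, U_mul, add_zero, zero_pow (by positivity), mul_zero, add_zero]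
  have hsc : ∀ (s : Fˣ) a, A ((s : F) ^ 2 ^ (m + 1) * a) = (s : F) ^ 2 ^ (m + 1) * A a ∧
      D ((s : F) ^ 2 ^ (m + 1) * a) = (s : F) ^ (2 ^ (m + 1) + 2) * D a := fun s a => by
    have e : γ (T hF s * U hF a 0 * (T hF s)⁻¹) = T hF s * U hF (A a) (D a + 0) * (T hF s)⁻¹ := by
      rw [map_mul, map_mul, map_inv, hγT, hAD]
    rw [T_conj_U, mul_zero, hAD, T_conj_U, add_zero, add_zero] at e
    exact U_injective hF e
  have hσsurj : ∀ x : F, x ≠ 0 → ∃ s : Fˣ, (s : F) ^ 2 ^ (m + 1) = x := fun x hx => by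
    obtain ⟨s, hs⟩ := (bijective_iterateFrobenius F 2 (m + 1)).2 x
    rw [iterateFrobenius_def] at hs
    exact ⟨Units.mk0 s fun e => hx (by rw [← hs, e, zero_pow (by positivity)]), hs⟩
  have hA1 : A 1 = 1 := by
    have h := map_mul γ (U hF 1 0) (U hF 1 0)
    rw [sq_U, hγZ, hAD, sq_U, one_pow, mul_one] at h
    exact sigma_root_inj' ((U_injective hF h).2.symm.trans (by simp))
  have hAD0 : ∀ a, A a = a ∧ D a = a * a ^ 2 ^ (m + 1) * D 1 := fun a => by
    by_cases ha : a = 0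
    · subst ha
      have h := hAD 0 0
      rw [U_zero, map_one, ← U_zero hF, add_zero] at h
      obtain ⟨e1, e2⟩ := U_injective hF h
      exact ⟨e1.symm, by rw [← e2, zero_mul, zero_mul]⟩
    obtain ⟨s, hs⟩ := hσsurj a ha
    obtain ⟨h1, h2⟩ := hsc s 1
    rw [mul_one, hs] at h1 h2
    refine ⟨by rw [h1, hA1, mul_one], ?_⟩
    rw [h2, pow_add, hs, ← sigma_sq hF (s : F), hs]
  have hD1 : D 1 = 0 := by
    have hadd : ∀ a a', D (a + a') = D a + D a' := fun a a' => by
      have h := map_mul γ (U hF a 0) (U hF a' 0)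
      rw [U_mul, hAD, hAD, hAD, U_mul, (hAD0 (a + a')).1, (hAD0 a).1, (hAD0 a').1, add_zero, zero_add,
        add_zero, add_zero] at h
      exact add_right_cancel (U_injective hF h).2
    obtain ⟨t, ht⟩ := exists_ne_one hF hm
    have h := hadd 1 t
    rw [(hAD0 _).2, (hAD0 (t : F)).2, add_pow_char_pow, one_pow] at h
    have h' : ((t : F) + (t : F) ^ 2 ^ (m + 1)) * D 1 = 0 := by linear_combination h
    refine (mul_eq_zero.1 h').resolve_left fun e' => ht ?_
    have e1 := (CharTwo.add_eq_zero.1 e').symm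
    have e2 := sigma_sq hF (t : F)
    rw [e1, e1] at e2
    exact Units.ext ((mul_eq_left₀ t.ne_zero).1 (by rw [← pow_two]; exact e2.symm))
  have hγU' : ∀ a c, γ (U hF a c) = U hF a c := fun a c => by
    rw [hAD, (hAD0 a).1, (hAD0 a).2, hD1, mul_zero, zero_add]
  have hγW : γ (W hF) = W hF := by
    set w := γ (W hF) with hw
    have hWT : ∀ s, w * T hF s * w = T hF s⁻¹ := fun s => by
      rw [← hγT s, hw, ← map_mul, ← map_mul, W_mul_T, hγT]
    have hww : w * w = 1 := by rw [hw, ← map_mul, W_mul_W, map_one]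
    obtain ⟨s, hs⟩ := exists_ne_one hF hm
    have hfixT : ∀ p : Cfsg.suzukiOvoid F m, toSL hF (T hF s) • p = p →
        toSL hF (T hF s⁻¹) • toSL hF w • p = toSL hF w • p := fun p hp => by
      rw [← hWT, map_mul, map_mul, mul_smul, mul_smul, smul_smul (toSL hF w) (toSL hF w) p, ← map_mul, hww, map_one,
        one_smul, hp]
    have hnb : toSL hF w • inf ≠ (inf : Cfsg.suzukiOvoid F m) := fun e => by
      obtain ⟨t, a, c, e'⟩ := (stab_inf hF w).1 e
      have h : γ (W hF) = γ (T hF t * U hF a c) := by rw [map_mul, hγT, hγU', ← hw, e']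
      have h2 := congrArg (fun x => toSL hF x • (inf : Cfsg.suzukiOvoid F m)) (γ.injective h)
      simp only [map_mul, mul_smul, W_smul_inf, U_smul_inf, T_smul_inf] at h2
      exact inf_ne_zero h2.symm
    have h1 := (T_two_fix hF (inv_ne_one.2 hs) (hfixT _ (T_smul_inf hF s))).resolve_left hnb
    have h2 : toSL hF w • (Suzuki.zero : Cfsg.suzukiOvoid F m) = inf := by
      rw [← h1, smul_smul, ← map_mul, hww, map_one, one_smul]
    obtain ⟨t, ht⟩ := (stab_two hF (W hF * w)).1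
      ⟨by rw [map_mul, mul_smul, h1, W_smul_zero], by rw [map_mul, mul_smul, h2, W_smul_inf]⟩
    have hwt : w = W hF * T hF t := by rw [← ht, ← mul_assoc, W_mul_W, one_mul]
    suffices t = 1 by rw [hwt, this, T_one, mul_one]
    have h := congrArg γ (SzBinary.W_U01_W hF)
    rw [map_mul, map_mul, map_mul, map_mul, hγZ, hγU', hγU', ← hw, hwt] at h
    have e : W hF * T hF t * U hF 0 1 * (W hF * T hF t) =
        W hF * U hF 0 ((t : F) ^ (2 ^ (m + 1) + 2)) * W hF := by
      rw [show W hF * T hF t * U hF 0 1 * (W hF * T hF t) = W hF * (T hF t * U hF 0 1) * (W hF * T hF t) by group,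
        T_mul_U, mul_zero, mul_one, show W hF * (U hF 0 ((t : F) ^ (2 ^ (m + 1) + 2)) * T hF t) * (W hF * T hF t) =
          W hF * U hF 0 ((t : F) ^ (2 ^ (m + 1) + 2)) * W hF * (W hF * T hF t * W hF * T hF t) by
          simp only [mul_assoc]; rw [← mul_assoc (W hF) (W hF) (T hF t * _), W_mul_W, one_mul],
        W_mul_T, T_mul, inv_mul_cancel, T_one, mul_one]
    rw [e] at h
    have h30 := congrArg (fun x : Sz F (2 ^ (m + 1)) => x.1.1 3 0) h
    rw [SzBinary.entry_eq_corner hF] at h30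
    have hR : (U hF 1 1 * (W hF * T hF t) * U hF 1 0 : Sz F (2 ^ (m + 1))).1.1 3 0 = (t : F) ^ (2 ^ (m + 1) + 1) := by
      simp [W, T, U, torus, antiJUnit, antiJ, uUnit_val, uMat, Matrix.mul_apply, Matrix.vecMul, dotProduct,
        Matrix.diagonal_apply, Fin.sum_univ_four]
    rw [hR, SzBinary.corner, zero_mul, zero_mul, zero_mul, zero_add, zero_add] at h30
    refine Units.ext (eq_one_of_sigma hF ?_)
    have e2 : ((t : F) ^ (2 ^ (m + 1) + 2)) ^ 2 ^ (m + 1) = ((t : F) ^ (2 ^ (m + 1) + 1)) ^ 2 := by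
      rw [pow_add (t : F), pow_add (t : F), mul_pow, mul_pow, sigma_sq hF, ← pow_mul, ← pow_mul, mul_comm 2, pow_one]
      ring
    rw [e2, pow_two] at h30
    exact (mul_eq_left₀ (pow_ne_zero _ t.ne_zero)).1 h30
  apply MulEquiv.ext
  intro x
  have hx : x ∈ sub hF (2 * m + 1) := by rw [sub_top hF]; trivial
  show γ x = x
  induction hx using Subgroup.closure_induction with
  | mem x hx =>
    rcases hx with (rfl | ⟨a, b, -, -, rfl⟩) | ⟨s, -, rfl⟩
    · exact hγW
    · exact hγU' a b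
    · exact hγT s
  | one => exact map_one γ
  | mul x y _ _ hx hy => rw [map_mul, hx, hy]
  | inv x _ hx => rw [map_inv, hx]
where
  sigma_root_inj' {a : F} (h : a * a ^ 2 ^ (m + 1) = 1) : a = 1 :=
    eq_one_of_sigma hF (by rw [pow_succ', h])

include hF in
theorem fieldAut_inner (hm : 1 ≤ m) {φ : F ≃+* F} {g : Sz F (2 ^ (m + 1))}
    (h : fieldAut hF φ = MulAut.conj g) : φ = RingEquiv.refl F := by
  have hgU : ∀ a c, g * U hF a c * g⁻¹ = U hF (φ a) (φ c) := fun a c => by
    rw [← fieldAut_U hF φ a c, h]; rfl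
  have hgT : ∀ s, g * T hF s * g⁻¹ = T hF (Units.map ((φ : F →+* F) : F →* F) s) := fun s => by
    rw [← fieldAut_T hF φ s, h]; rfl
  have hgb : toSL hF g • inf = (inf : Cfsg.suzukiOvoid F m) := by
    refine center_fix hF (b := φ 1) (by rw [map_one]; exact one_ne_zero) ?_
    rw [show U hF 0 (φ 1) = g * U hF 0 1 * g⁻¹ by rw [hgU, map_zero]]
    refine (conj_fix hF inf).1 ?_
    rw [show g⁻¹ * (g * U hF 0 1 * g⁻¹) * g = U hF 0 1 by group]
    exact U_smul_inf hF 0 1
  obtain ⟨s, a, c, rfl⟩ := (stab_inf hF g).1 hgb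
  obtain ⟨r, hr⟩ := exists_ne_one hF hm
  have hac : a = 0 ∧ c = 0 := by
    have e := hgT r
    set r' := Units.map ((φ : F →+* F) : F →* F) r
    have e1 : U hF a c * T hF r * (U hF a c)⁻¹ = T hF r' := by
      calc U hF a c * T hF r * (U hF a c)⁻¹
          = (T hF s)⁻¹ * (T hF s * U hF a c * T hF r * (T hF s * U hF a c)⁻¹) * T hF s := by group
        _ = (T hF s)⁻¹ * T hF r' * T hF s := by rw [e]
        _ = T hF r' := by rw [mul_assoc, T_mul, inv_mul_eq_iff_eq_mul, T_mul, mul_comm]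
    have hrr : r' = r := by
      have e2 : U hF a c * T hF r = T hF r' * U hF a c := by rw [← e1]; group
      have e3 : U hF a c * T hF r = T hF r * U hF (((r⁻¹ : Fˣ) : F) ^ 2 ^ (m + 1) * a)
          (((r⁻¹ : Fˣ) : F) ^ (2 ^ (m + 1) + 2) * c) := by
        rw [T_mul_U, ← mul_assoc, ← mul_assoc, ← mul_pow, ← mul_pow, ← Units.val_mul, mul_inv_cancel,
          Units.val_one, one_pow, one_pow, one_mul, one_mul]
      exact (TU_injective hF (e3.symm.trans e2)).1.symm
    refine T_comm_eq hF hr rfl (show U hF a c * T hF r = T hF r * U hF a c from ?_)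
    rw [← mul_inv_eq_iff_eq_mul, e1, hrr]
  obtain ⟨rfl, rfl⟩ := hac
  rw [U_zero, mul_one] at hgU
  have hs : s = 1 := by
    have e := hgU 0 1
    rw [T_conj_U, mul_zero, mul_one, map_zero, map_one] at e
    exact Units.ext (eq_one_of_sigma_two hF (U_injective hF e).2)
  ext x
  have e := hgU 0 x
  rw [hs, T_one, one_mul, inv_one, mul_one, map_zero] at e
  exact (U_injective hF e).2.symm

include hF in
theorem card_ringAut_eq : Nat.card (F ≃+* F) = 2 * m + 1 := by
  haveI : Fact (Nat.Prime 2) := ⟨Nat.prime_two⟩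
  letI := ZMod.algebra F 2
  have e : (F ≃+* F) ≃ (F ≃ₐ[ZMod 2] F) :=
    { toFun := fun f => AlgEquiv.ofRingEquiv (f := f) fun x =>
        RingHom.congr_fun (Subsingleton.elim ((f : F →+* F).comp (algebraMap (ZMod 2) F)) (algebraMap (ZMod 2) F)) x
      invFun := fun f => f.toRingEquiv
      left_inv := fun f => RingEquiv.ext fun x => rfl
      right_inv := fun f => AlgEquiv.ext fun x => rfl }
  rw [Nat.card_congr e, IsGalois.card_aut_eq_finrank, finrank_of_card hF]

include hF in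
/-- The outer automorphism group has order `2m + 1`. -/
theorem card_out (hm : 1 ≤ m) : Nat.card (Cfsg.Out (Sz F (2 ^ (m + 1)))) = 2 * m + 1 := by
  rw [← card_ringAut_eq hF]
  refine (Nat.card_eq_of_bijective ((QuotientGroup.mk' (Cfsg.Inn (Sz F (2 ^ (m + 1))))).comp (fieldHom hF))
    ⟨(injective_iff_map_eq_one _).2 fun φ h => ?_, fun x => ?_⟩).symm
  · obtain ⟨g, hg⟩ := (QuotientGroup.eq_one_iff (fieldAut hF φ)).1 h
    exact fieldAut_inner hF hm hg.symm
  · induction x using QuotientGroup.induction_on with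
    | H α =>
      obtain ⟨g, φ, e⟩ := exists_fieldAut hF hm α
      refine ⟨φ, ?_⟩
      show QuotientGroup.mk' (Cfsg.Inn (Sz F (2 ^ (m + 1)))) (fieldAut hF φ) = QuotientGroup.mk' _ α
      rw [← e, map_mul, (QuotientGroup.mk'_apply _ (MulAut.conj g)), (QuotientGroup.eq_one_iff (MulAut.conj g)).2 (by exact ⟨g, rfl⟩), one_mul]

end CfsgLib.Recognition.SzAut
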