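/-
The binary coset actions of a Suzuki group.
-/
import Mathlib
import Cfsg.Agent.Lib.Recognition.Suzuki.BinaryEven

set_option autoImplicit false

namespace CfsgLib.Recognition.SzBinary

open Matrix Cfsg.Lie CfsgLib.Spectrum CfsgLib.SuzukiLaws CfsgLib.Suzuki CfsgLib.Recognition.SzBorel
  CfsgLib.Recognition.SzNorm CfsgLib.Recognition.SzSolvable CfsgLib.Recognition.SzSol

variable {F : Type*} [Field F] [Fintype F] [CharP F 2] {m : ℕ}
  (hF : Fintype.card F = 2 ^ (2 * m + 1))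

include hF in
theorem mem_map_center {P : Subgroup (Sz F (2 ^ (m + 1)))} {x : Sz F (2 ^ (m + 1))} :
    x ∈ (Subgroup.center P).map P.subtype ↔ x ∈ P ∧ ∀ y ∈ P, y * x = x * y := by
  constructor
  · rintro ⟨⟨x, hx⟩, hc, rfl⟩
    exact ⟨hx, fun y hy => congrArg Subtype.val (Subgroup.mem_center_iff.1 hc ⟨y, hy⟩)⟩
  · rintro ⟨hx, hc⟩
    exact ⟨⟨x, hx⟩, Subgroup.mem_center_iff.2 fun y => Subtype.ext (hc y.1 y.2), rfl⟩

include hF in
theorem center_sylow_form (hm : 1 ≤ m) (g : Sz F (2 ^ (m + 1))) (P : Subgroup (Sz F (2 ^ (m + 1))))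
    (hP : ∀ x, x ∈ P ↔ g⁻¹ * x * g ∈ unip hF) (x : Sz F (2 ^ (m + 1))) :
    x ∈ (Subgroup.center P).map P.subtype ↔ ∃ c : F, g⁻¹ * x * g = U hF 0 c := by
  rw [mem_map_center hF]
  constructor
  · rintro ⟨hx, hc⟩
    obtain ⟨a, c, e⟩ := (hP x).1 hx
    refine ⟨c, ?_⟩
    rw [e]
    have hcen : (⟨U hF a c, a, c, rfl⟩ : unip hF) ∈ Subgroup.center (unip hF) :=
      Subgroup.mem_center_iff.2 fun y => Subtype.ext (by
        have h := hc (g * y.1 * g⁻¹) ((hP _).2 (by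
          rw [show g⁻¹ * (g * y.1 * g⁻¹) * g = y.1 by group]; exact y.2))
        show y.1 * U hF a c = U hF a c * y.1
        rw [← e]
        calc y.1 * (g⁻¹ * x * g) = g⁻¹ * (g * y.1 * g⁻¹ * x) * g := by group
          _ = g⁻¹ * (x * (g * y.1 * g⁻¹)) * g := by rw [h]
          _ = _ := by group)
    rw [(unip_center_iff hF hm a c).1 hcen]
  · rintro ⟨c, e⟩
    refine ⟨(hP x).2 (e ▸ ⟨0, c, rfl⟩), fun y hy => ?_⟩
    have hcen := Subgroup.mem_center_iff.1 ((unip_center_iff hF hm 0 c).2 rfl) ⟨_, (hP y).1 hy⟩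
    have h : g⁻¹ * y * g * U hF 0 c = U hF 0 c * (g⁻¹ * y * g) := congrArg Subtype.val hcen
    rw [← e] at h
    calc y * x = g * (g⁻¹ * y * g * (g⁻¹ * x * g)) * g⁻¹ := by group
      _ = g * (g⁻¹ * x * g * (g⁻¹ * y * g)) * g⁻¹ := by rw [h]
      _ = x * y := by group

include hF in
theorem sylow_form (hm : 1 ≤ m) (P : Sylow 2 (Sz F (2 ^ (m + 1)))) :
    ∃ g : Sz F (2 ^ (m + 1)), ∀ x, x ∈ (P : Subgroup (Sz F (2 ^ (m + 1)))) ↔ g⁻¹ * x * g ∈ unip hF := by
  haveI : Fact (Nat.Prime 2) := ⟨Nat.prime_two⟩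
  obtain ⟨g, hg⟩ := MulAction.exists_smul_eq (Sz F (2 ^ (m + 1))) (sylow hF hm) P
  refine ⟨g, fun x => ?_⟩
  rw [← hg]
  show x ∈ (unip hF).map (MulAut.conj g).toMonoidHom ↔ _
  rw [Subgroup.mem_map_equiv, MulAut.conj_symm_apply]

include hF in
theorem exists_sylow (hm : 1 ≤ m) (g : Sz F (2 ^ (m + 1))) :
    ∃ P : Sylow 2 (Sz F (2 ^ (m + 1))), ∀ x, x ∈ (P : Subgroup (Sz F (2 ^ (m + 1)))) ↔ g⁻¹ * x * g ∈ unip hF :=
  ⟨g • sylow hF hm, fun x => by
    show x ∈ (unip hF).map (MulAut.conj g).toMonoidHom ↔ _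
    rw [Subgroup.mem_map_equiv, MulAut.conj_symm_apply]⟩

include hF in
theorem forward (hm : 1 ≤ m) {H : Subgroup (Sz F (2 ^ (m + 1)))} (hH : H ≠ ⊤) (hb : Binary H) (h1 : H ≠ ⊥) :
    ∃ P : Sylow 2 (Sz F (2 ^ (m + 1))),
      H = (Subgroup.center (P : Subgroup (Sz F (2 ^ (m + 1))))).map (P : Subgroup (Sz F (2 ^ (m + 1)))).subtype := by
  have h2 := two_dvd_of_binary hF hm hb h1
  obtain ⟨k, hk, hle⟩ := exists_fix hF hm hb hH h2
  set H' := H.map (MulAut.conj k).toMonoidHom with hH'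
  have hne : H' ≠ ⊤ := fun e => hH (by
    rw [hH', ← Subgroup.map_top_of_surjective (MulAut.conj k).toMonoidHom (MulAut.conj k).surjective] at e
    exact Subgroup.map_injective (MulAut.conj k).injective e)
  have hcen : ∀ c : F, U hF 0 c ∈ H' := fun c => by
    rw [hH', Subgroup.mem_map_equiv, MulAut.conj_symm_apply]
    exact hk c
  have hform := eq_center hF hm (binary_map hF hb k) hne hle hcen
  obtain ⟨P, hP⟩ := exists_sylow hF hm k⁻¹
  refine ⟨P, ?_⟩
  ext x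
  rw [center_sylow_form hF hm k⁻¹ _ hP, inv_inv]
  constructor
  · intro hx
    exact hform _ ⟨x, hx, rfl⟩
  · rintro ⟨c, e⟩
    have h := hk c
    rwa [← e, show k⁻¹ * (k * x * k⁻¹) * k = x by group] at h

include hF in
/-- The centres of Sylow subgroups give binary actions. -/
theorem binary_center (hm : 1 ≤ m) {H : Subgroup (Sz F (2 ^ (m + 1)))} {g₀ : Sz F (2 ^ (m + 1))}
    (hH : ∀ x, x ∈ H ↔ ∃ c : F, g₀⁻¹ * x * g₀ = U hF 0 c) : Binary H := by
  intro n I J hn hp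
  let pt : Fin n → Cfsg.suzukiOvoid F m := fun i => toSL hF ((I i).out * g₀) • inf
  have hpair : ∀ i j, i ≠ j → ∃ g, g • I i = J i ∧ g • I j = J j := hp
  -- stabilisers
  have hstab : ∀ i (z : Sz F (2 ^ (m + 1))), z • I i = I i → z = 1 ∨
      (z * z = 1 ∧ ∀ r, toSL hF z • r = r ↔ r = pt i) := by
    intro i z hz
    rw [← QuotientGroup.out_eq' (I i), smul_mk_eq, hH] at hz
    obtain ⟨c, hc⟩ := hz
    set k := (I i).out * g₀ with hk
    have hz' : z = k * U hF 0 c * k⁻¹ := by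
      rw [← hc, hk]; group
    by_cases hc0 : c = 0
    · exact Or.inl (by rw [hz', hc0, U_zero]; group)
    have hsq : z * z = 1 := by
      rw [hz', show k * U hF 0 c * k⁻¹ * (k * U hF 0 c * k⁻¹) = k * (U hF 0 c * U hF 0 c) * k⁻¹ by group,
        center_sq]
      group
    refine Or.inr ⟨hsq, fun r => ⟨fun hr => ?_, fun hr => ?_⟩⟩
    · have h1 : toSL hF (k⁻¹ * z * k) • (toSL hF k)⁻¹ • r = (toSL hF k)⁻¹ • r :=
        (conj_fix hF _).2 (by rw [smul_inv_smul]; exact hr)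
      rw [show k⁻¹ * z * k = U hF 0 c by rw [hz']; group] at h1
      have h2 := center_fix hF hc0 h1
      rw [inv_smul_eq_iff] at h2
      exact h2
    · subst hr
      refine (conj_fix hF inf).1 ?_
      rw [← hk, show k⁻¹ * z * k = U hF 0 c by rw [hz']; group]
      exact U_smul_inf hF 0 c
  have hsame : ∀ i j (z : Sz F (2 ^ (m + 1))), pt i = pt j → z • I i = I i → z • I j = I j := by
    intro i j z hij hz
    rw [← QuotientGroup.out_eq' (I i), smul_mk_eq, hH] at hz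
    obtain ⟨c, hc⟩ := hz
    rw [← QuotientGroup.out_eq' (I j), smul_mk_eq, hH]
    set k := (I i).out * g₀ with hk
    set k' := (I j).out * g₀ with hk'
    have hb : k'⁻¹ * k ∈ borel hF := by
      show toSL hF (k'⁻¹ * k) • inf = (inf : Cfsg.suzukiOvoid F m)
      rw [map_mul, map_inv, mul_smul, inv_smul_eq_iff]
      exact hij
    obtain ⟨d, hd⟩ := exists_conj_center hF (inv_mem hb) c
    refine ⟨d, ?_⟩
    rw [← hd, inv_inv, ← hc, hk, hk']
    group
  by_cases hall : ∃ i j, pt i ≠ pt j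
  · obtain ⟨i, j, hij⟩ := hall
    have hne : i ≠ j := fun e => hij (by rw [e])
    obtain ⟨g, hgi, hgj⟩ := hpair i j hne
    refine ⟨g, fun k => ?_⟩
    by_cases hki : k = i
    · rw [hki]; exact hgi
    by_cases hkj : k = j
    · rw [hkj]; exact hgj
    obtain ⟨u, hui, huk⟩ := hpair i k (Ne.symm hki)
    obtain ⟨v, hvj, hvk⟩ := hpair j k (Ne.symm hkj)
    have ha : (g⁻¹ * u) • I i = I i := by rw [mul_smul, hui, inv_smul_eq_iff, hgi]
    have hb : (g⁻¹ * v) • I j = I j := by rw [mul_smul, hvj, inv_smul_eq_iff, hgj]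
    have hc : ((g⁻¹ * v)⁻¹ * (g⁻¹ * u)) • I k = I k := by
      rw [mul_smul, inv_smul_eq_iff, mul_smul, mul_smul, huk, hvk]
    have hfin : g⁻¹ * u = 1 ∨ g⁻¹ * v = 1 := by
      rcases hstab i _ ha with ea | ⟨ea, fa⟩
      · exact Or.inl ea
      rcases hstab j _ hb with eb | ⟨eb, fb⟩
      · exact Or.inr eb
      rcases hstab k _ hc with ec | ⟨ec, fc⟩
      · exfalso
        rw [inv_mul_eq_one] at ec
        refine hij ((fb (pt i)).1 ?_)
        rw [ec]
        exact (fa _).2 rfl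
      by_cases ha1 : g⁻¹ * u = 1
      · exact Or.inl ha1
      by_cases hb1 : g⁻¹ * v = 1
      · exact Or.inr hb1
      exfalso
      set a := g⁻¹ * u
      set b := g⁻¹ * v
      have hbi : b⁻¹ = b := inv_eq_of_mul_eq_one_right eb
      rw [hbi] at ec fc
      have hcomm : Commute a b := by
        have hai : a⁻¹ = a := inv_eq_of_mul_eq_one_right ea
        show a * b = b * a
        calc a * b = (b * a)⁻¹ := by rw [_root_.mul_inv_rev, hai, hbi]
          _ = b * a := inv_eq_of_mul_eq_one_right ec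
      exact hij ((fb (pt i)).1 (fix_of_commute hF ha1 hcomm.symm ((fa _).2 rfl)))
    rcases hfin with e | e
    · rw [inv_mul_eq_one] at e; rw [e]; exact huk
    · rw [inv_mul_eq_one] at e; rw [e]; exact hvk
  · push Not at hall
    obtain ⟨g, hg0, -⟩ := hpair ⟨0, by omega⟩ ⟨1, by omega⟩ (by simp)
    refine ⟨g, fun k => ?_⟩
    by_cases hk0 : k = ⟨0, by omega⟩
    · rw [hk0]; exact hg0
    obtain ⟨u, hu0, huk⟩ := hpair ⟨0, by omega⟩ k (Ne.symm hk0)
    have ha : (g⁻¹ * u) • I ⟨0, by omega⟩ = I ⟨0, by omega⟩ := by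
      rw [mul_smul, hu0, inv_smul_eq_iff, hg0]
    have h := hsame _ k _ (hall _ _) ha
    rw [mul_smul, huk, inv_smul_eq_iff] at h
    exact h.symm

omit [Fintype F] [CharP F 2] in
theorem binary_bot : Binary (⊥ : Subgroup (Sz F (2 ^ (m + 1)))) := by
  intro n I J hn hp
  obtain ⟨g, hg0, -⟩ := hp ⟨0, by omega⟩ ⟨1, by omega⟩ (by simp)
  refine ⟨g, fun k => ?_⟩
  by_cases hk0 : k = ⟨0, by omega⟩
  · rw [hk0]; exact hg0
  obtain ⟨u, hu0, huk⟩ := hp ⟨0, by omega⟩ k (Ne.symm hk0)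
  have ha : (g⁻¹ * u) • I ⟨0, by omega⟩ = I ⟨0, by omega⟩ := by
    rw [mul_smul, hu0, inv_smul_eq_iff, hg0]
  rw [← QuotientGroup.out_eq' (I _), smul_mk_eq, Subgroup.mem_bot] at ha
  have hu : g = u := by
    have h2 : g⁻¹ * u = 1 := by
      calc g⁻¹ * u = (I ⟨0, by omega⟩).out * ((I ⟨0, by omega⟩).out⁻¹ * (g⁻¹ * u) * (I ⟨0, by omega⟩).out) *
            (I ⟨0, by omega⟩).out⁻¹ := by group
        _ = 1 := by rw [ha]; group
    exact inv_mul_eq_one.1 h2
  rw [hu]; exact huk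

end CfsgLib.Recognition.SzBinary
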