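/-
Transitive actions of a Suzuki group in which non-identity elements fix at most two points.
-/
import Mathlib
import Cfsg.Agent.Lib.Recognition.Suzuki.Borel

set_option autoImplicit false

namespace CfsgLib.Recognition.SzFixity

open Matrix Cfsg.Lie CfsgLib.Spectrum CfsgLib.SuzukiLaws CfsgLib.Suzuki CfsgLib.Recognition.SzBorel

variable {F : Type*} [Field F] [Fintype F] [CharP F 2] {m : ℕ}
  (hF : Fintype.card F = 2 ^ (2 * m + 1))
variable {Ω : Type*} [Finite Ω] [MulAction (Sz F (2 ^ (m + 1))) Ω]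

theorem two_points {h : Sz F (2 ^ (m + 1))}
    (hh : Nat.card (MulAction.fixedBy Ω h) ≤ 2) {a b c : Ω} (ha : h • a = a) (hb : h • b = b)
    (hc : h • c = c) : a = b ∨ a = c ∨ b = c := by
  by_contra hne
  simp only [not_or] at hne
  obtain ⟨h1, h2, h3⟩ := hne
  haveI := Fintype.ofFinite (MulAction.fixedBy Ω h)
  rw [Nat.card_eq_fintype_card] at hh
  have : 2 < Fintype.card (MulAction.fixedBy Ω h) := Fintype.two_lt_card_iff.2
    ⟨⟨a, ha⟩, ⟨b, hb⟩, ⟨c, hc⟩, fun e => h1 (congrArg Subtype.val e), fun e => h2 (congrArg Subtype.val e),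
      fun e => h3 (congrArg Subtype.val e)⟩
  omega

theorem fix_of_conj {h n : Sz F (2 ^ (m + 1))} {ω : Ω} (hn : (n⁻¹ * h * n) • ω = ω) : h • n • ω = n • ω := by
  rw [mul_smul, mul_smul, inv_smul_eq_iff] at hn
  exact hn

include hF in
theorem borel_le_stab (hm : 1 ≤ m)
    (hfix : ∀ g : Sz F (2 ^ (m + 1)), g ≠ 1 → Nat.card (MulAction.fixedBy Ω g) ≤ 2) {ω : Ω} {b : F}
    (hb : b ≠ 0) (hz : U hF 0 b • ω = ω) :
    borel hF ≤ MulAction.stabilizer (Sz F (2 ^ (m + 1))) ω := by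
  -- the centraliser of the involution and the centre of the unipotent group
  have hU : ∀ a c : F, (U hF a c * U hF a c) • ω = ω := by
    intro a c
    have hc : ∀ k : Sz F (2 ^ (m + 1)), Commute k (U hF 0 b) → U hF 0 b • k • ω = k • ω := fun k hk =>
      fix_of_conj (by rw [mul_assoc, ← hk.eq, inv_mul_cancel_left, hz])
    have hk : ∀ a c : F, Commute (U hF a c) (U hF 0 b) := fun a c => by
      show _ * _ = _ * _
      rw [U_mul, U_mul]
      congr 1
      · rw [zero_add, add_zero]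
      · simp [zero_pow, add_comm]
    rcases two_points (hfix _ (center_ne_one hF hb)) hz (hc _ (hk a c))
      (hc _ ((hk a c).mul_left (hk a c))) with h | h | h
    · rw [mul_smul, ← h, ← h]
    · exact h.symm
    · rw [mul_smul] at h ⊢
      have := MulAction.injective (U hF a c) h
      rw [← this, ← this]
  have hZ : ∀ c : F, U hF 0 c • ω = ω := fun c => by
    obtain ⟨a, rfl⟩ := exists_sigma_root hF c
    rw [← sq_U hF a 0]
    exact hU a 0
  refine borel_le hF hm fun g hg => ?_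
  show (g * g) • ω = ω
  have hc : ∀ k ∈ borel hF, U hF 0 b • k • ω = k • ω := fun k hk => by
    obtain ⟨c, hcc⟩ := exists_conj_center hF hk b
    exact fix_of_conj (by rw [hcc]; exact hZ c)
  rcases two_points (hfix _ (center_ne_one hF hb)) hz (hc g hg) (hc _ (mul_mem hg hg)) with h | h | h
  · rw [mul_smul, ← h, ← h]
  · exact h.symm
  · rw [mul_smul] at h ⊢
    have := MulAction.injective g h
    rw [← this, ← this]

include hF in
theorem not_fix_all (hm : 1 ≤ m) [FaithfulSMul (Sz F (2 ^ (m + 1))) Ω]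
    [MulAction.IsPretransitive (Sz F (2 ^ (m + 1))) Ω] (ω : Ω) :
    MulAction.stabilizer (Sz F (2 ^ (m + 1))) ω ≠ ⊤ := by
  intro h
  obtain ⟨s, hs⟩ := exists_sigma_ne hF hm
  refine hs ?_
  have h1 : T hF s = 1 := FaithfulSMul.eq_of_smul_eq_smul fun x : Ω => by
    obtain ⟨g, rfl⟩ := MulAction.exists_smul_eq (Sz F (2 ^ (m + 1))) ω x
    have hT : ∀ k : Sz F (2 ^ (m + 1)), k • ω = ω := fun k => (h ▸ Subgroup.mem_top k : k ∈ MulAction.stabilizer _ ω)
    rw [hT g, hT, one_smul]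
  rw [T_injective hF (h1.trans (T_one hF).symm)]
  simp

include hF in
/-- The action on the points fixed by an involution is the action on the ovoid. -/
theorem ovoid_case (hm : 1 ≤ m) [FaithfulSMul (Sz F (2 ^ (m + 1))) Ω]
    [MulAction.IsPretransitive (Sz F (2 ^ (m + 1))) Ω] {ω : Ω}
    (hle : borel hF ≤ MulAction.stabilizer (Sz F (2 ^ (m + 1))) ω) :
    Nat.card Ω = Fintype.card F ^ 2 + 1 ∧ MulAction.IsMultiplyPretransitive (Sz F (2 ^ (m + 1))) Ω 2 := by
  have heq : borel hF = MulAction.stabilizer (Sz F (2 ^ (m + 1))) ω := by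
    rcases eq_or_ne (MulAction.stabilizer (Sz F (2 ^ (m + 1))) ω) (borel hF) with h | h
    · exact h.symm
    · exact absurd ((isCoatom_borel hF hm).2 _ (lt_of_le_of_ne hle (Ne.symm h))) (not_fix_all hF hm ω)
  have key : ∀ g k : Sz F (2 ^ (m + 1)), g • ω = k • ω ↔
      toSL hF g • (inf : Cfsg.suzukiOvoid F m) = toSL hF k • inf := fun g k => by
    rw [← inv_smul_eq_iff, smul_smul, ← MulAction.mem_stabilizer_iff, ← heq, mem_borel, map_mul, map_inv,
      mul_smul, inv_smul_eq_iff]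
  obtain ⟨f, hf⟩ : ∃ f : Cfsg.suzukiOvoid F m → Ω, ∀ g, f (toSL hF g • inf) = g • ω := by
    choose k hk using exists_smul_inf hF
    exact ⟨fun p => k p • ω, fun g => (key _ _).2 (hk _)⟩
  have hbij : Function.Bijective f := by
    refine ⟨fun p r e => ?_, fun x => ?_⟩
    · obtain ⟨g, rfl⟩ := exists_smul_inf hF p
      obtain ⟨k, rfl⟩ := exists_smul_inf hF r
      rw [hf, hf] at e
      exact (key _ _).1 e
    · obtain ⟨g, rfl⟩ := MulAction.exists_smul_eq (Sz F (2 ^ (m + 1))) ω x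
      exact ⟨_, hf g⟩
  refine ⟨?_, ?_⟩
  · rw [← Nat.card_eq_of_bijective f hbij, card_ovoid]
  rw [MulAction.is_two_pretransitive_iff]
  intro x y x' y' hxy hxy'
  obtain ⟨p, rfl⟩ := hbij.2 x
  obtain ⟨r, rfl⟩ := hbij.2 y
  obtain ⟨p', rfl⟩ := hbij.2 x'
  obtain ⟨r', rfl⟩ := hbij.2 y'
  obtain ⟨u, u1, u2⟩ := exists_smul_pair hF (show p ≠ r from fun e => hxy (e ▸ rfl))
  obtain ⟨v, v1, v2⟩ := exists_smul_pair hF (show p' ≠ r' from fun e => hxy' (e ▸ rfl))
  obtain ⟨w, hw⟩ : ∃ w, w = W hF := ⟨_, rfl⟩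
  have hz : toSL hF w • (inf : Cfsg.suzukiOvoid F m) = Suzuki.zero := hw ▸ W_smul_inf hF
  refine ⟨v * u⁻¹, ?_, ?_⟩
  · rw [← u1, hf, ← v1, hf, mul_smul, inv_smul_smul]
  · have e1 : r = toSL hF (u * w) • (inf : Cfsg.suzukiOvoid F m) := by rw [map_mul, mul_smul, hz, u2]
    have e2 : r' = toSL hF (v * w) • (inf : Cfsg.suzukiOvoid F m) := by rw [map_mul, mul_smul, hz, v2]
    rw [e1, e2, hf, hf, mul_smul, mul_smul, inv_smul_smul, mul_smul]

include hF in
theorem torus_le (hm : 1 ≤ m) {ω : Ω}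
    (hC : ∀ h c : Sz F (2 ^ (m + 1)), h • ω = ω → h ≠ 1 → Commute c h → c • ω = ω)
    {s : Fˣ} (hs : s ≠ 1) (hω : T hF s • ω = ω) (t : Fˣ) : T hF t • ω = ω :=
  hC _ _ hω (fun e => hs (T_injective hF (e.trans (T_one hF).symm)))
    (by show _ * _ = _ * _; rw [T_mul, T_mul, mul_comm])

/-- The torus. -/
def torusGroup : Subgroup (Sz F (2 ^ (m + 1))) :=
  (MonoidHom.mk' (T hF) fun s t => (T_mul hF s t).symm).range

theorem card_torusGroup : Nat.card (torusGroup hF) = Fintype.card F - 1 := by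
  rw [torusGroup, Nat.card_congr (MonoidHom.ofInjective (T_injective hF :
    Function.Injective (MonoidHom.mk' (T hF) fun s t => (T_mul hF s t).symm))).toEquiv.symm,
    Nat.card_units, Nat.card_eq_fintype_card]

theorem arith {q d e : ℕ} (hq : 8 ≤ q) (h2 : 2 ∣ q) (hd : Odd d) (hde : d * e = q ^ 2 + 1)
    (hmod : q - 1 ∣ d - 1) : d = 1 := by
  obtain ⟨k, hk⟩ := hmod
  obtain ⟨r, rfl⟩ : ∃ r, q = r + 1 := ⟨q - 1, by omega⟩
  rw [Nat.add_sub_cancel] at hk
  by_contra hd1
  have hd' : d = r * k + 1 := by have := hd.pos; omega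
  have hr : Odd r := by rw [Nat.odd_iff]; omega
  have hk2 : Even k := by
    by_contra hk'
    rw [Nat.not_even_iff_odd] at hk'
    have : Odd (r * k) := hr.mul hk'
    rw [Nat.odd_iff] at this hd
    omega
  obtain ⟨j, rfl⟩ := hk2
  have hj : 1 ≤ j := by
    by_contra h
    obtain rfl : j = 0 := by omega
    simp at hd'
    omega
  subst hd'
  have he : e ≤ r := by
    by_contra h
    have : (r * 2 + 1) * (r + 1) ≤ (r * (j + j) + 1) * e := by gcongr <;> omega
    nlinarith
  have he2 : e = 2 := by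
    have hdvd : (r : ℤ) ∣ (e : ℤ) - 2 := ⟨(r : ℤ) + 2 - (j + j) * e, by
      have : ((r * (j + j) + 1) * e : ℤ) = ((r : ℤ) + 1) ^ 2 + 1 := by exact_mod_cast hde
      linear_combination this⟩
    rcases eq_or_ne ((e : ℤ) - 2) 0 with h | h
    · omega
    · have := Int.le_of_dvd (abs_pos.2 h) ((dvd_abs _ _).2 hdvd)
      rcases abs_cases ((e : ℤ) - 2) with ⟨h', -⟩ | ⟨h', -⟩ <;> omega
  subst he2
  have h2' : 2 ∣ (r + 1) ^ 2 := dvd_pow h2 (by norm_num)
  omega

include hF in
theorem torus_case (hm : 1 ≤ m)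
    (hfix : ∀ g : Sz F (2 ^ (m + 1)), g ≠ 1 → Nat.card (MulAction.fixedBy Ω g) ≤ 2) {ω : Ω}
    (hodd : ∀ g : Sz F (2 ^ (m + 1)), g • ω = ω → Odd (orderOf g))
    (hC : ∀ h c : Sz F (2 ^ (m + 1)), h • ω = ω → h ≠ 1 → Commute c h → c • ω = ω)
    {s : Fˣ} (hs : s ≠ 1) (hω : T hF s • ω = ω) :
    Nat.card (MulAction.stabilizer (Sz F (2 ^ (m + 1))) ω) = Fintype.card F - 1 := by
  classical
  set H := MulAction.stabilizer (Sz F (2 ^ (m + 1))) ω with hH
  have hTle : torusGroup hF ≤ H := by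
    rintro _ ⟨t, rfl⟩
    exact torus_le hF hm hC hs hω t
  have hW : W hF • ω ≠ ω := fun e => by
    have := hodd _ e
    have h2 : orderOf (W hF) = 2 := orderOf_eq_prime (by rw [pow_two, W_mul_W]) (fun e1 => by
      have := W_smul_inf hF
      rw [e1, map_one, one_smul] at this
      exact inf_ne_zero this)
    rw [h2] at this
    exact absurd this (by decide)
  -- elements permuting the two base points
  have hpair : ∀ x : Sz F (2 ^ (m + 1)), x ∈ H →
      (toSL hF x • inf = (inf : Cfsg.suzukiOvoid F m) ∨ toSL hF x • inf = (Suzuki.zero : Cfsg.suzukiOvoid F m)) →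
      (toSL hF x • Suzuki.zero = (inf : Cfsg.suzukiOvoid F m) ∨
        toSL hF x • Suzuki.zero = (Suzuki.zero : Cfsg.suzukiOvoid F m)) → x ∈ torusGroup hF := by
    intro x hx h1 h2
    rcases h1 with h1 | h1
    · rcases h2 with h2 | h2
      · exact absurd (MulAction.injective _ (h1.trans h2.symm)) inf_ne_zero
      · obtain ⟨t, rfl⟩ := (stab_two hF x).1 ⟨h1, h2⟩
        exact ⟨t, rfl⟩
    · rcases h2 with h2 | h2
      · obtain ⟨t, ht⟩ := (stab_two hF (W hF * x)).1 ⟨by rw [map_mul, mul_smul, h1, W_smul_zero],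
          by rw [map_mul, mul_smul, h2, W_smul_inf]⟩
        refine absurd ?_ hW
        have h3 : x = W hF * T hF t := by rw [← ht, ← mul_assoc, W_mul_W, one_mul]
        have h4 : W hF = x * (T hF t)⁻¹ := by rw [h3, mul_inv_cancel_right]
        rw [h4]
        exact mul_mem hx (inv_mem (hTle ⟨t, rfl⟩))
      · exact absurd (MulAction.injective _ (h1.trans h2.symm)) inf_ne_zero
  -- the fixed cosets of a torus element in the stabiliser
  let T₀ : Subgroup H := (torusGroup hF).subgroupOf H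
  have hfixc : ∀ t : T₀, t ≠ 1 → MulAction.fixedBy (H ⧸ T₀) t = {((1 : H) : H ⧸ T₀)} := by
    intro t ht
    ext x
    constructor
    · induction x using QuotientGroup.induction_on with
      | H a =>
        intro hx
        have hx' : a⁻¹ * (t : H) * a ∈ T₀ := by
          have := QuotientGroup.eq.1 (hx : (((t : H) * a : H) : H ⧸ T₀) = (a : H ⧸ T₀))
          have h' := inv_mem this
          simp only [_root_.mul_inv_rev, inv_inv, Subgroup.coe_subtype, smul_eq_mul, ← mul_assoc] at h'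
          exact h'
        obtain ⟨u, hu⟩ := t.2
        obtain ⟨v, hv⟩ := hx'
        change T hF u = ((t : H) : Sz F (2 ^ (m + 1))) at hu
        change T hF v = ((a⁻¹ * (t : H) * a : H) : Sz F (2 ^ (m + 1))) at hv
        rw [Subgroup.coe_mul, Subgroup.coe_mul, Subgroup.coe_inv, ← hu] at hv
        have hu1 : u ≠ 1 := fun e => ht (Subtype.ext (Subtype.ext (by rw [← hu, e, T_one]; rfl)))
        have hfx : ∀ p : Cfsg.suzukiOvoid F m, toSL hF (T hF v) • p = p →
            toSL hF (a : Sz F (2 ^ (m + 1))) • p = inf ∨ toSL hF (a : Sz F (2 ^ (m + 1))) • p = Suzuki.zero :=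
          fun p hp => T_two_fix hF hu1 ((conj_fix hF p).1 (by rwa [← hv]))
        have := hpair a a.2 (hfx _ (T_smul_inf hF v)) (hfx _ (T_smul_zero hF v))
        exact Set.mem_singleton_iff.2 (QuotientGroup.eq.2 (by rw [mul_one]; exact inv_mem this))
    · rintro rfl
      show (((t : H) * 1 : H) : H ⧸ T₀) = _
      exact QuotientGroup.eq.2 (by rw [mul_one, mul_one]; exact inv_mem t.2)
  haveI : Fintype T₀ := Fintype.ofFinite _
  haveI : Fintype (H ⧸ T₀) := Fintype.ofFinite _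
  haveI : Fintype (Quotient (MulAction.orbitRel T₀ (H ⧸ T₀))) := Fintype.ofFinite _
  have hburn := MulAction.sum_card_fixedBy_eq_card_orbits_mul_card_group T₀ (H ⧸ T₀)
  rw [← Finset.add_sum_erase Finset.univ _ (Finset.mem_univ (1 : T₀)),
    Finset.sum_congr rfl (g := fun _ => 1) (fun t ht => by
      rw [Fintype.card_eq_nat_card, hfixc t (Finset.mem_erase.1 ht).1]
      simp)] at hburn
  simp only [Finset.sum_const, smul_eq_mul, mul_one, Finset.card_erase_of_mem (Finset.mem_univ _),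
    Finset.card_univ] at hburn
  have hT0 : Fintype.card T₀ = Fintype.card F - 1 := by
    rw [Fintype.card_eq_nat_card, Nat.card_congr (Subgroup.subgroupOfEquivOfLe hTle).toEquiv, card_torusGroup]
  have hd1 : 1 ≤ Fintype.card (H ⧸ T₀) := Fintype.card_pos
  have hfx1 : Fintype.card (MulAction.fixedBy (H ⧸ T₀) (1 : T₀)) = Fintype.card (H ⧸ T₀) :=
    Fintype.card_congr ((Equiv.setCongr (MulAction.fixedBy_one_eq_univ _ _)).trans (Equiv.Set.univ _))
  have hcard : Nat.card H = Fintype.card (H ⧸ T₀) * (Fintype.card F - 1) := by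
    rw [Subgroup.card_eq_card_quotient_mul_card_subgroup T₀, Nat.card_eq_fintype_card,
      Nat.card_eq_fintype_card, hT0]
  have hHodd : Odd (Nat.card H) := by
    rw [← Nat.not_even_iff_odd]
    intro hev
    haveI : Fact (Nat.Prime 2) := ⟨Nat.prime_two⟩
    obtain ⟨x, hx⟩ := exists_prime_orderOf_dvd_card' 2 hev.two_dvd
    have := hodd x x.2
    rw [Subgroup.orderOf_coe, hx] at this
    exact absurd this (by decide)
  have hq : 8 ≤ Fintype.card F := by
    rw [hF]
    exact le_trans (by norm_num) (Nat.pow_le_pow_right (by norm_num) (by omega : 3 ≤ 2 * m + 1))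
  have hdq : Fintype.card (H ⧸ T₀) ∣ Fintype.card F ^ 2 + 1 := by
    have h1 : Nat.card H ∣ Fintype.card F ^ 2 * (Fintype.card F - 1) * (Fintype.card F ^ 2 + 1) :=
      by rw [hF, ← card_group hF hm]; exact Subgroup.card_subgroup_dvd_card H
    rw [hcard, mul_assoc, mul_comm (Fintype.card F - 1), ← mul_assoc] at h1
    have hq' : 1 < Fintype.card F := Fintype.one_lt_card
    have h3 := Nat.dvd_of_mul_dvd_mul_right (by omega) h1
    refine Nat.Coprime.dvd_of_dvd_mul_left ?_ h3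
    have h4 : Odd (Fintype.card (H ⧸ T₀)) := by
      rw [hcard, Nat.odd_mul] at hHodd
      exact hHodd.1
    rw [hF, ← pow_mul]
    exact (h4.coprime_two_right).pow_right _
  obtain ⟨e, he⟩ := hdq
  have hmod : Fintype.card F - 1 ∣ Fintype.card (H ⧸ T₀) - 1 := by
    refine ⟨Fintype.card (Quotient (MulAction.orbitRel T₀ (H ⧸ T₀))) - 1, ?_⟩
    rw [hT0] at hburn
    rw [Nat.mul_sub, mul_one, mul_comm, ← hburn]
    simp only [hfx1] at *
    omega
  have := arith hq (hF ▸ dvd_pow_self 2 (by omega)) (by rw [hcard, Nat.odd_mul] at hHodd; exact hHodd.1)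
    he.symm hmod
  rw [hcard, this, one_mul]

include hF in
theorem fpf_case (hm : 1 ≤ m)
    (hnorm : ∀ x : Sz F (2 ^ (m + 1)), Fpf hF x →
      Nat.card (Subgroup.normalizer ((Subgroup.centralizer ({x} : Set (Sz F (2 ^ (m + 1)))) :
        Subgroup (Sz F (2 ^ (m + 1)))) : Set (Sz F (2 ^ (m + 1))))) =
        4 * Nat.card (Subgroup.centralizer ({x} : Set (Sz F (2 ^ (m + 1))))))
    (hfix : ∀ g : Sz F (2 ^ (m + 1)), g ≠ 1 → Nat.card (MulAction.fixedBy Ω g) ≤ 2) {ω : Ω}
    (hodd : ∀ g : Sz F (2 ^ (m + 1)), g • ω = ω → Odd (orderOf g))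
    (hC : ∀ h c : Sz F (2 ^ (m + 1)), h • ω = ω → h ≠ 1 → Commute c h → c • ω = ω)
    {h : Sz F (2 ^ (m + 1))} (hf : Fpf hF h) (hω : h • ω = ω) : False := by
  classical
  have h1 : h ≠ 1 := fun e => hf inf (by rw [e, map_one, one_smul])
  set C := Subgroup.centralizer ({h} : Set (Sz F (2 ^ (m + 1)))) with hCdef
  set N := Subgroup.normalizer (C : Set (Sz F (2 ^ (m + 1)))) with hN
  have horb : ∀ x ∈ MulAction.orbit N ω, h • x = x := by
    rintro _ ⟨n, rfl⟩
    refine fix_of_conj (hC h _ hω h1 ?_)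
    exact Subgroup.mem_centralizer_singleton_iff.1 ((Subgroup.mem_normalizer_iff''.1 n.2 h).1
      (Subgroup.mem_centralizer_singleton_iff.2 rfl))
  have hle : Nat.card (MulAction.orbit N ω) ≤ 2 :=
    (Nat.card_mono (Set.toFinite _) horb).trans (hfix h h1)
  have hmul : Nat.card (MulAction.orbit N ω) * Nat.card (MulAction.stabilizer N ω) = Nat.card N := by
    rw [Nat.card_coe_set_eq, ← MulAction.index_stabilizer, Subgroup.index_mul_card]
  have hsodd : Odd (Nat.card (MulAction.stabilizer N ω)) := by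
    rw [← Nat.not_even_iff_odd]
    intro hev
    haveI : Fact (Nat.Prime 2) := ⟨Nat.prime_two⟩
    obtain ⟨x, hx⟩ := exists_prime_orderOf_dvd_card' 2 hev.two_dvd
    have := hodd ((x : N) : Sz F (2 ^ (m + 1))) x.2
    rw [Subgroup.orderOf_coe, Subgroup.orderOf_coe, hx] at this
    exact absurd this (by decide)
  have h4 : 4 ∣ Nat.card (MulAction.orbit N ω) := by
    refine (Nat.Coprime.dvd_of_dvd_mul_right ?_ (hmul ▸ hnorm h hf ▸ dvd_mul_right 4 _))
    exact (show Nat.Coprime (2 ^ 2) _ from (hsodd.coprime_two_right.pow_right 2).symm)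
  have hpos : 0 < Nat.card (MulAction.orbit N ω) := by
    haveI : Nonempty (MulAction.orbit N ω) := ⟨⟨ω, MulAction.mem_orbit_self ω⟩⟩
    exact Nat.card_pos
  have := Nat.le_of_dvd hpos h4
  omega

include hF in
/-- The two fixity-two actions. -/
theorem fixity_two (hm : 1 ≤ m) [FaithfulSMul (Sz F (2 ^ (m + 1))) Ω]
    [MulAction.IsPretransitive (Sz F (2 ^ (m + 1))) Ω]
    (hnorm : ∀ x : Sz F (2 ^ (m + 1)), Fpf hF x →
      Nat.card (Subgroup.normalizer ((Subgroup.centralizer ({x} : Set (Sz F (2 ^ (m + 1)))) :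
        Subgroup (Sz F (2 ^ (m + 1)))) : Set (Sz F (2 ^ (m + 1))))) =
        4 * Nat.card (Subgroup.centralizer ({x} : Set (Sz F (2 ^ (m + 1))))))
    (hfix : ∀ g : Sz F (2 ^ (m + 1)), g ≠ 1 → Nat.card (MulAction.fixedBy Ω g) ≤ 2)
    {g₀ : Sz F (2 ^ (m + 1))} (hg₀ : g₀ ≠ 1) {ω₀ : Ω} (hω₀ : g₀ • ω₀ = ω₀) :
    (Nat.card Ω = Fintype.card F ^ 2 + 1 ∧ MulAction.IsMultiplyPretransitive (Sz F (2 ^ (m + 1))) Ω 2) ∨
    (Nat.card Ω = Fintype.card F ^ 2 * (Fintype.card F ^ 2 + 1) ∧
      ∀ α : Ω, Nat.card (MulAction.stabilizer (Sz F (2 ^ (m + 1))) α) = Fintype.card F - 1) := by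
  classical
  by_cases hinv : ∃ z : Sz F (2 ^ (m + 1)), orderOf z = 2 ∧ z • ω₀ = ω₀
  · left
    obtain ⟨z, hz, hzω⟩ := hinv
    obtain ⟨k, b, hb, hk⟩ := exists_conj_involution hF hm hz
    refine ovoid_case hF hm (borel_le_stab hF hm hfix hb (ω := k⁻¹ • ω₀) ?_)
    rw [← hk, mul_smul, mul_smul, smul_inv_smul, hzω]
  right
  have hodd : ∀ g : Sz F (2 ^ (m + 1)), g • ω₀ = ω₀ → Odd (orderOf g) := by
    intro g hg
    by_contra hev
    rw [Nat.not_odd_iff_even] at hev
    exact hinv ⟨_, orderOf_pow_orderOf_div (orderOf_pos g).ne' hev.two_dvd,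
      (pow_mem (show g ∈ MulAction.stabilizer _ ω₀ from hg) _ : _)⟩
  have hC : ∀ h c : Sz F (2 ^ (m + 1)), h • ω₀ = ω₀ → h ≠ 1 → Commute c h → c • ω₀ = ω₀ := by
    intro h c hh h1 hc
    have hfixc : ∀ k : Sz F (2 ^ (m + 1)), Commute k h → h • k • ω₀ = k • ω₀ := fun k hk =>
      fix_of_conj (by rw [mul_assoc, ← hk.eq, inv_mul_cancel_left, hh])
    have h2 : (c * c) • ω₀ = ω₀ := by
      rcases two_points (hfix h h1) hh (hfixc c hc) (hfixc _ (hc.mul_left hc)) with e | e | e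
      · rw [mul_smul, ← e, ← e]
      · exact e.symm
      · rw [mul_smul] at e ⊢
        have := MulAction.injective c e
        rw [← this, ← this]
    obtain ⟨j, hj⟩ := odd_of_commute hF hm (hodd h hh) h1 hc
    have hj' : 2 * (j + 1) = orderOf c + 1 := by omega
    have : c = (c * c) ^ (j + 1) :=
      calc c = c ^ (orderOf c + 1) := by rw [pow_succ c, pow_orderOf_eq_one, one_mul]
        _ = c ^ (2 * (j + 1)) := congrArg (c ^ ·) hj'.symm
        _ = (c * c) ^ (j + 1) := by rw [pow_mul, pow_two]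
    rw [this]
    exact (pow_mem (show c * c ∈ MulAction.stabilizer _ ω₀ from h2) _ : _)
  rcases fpf_or_torus hF (hodd g₀ hω₀) hg₀ with hf | ⟨k, s, hs, hk⟩
  · exact (fpf_case hF hm hnorm hfix hodd hC hf hω₀).elim
  have hstab : ∀ α : Ω, Nat.card (MulAction.stabilizer (Sz F (2 ^ (m + 1))) α) = Fintype.card F - 1 := by
    have hbase : Nat.card (MulAction.stabilizer (Sz F (2 ^ (m + 1))) (k⁻¹ • ω₀)) = Fintype.card F - 1 := by
      refine torus_case hF hm hfix (fun g hg => ?_) (fun h c hh h1 hc => ?_) hs ?_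
      · rw [← MulEquiv.orderOf_eq (MulAut.conj k) g, MulAut.conj_apply]
        refine hodd _ ?_
        rw [mul_smul, mul_smul, hg, smul_inv_smul]
      · have := hC (k * h * k⁻¹) (k * c * k⁻¹) (by rw [mul_smul, mul_smul, hh, smul_inv_smul])
          (fun e => h1 (conj_eq_one_iff.1 e)) (by
            show _ * _ = _ * _
            rw [show k * c * k⁻¹ * (k * h * k⁻¹) = k * (c * h) * k⁻¹ by group, hc.eq]; group)
        rwa [mul_smul, mul_smul, ← eq_inv_smul_iff] at this
      · rw [← hk, mul_smul, mul_smul, smul_inv_smul, hω₀]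
    intro α
    obtain ⟨g, rfl⟩ := MulAction.exists_smul_eq (Sz F (2 ^ (m + 1))) (k⁻¹ • ω₀) α
    rw [MulAction.stabilizer_smul_eq_stabilizer_map_conj,
      ← Nat.card_congr ((Subgroup.equivMapOfInjective _ _ (MulAut.conj g).injective).toEquiv), hbase]
  refine ⟨?_, hstab⟩
  have hc := Subgroup.card_mul_index (MulAction.stabilizer (Sz F (2 ^ (m + 1))) ω₀)
  rw [hstab, MulAction.index_stabilizer_of_transitive, card_group hF hm] at hc
  have hq1 : 0 < Fintype.card F - 1 := by
    have : 1 < Fintype.card F := Fintype.one_lt_card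
    omega
  refine Nat.eq_of_mul_eq_mul_left hq1 (hc.trans ?_)
  rw [hF]
  ring

end CfsgLib.Recognition.SzFixity
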