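/-
A Suzuki group has no nilpotent minimal cover.
-/
import Mathlib
import Cfsg.Agent.Lib.Recognition.Suzuki.Solvable

set_option autoImplicit false

namespace CfsgLib.Recognition.SzNilCover

open Matrix Cfsg.Lie CfsgLib.Spectrum CfsgLib.SuzukiLaws CfsgLib.Suzuki CfsgLib.Recognition.SzBorel
  CfsgLib.Recognition.SzSolvable

variable {F : Type*} [Field F] [Fintype F] [CharP F 2] {m : ℕ}
  (hF : Fintype.card F = 2 ^ (2 * m + 1))

open Classical in
/-- The fixed points of an element, and its centraliser if there are none. -/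
noncomputable def key (g : Sz F (2 ^ (m + 1))) :
    Set (Cfsg.suzukiOvoid F m) × Subgroup (Sz F (2 ^ (m + 1))) :=
  ({p | toSL hF g • p = p}, if Fpf hF g then Subgroup.centralizer {g} else ⊥)

include hF in
theorem key_eq_of_commute (hm : 1 ≤ m) {g c : Sz F (2 ^ (m + 1))} (hg : g ≠ 1) (hc : c ≠ 1)
    (h : Commute g c) : key hF g = key hF c := by
  have hset : ∀ p : Cfsg.suzukiOvoid F m, toSL hF g • p = p ↔ toSL hF c • p = p := fun p =>
    ⟨fix_of_commute hF hg h.symm, fix_of_commute hF hc h⟩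
  refine Prod.ext (Set.ext hset) ?_
  by_cases hf : Fpf hF c
  · have hf' : Fpf hF g := fun p hp => hf p ((hset p).1 hp)
    simp only [key, if_pos hf, if_pos hf']
    exact (centralizer_eq hF hm hf (Subgroup.mem_centralizer_singleton_iff.2 h.eq) hg).2
  · have hf' : ¬ Fpf hF g := fun hf' => hf fun p hp => hf' p ((hset p).2 hp)
    simp only [key, if_neg hf, if_neg hf']

include hF in
theorem key_eq_of_nilpotent (hm : 1 ≤ m) (A : Subgroup (Sz F (2 ^ (m + 1)))) [Group.IsNilpotent A]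
    {g h : Sz F (2 ^ (m + 1))} (hg : g ∈ A) (hh : h ∈ A) (hg1 : g ≠ 1) (hh1 : h ≠ 1) :
    key hF g = key hF h := by
  haveI : Nontrivial A := (Subgroup.nontrivial_iff_ne_bot A).2 fun e => hg1 (Subgroup.mem_bot.1 (e ▸ hg))
  haveI : Nontrivial (Subgroup.center A) :=
    (Subgroup.nontrivial_iff_ne_bot _).2 (Group.IsNilpotent.center_ne_bot _)
  obtain ⟨c, hc⟩ := exists_ne (1 : Subgroup.center A)
  have hcc : ∀ x ∈ A, Commute x ((c : A) : Sz F (2 ^ (m + 1))) := fun x hx =>
    congrArg Subtype.val (Subgroup.mem_center_iff.1 c.2 ⟨x, hx⟩)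
  have hc1 : ((c : A) : Sz F (2 ^ (m + 1))) ≠ 1 := fun e => hc (Subtype.ext (Subtype.ext e))
  exact (key_eq_of_commute hF hm hg1 hc1 (hcc g hg)).trans (key_eq_of_commute hF hm hh1 hc1 (hcc h hh)).symm

/-- The stabiliser of a point as a subgroup. -/
noncomputable def pointStab (p : Cfsg.suzukiOvoid F m) : Subgroup (Sz F (2 ^ (m + 1))) :=
  (MulAction.stabilizer (Cfsg.Sz F m) p).comap (toSL hF)

theorem mem_pointStab {p : Cfsg.suzukiOvoid F m} {g : Sz F (2 ^ (m + 1))} :
    g ∈ pointStab hF p ↔ toSL hF g • p = p := Iff.rfl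

include hF in
theorem pointStab_ne_top (p : Cfsg.suzukiOvoid F m) : pointStab hF p ≠ ⊤ := by
  intro e
  have hall : ∀ g, toSL hF g • p = p := fun g => (mem_pointStab hF).1 (by rw [e]; trivial)
  obtain ⟨k, hk⟩ := exists_smul_inf hF p
  have hinf : p = inf := MulAction.injective (toSL hF k) ((hall k).trans hk.symm)
  obtain ⟨k', hk'⟩ := exists_smul_inf hF (Suzuki.zero : Cfsg.suzukiOvoid F m)
  exact inf_ne_zero ((hinf ▸ hall k').symm.trans hk')

open Classical in
/-- A proper subgroup containing every element with the same key. -/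
noncomputable def cover (h : Sz F (2 ^ (m + 1))) : Subgroup (Sz F (2 ^ (m + 1))) :=
  if hf : ∃ p : Cfsg.suzukiOvoid F m, toSL hF h • p = p then pointStab hF hf.choose
  else Subgroup.centralizer {h}

include hF in
theorem mem_cover {g h : Sz F (2 ^ (m + 1))} (e : key hF g = key hF h) : g ∈ cover hF h := by
  unfold cover
  split
  · next hf =>
    exact (mem_pointStab hF).2 ((Set.ext_iff.1 (congrArg Prod.fst e) _).2 hf.choose_spec)
  · next hf =>
    have hf1 : Fpf hF h := fun p hp => hf ⟨p, hp⟩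
    have hf2 : Fpf hF g := fun p hp => hf ⟨p, (Set.ext_iff.1 (congrArg Prod.fst e) p).1 hp⟩
    have e2 := congrArg Prod.snd e
    simp only [key, if_pos hf1, if_pos hf2] at e2
    rw [← e2]
    exact Subgroup.mem_centralizer_singleton_iff.2 rfl

include hF in
theorem cover_ne_top (h : Sz F (2 ^ (m + 1))) : cover hF h ≠ ⊤ := by
  unfold cover
  split
  · exact pointStab_ne_top hF _
  · next hf =>
    intro e
    have hc : Commute (U hF 0 (1 : F)) h := Subgroup.mem_centralizer_singleton_iff.1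
      (show U hF 0 1 ∈ Subgroup.centralizer ({h} : Set (Sz F (2 ^ (m + 1)))) by rw [e]; trivial)
    exact hf ⟨inf, commute_center hF one_ne_zero hc.symm⟩

include hF in
theorem no_nilpotent_cover (hm : 1 ≤ m) (𝓐 : Finset (Subgroup (Sz F (2 ^ (m + 1)))))
    (hA : ∀ g : Sz F (2 ^ (m + 1)), ∃ A ∈ 𝓐, g ∈ A)
    (hnil : ∀ A ∈ 𝓐, Group.IsNilpotent A) :
    ∃ 𝓑 : Finset (Subgroup (Sz F (2 ^ (m + 1)))),
      ((∀ A ∈ 𝓑, A ≠ ⊤) ∧ ∀ g : Sz F (2 ^ (m + 1)), ∃ A ∈ 𝓑, g ∈ A) ∧ 𝓑.card < 𝓐.card := by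
  classical
  haveI := Fintype.ofFinite (Sz F (2 ^ (m + 1)))
  set K := ((Finset.univ : Finset (Sz F (2 ^ (m + 1)))).filter (· ≠ 1)).image (key hF) with hK
  have hle : K.card ≤ 𝓐.card := by
    have hne : ∀ g : Sz F (2 ^ (m + 1)), g ≠ 1 → ∃ A ∈ 𝓐, g ∈ A ∧ g ≠ 1 := fun g hg => by
      obtain ⟨A, h1, h2⟩ := hA g
      exact ⟨A, h1, h2, hg⟩
    refine (Finset.card_le_card (t := 𝓐.image fun A =>
      key hF (if h : ∃ g ∈ A, g ≠ 1 then h.choose else 1)) fun k hk => ?_).trans Finset.card_image_le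
    rw [hK, Finset.mem_image] at hk
    obtain ⟨g, hg, rfl⟩ := hk
    rw [Finset.mem_filter] at hg
    obtain ⟨A, h1, h2, h3⟩ := hne g hg.2
    rw [Finset.mem_image]
    have h4 : ∃ g ∈ A, g ≠ 1 := ⟨g, h2, h3⟩
    refine ⟨A, h1, ?_⟩
    rw [dif_pos h4]
    haveI := hnil A h1
    exact key_eq_of_nilpotent hF hm A h4.choose_spec.1 h2 h4.choose_spec.2 h3
  obtain ⟨s, hs⟩ := exists_sigma_ne hF hm
  have hs1 : s ≠ 1 := fun e => hs (by rw [e, Units.val_one, one_pow])
  have hT : T hF s ≠ 1 := fun e => hs1 (T_injective hF (e.trans (T_one hF).symm))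
  have hU : U hF 0 (1 : F) ≠ 1 := center_ne_one hF one_ne_zero
  have hTK : key hF (T hF s) ∈ K :=
    Finset.mem_image.2 ⟨_, Finset.mem_filter.2 ⟨Finset.mem_univ _, hT⟩, rfl⟩
  have hUK : key hF (U hF 0 (1 : F)) ∈ K.erase (key hF (T hF s)) := by
    refine Finset.mem_erase.2 ⟨fun e => ?_,
      Finset.mem_image.2 ⟨_, Finset.mem_filter.2 ⟨Finset.mem_univ _, hU⟩, rfl⟩⟩
    have h := (Set.ext_iff.1 (congrArg Prod.fst e) (Suzuki.zero : Cfsg.suzukiOvoid F m)).2 (T_smul_zero hF s)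
    exact inf_ne_zero (center_fix hF one_ne_zero h).symm
  let rep : Set (Cfsg.suzukiOvoid F m) × Subgroup (Sz F (2 ^ (m + 1))) → Sz F (2 ^ (m + 1)) := fun k =>
    if h : ∃ g, key hF g = k then h.choose else 1
  have hrep : ∀ g, key hF (rep (key hF g)) = key hF g := fun g => by
    show key hF (if h : ∃ g', key hF g' = key hF g then h.choose else 1) = _
    have h : ∃ g', key hF g' = key hF g := ⟨g, rfl⟩
    rw [dif_pos h]
    exact h.choose_spec
  refine ⟨(K.erase (key hF (T hF s))).image fun k => cover hF (rep k), ⟨fun A hA => ?_, fun g => ?_⟩, ?_⟩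
  · obtain ⟨k, -, rfl⟩ := Finset.mem_image.1 hA
    exact cover_ne_top hF _
  · by_cases h : g ≠ 1 ∧ key hF g ≠ key hF (T hF s)
    · exact ⟨_, Finset.mem_image.2 ⟨key hF g, Finset.mem_erase.2 ⟨h.2,
        Finset.mem_image.2 ⟨g, Finset.mem_filter.2 ⟨Finset.mem_univ _, h.1⟩, rfl⟩⟩, rfl⟩,
        mem_cover hF (hrep g).symm⟩
    · refine ⟨_, Finset.mem_image.2 ⟨_, hUK, rfl⟩, ?_⟩
      have hginf : toSL hF g • inf = (inf : Cfsg.suzukiOvoid F m) := by
        by_cases h1 : g = 1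
        · rw [h1, map_one, one_smul]
        · have he : key hF g = key hF (T hF s) := not_not.1 fun h2 => h ⟨h1, h2⟩
          exact (Set.ext_iff.1 (congrArg Prod.fst he) _).2 (T_smul_inf hF s)
      set r := rep (key hF (U hF 0 (1 : F)))
      have hr := hrep (U hF 0 (1 : F))
      have hfix : ∀ p : Cfsg.suzukiOvoid F m, toSL hF r • p = p ↔ p = inf := fun p =>
        ((Set.ext_iff.1 (congrArg Prod.fst hr) p)).trans
          ⟨center_fix hF one_ne_zero, fun e => e ▸ U_smul_inf hF 0 1⟩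
      show g ∈ cover hF r
      rw [cover, dif_pos ⟨inf, (hfix inf).2 rfl⟩, mem_pointStab]
      have hex : ∃ p : Cfsg.suzukiOvoid F m, toSL hF r • p = p := ⟨inf, (hfix inf).2 rfl⟩
      rw [(hfix _).1 hex.choose_spec]
      exact hginf
  · exact (Finset.card_image_le.trans_lt (Finset.card_erase_lt_of_mem hTK)).trans_le hle

end CfsgLib.Recognition.SzNilCover
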